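import Groth.Agent.SmoothLA.PointVC
import Groth.Agent.EtBCD5.SingleQ
import Groth.Agent.EtBCD5.Key
import Groth.Agent.BcQCalc.Criterion
import Groth.Agent.CompDescent5.Descent
import Groth.Prelude.Def_PBC

/-!
# Smooth base change
-/

set_option autoImplicit false
set_option linter.unusedSectionVars false
set_option linter.style.haveILetI false
set_option backward.isDefEq.respectTransparency false
set_option backward.isDefEq.respectTransparency.types false
set_option maxHeartbeats 1600000

universe u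

open CategoryTheory CategoryTheory.Limits AlgebraicGeometry Opposite Abelian HomologicalComplex

attribute [local instance] HasDerivedCategory.standard
attribute [-instance] CategoryTheory.catToReflQuiver

noncomputable section

namespace Groth.Agent.SmoothLA

open Groth.Agent.AcycFin

attribute [local instance] EtFound.pull_preservesFiniteLimits

/-- Torsion of orders invertible on `S` is torsion for the primes invertible on `S`. -/
theorem isLTorsion_of_invertibleOn {S T : Scheme.{u}} (g : T ⟶ S) {F : EtCoh.Ab T}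
    (hF : EtPBC.IsTorsionInvertibleOn S F) : EtAcyc.IsLTorsion (EtAcyc.primesInvertibleOn S) F := fun U s x => by
  obtain ⟨V, a, n, hv, hn, h0⟩ := hF U s x
  have hne : ∀ y : S, IsUnit (n : S.residueField y) := fun y => by
    have h := hn.map (S.presheaf.germ ⊤ y trivial ≫ S.residue y).hom
    rwa [map_natCast] at h
  refine ⟨V, a, n, hv, ⟨Nat.pos_of_ne_zero fun hz => ?_, fun p hp hd => ⟨hp, fun y =>
    (isUnit_of_dvd_unit (Nat.cast_dvd_cast hd) (hne y)).ne_zero⟩⟩, h0⟩
  obtain ⟨v, -⟩ := hv
  have h := hne (g (V.hom v))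
  rw [hz, Nat.cast_zero] at h
  exact not_isUnit_zero h

variable {X S Y T : Scheme.{u}} (f : X ⟶ S) (g : T ⟶ S) (h : Y ⟶ X) (e : Y ⟶ T) (c : IsPullback e h g f)
  [QuasiCompact g] [QuasiSeparated g]

/-- The base change maps along a morphism with universally acyclic strict localizations are isomorphisms. -/
theorem isIso_bcQ_of_onStrictU (L : Set ℕ) (q : ℕ) (hf : EtAcyc.OnStrictLocalizations f (UAcy L q))
    (hL : L ⊆ EtAcyc.primesInvertibleOn S) (F : EtCoh.Ab T) (hF : EtAcyc.IsLTorsion L F)
    [PreservesFiniteLimits (EtCoh.pull e)] : IsIso (EtBC.bcQ g f h e c.w q F) := by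
  refine (BcQCalc.isIso_bcQ_iff_strict f g h e c F q).1 ?_
  intro x RS _ _ _ _ _ RX _ _ _ _ _ ψ _ hψ PS PX aS bS cS aX bX cX m w hm _
  letI : Algebra RS RX := ψ.toAlgebra
  haveI : IsLocalHom (algebraMap RS RX) := ‹IsLocalHom ψ›
  have hu := hf x RS RX hψ (hL.trans (primesInvertibleOn_mono (Hens2.specOf S (f.base x) RS)))
  have hsq : IsPullback m bX bS (Spec.map (CommRingCat.ofHom ψ)) := by
    have hXS := BcQCalc.specMap_psi f x RS RX ψ hψ
    have cX' : IsPullback (m ≫ aS) bX g (Spec.map (CommRingCat.ofHom ψ) ≫ Hens2.specOf S (f.base x) RS) := by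
      rw [w, hXS]
      exact cX
    exact IsPullback.of_right cX' hm cS
  have hb := (compN_of_isAcyclicN (hu m bX bS hsq.flip) ((EtCoh.pull aS).obj F)
    (EtAcycLib.isLTorsion_pull aS hF)).1 q le_rfl
  have he : ⇑(EtCore.HpullVia m aS aX w F q) =
      (fun r => r.comp (Ext.mk₀ (EtLim8.pullCmp aS m aX w F).hom) (add_zero q)) ∘ ⇑(EtCore.Hpull m _ q) :=
    funext fun z => via_eq_comp m aS aX w F q z
  rw [he]
  exact (EtAcycLib.bijective_comp_mk₀ (EtLim8.pullCmp aS m aX w F)).comp hb

/-- A derived base change map of a sheaf is an isomorphism as soon as the base change maps in each degree are. -/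
theorem isIso_bcMap_single {X S X' S' : Scheme.{u}} (f : X ⟶ S) (g : S' ⟶ S) (f' : X' ⟶ S') (g' : X' ⟶ X)
    (w : g' ≫ f = f' ≫ g) [PreservesFiniteLimits (EtCoh.pull g)] [PreservesFiniteLimits (EtCoh.pull g')]
    [DCoh.HasRpushEt X f] [DCoh.HasRpushEt X' f'] [DCoh.HasRpushEt S' g]
    (adj : EtBC.pullD g ⊣ DCoh.RpushEt S' g) (F : EtCoh.Ab X)
    (H : ∀ q : ℕ, IsIso (EtBC.bcQ f g f' g' w q F)) :
    IsIso (EtBC.bcMap f g f' g' w adj (EtBC.single X F)) := by
  obtain ⟨φ, hφ, -⟩ := EtBCD5.exists_resComparison g' F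
  let R := injectiveResolution F
  let R' := injectiveResolution ((EtCoh.pull g').obj F)
  haveI := hφ
  haveI : ∀ j, Injective (R'.cocomplex.X j) := R'.injective
  haveI : ∀ n, Injective ((EtBCD5.ext0 R'.cocomplex).X n) := fun n => by
    by_cases hn : 0 ≤ n
    · obtain ⟨k, rfl⟩ := Int.eq_ofNat_of_zero_le hn
      exact Injective.of_iso (extendXIso R'.cocomplex ComplexShape.embeddingUpNat (i := k) rfl).symm inferInstance
    · exact IsZero.injective (CochainComplex.isZero_of_isStrictlyGE _ 0 _ (by lia))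
  haveI : (EtBCD5.ext0 R'.cocomplex).IsKInjective := CochainComplex.isKInjective_of_injective (EtBCD5.ext0 R'.cocomplex) 0
  haveI : (R.cochainComplex).IsKInjective := CochainComplex.isKInjective_of_injective R.cochainComplex 0
  haveI := EtBCD5.isIso_Qh_quotient R.ι'
  let e : EtBC.single X F ≅ DerivedCategory.Qh.obj (EtBCD5.qH R.cochainComplex) :=
    ((DerivedCategory.singleFunctorIsoCompQ _ 0).app F) ≪≫
      ((DerivedCategory.quotientCompQhIso _).app _).symm ≪≫
        @asIso _ _ _ _ _ (EtBCD5.isIso_Qh_quotient R.ι')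
  haveI : QuasiIso (EtBCD5.extS g' φ) := by unfold EtBCD5.extS; infer_instance
  refine (EtBCD5.isIso_bcMap_iff f g f' g' w adj R.cochainComplex e (EtBCD5.extS g' φ)).2 ⟨fun q => ?_⟩
  rw [quasiIsoAt_iff_isIso_homologyMap]
  refine (EtBCD5.homology_bcMap_iff f g f' g' w adj R.cochainComplex e (EtBCD5.extS g' φ) q
    (MorphismProperty.isomorphisms _)).1 ?_
  by_cases hq : 0 ≤ q
  · obtain ⟨k, rfl⟩ := Int.eq_ofNat_of_zero_le hq
    exact (EtBCD5.homology_single_bcQ_iff f g f' g' w adj F k (MorphismProperty.isomorphisms _)).2 (H k)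
  · refine (EtBCD5.homology_bcMap_iff f g f' g' w adj R.cochainComplex e (EtBCD5.extS g' φ) q
      (MorphismProperty.isomorphisms _)).2 ?_
    show IsIso _
    refine IsZero.isIso ?_ ?_ _
    · exact ShortComplex.isZero_homology_of_isZero_X₂ _ ((EtCoh.pull g).map_isZero ((EtCoh.push f).map_isZero
        (CochainComplex.isZero_of_isStrictlyGE _ 0 _ (by lia))))
    · exact ShortComplex.isZero_homology_of_isZero_X₂ _ ((EtCoh.push f').map_isZero
        (CochainComplex.isZero_of_isStrictlyGE _ 0 _ (by lia)))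

/-- Smooth base change in each degree. -/
theorem isIso_bcQ_smooth [Smooth f] (F : EtCoh.Ab T) (hF : EtAcyc.IsLTorsion (EtAcyc.primesInvertibleOn S) F) (q : ℕ)
    [PreservesFiniteLimits (EtCoh.pull e)] : IsIso (EtBC.bcQ g f h e c.w q F) :=
  isIso_bcQ_of_onStrictU f g h e c _ q (onStrictU_smooth f _ q) subset_rfl F hF

end Groth.Agent.SmoothLA
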