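import Groth.Agent.SmoothLA.FromBC

/-!
# Corollaries for field extensions
-/

set_option autoImplicit false
set_option backward.isDefEq.respectTransparency false
set_option backward.isDefEq.respectTransparency.types false

universe u

open CategoryTheory CategoryTheory.Limits AlgebraicGeometry Opposite

noncomputable section

namespace Groth.Agent.SmoothLA

theorem isLTorsion_ne_ringChar {k : Type u} [Field k] {T : Scheme.{u}} (g : T ⟶ Spec (CommRingCat.of k))
    {F : EtCoh.Ab T} (hF : EtPBC.IsTorsionInvertibleOn (Spec (CommRingCat.of k)) F) :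
    EtAcyc.IsLTorsion {ℓ : ℕ | ℓ.Prime ∧ ℓ ≠ ringChar k} F := fun U s x => by
  obtain ⟨V, a, m, hv, hm, h0⟩ := isLTorsion_of_invertibleOn g hF U s x
  refine ⟨V, a, m, hv, ⟨hm.1, fun l hl hd => ⟨hl, fun he => ?_⟩⟩, h0⟩
  refine (isUnit_of_mem_primesInvertibleOn (hm.2 l hl hd)).ne_zero ?_
  rw [he]
  exact ringChar.Nat.cast_ringChar

end Groth.Agent.SmoothLA
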