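import Groth.Agent.SmoothLA.BC
import Groth.Agent.DepthPt5.BaseChange
import Groth.Agent.AcycFin.PbSys

/-!
# Base change along limits
-/

set_option autoImplicit false
set_option linter.unusedSectionVars false
set_option linter.style.haveILetI false
set_option backward.isDefEq.respectTransparency false
set_option backward.isDefEq.respectTransparency.types false
set_option maxHeartbeats 1600000

universe u

open CategoryTheory CategoryTheory.Limits AlgebraicGeometry Opposite

attribute [-instance] CategoryTheory.catToReflQuiver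

noncomputable section

namespace Groth.Agent.SmoothLA

open Groth.Agent.AcycFin H0PBC H0FBC EtLim8 RpushStalk

attribute [local instance] EtFound.pull_preservesFiniteLimits

variable {ι : Type u} [Preorder ι] [IsDirected ι (· ≤ ·)] [Nonempty ι] {S : Scheme.{u}} (D : ιᵒᵖ ⥤ Over S)
  (haff : ∀ ⦃a b : ιᵒᵖ⦄ (h : a ⟶ b), IsAffineHom (D.map h).left)
  (c : Cone (D ⋙ Over.forget S)) (hc : IsLimit c) (g : c.pt ⟶ S) (hg : ∀ i, c.π.app i ≫ (D.obj i).hom = g)
  {X X' : Scheme.{u}} (f : X ⟶ S) [QuasiCompact f] [QuasiSeparated f] (f' : X' ⟶ c.pt) (g' : X' ⟶ X)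
  (hsq : IsPullback g' f' f g)

include haff hc hg hsq in
/-- Base change maps which are isomorphisms at all stages are isomorphisms at the limit. -/
theorem isIso_bcQ_of_stages (F : EtCoh.Ab X) (q : ℕ)
    (hst : ∀ (i : ι) (G : EtCoh.Ab X), Nonempty (G ≅ F) →
      IsIso (EtBC.bcQ f (D.obj (op i)).hom (pullback.fst (D.obj (op i)).hom f) (pullback.snd (D.obj (op i)).hom f)
        pullback.condition.symm q G)) :
    IsIso (EtBC.bcQ f g f' g' hsq.w q F) := by
  haveI : IsConnected ιᵒᵖ := IsCofiltered.isConnected _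
  let Ss : ιᵒᵖ ⥤ Scheme.{u} := (Functor.const ιᵒᵖ).obj S
  let Ts : ιᵒᵖ ⥤ Scheme.{u} := (Functor.const ιᵒᵖ).obj X
  let fN : D ⋙ Over.forget S ⟶ Ss :=
    { app := fun a => (D.obj a).hom
      naturality := fun a b m => (Over.w (D.map m)).trans (Category.comp_id _).symm }
  let gN : Ts ⟶ Ss := { app := fun _ => f, naturality := fun a b m => (Category.id_comp f).trans (Category.comp_id f).symm }
  let Ys := pbSys f fN
  let hN : Ys ⟶ D ⋙ Over.forget S := pbFst f fN
  let eN : Ys ⟶ Ts :=
    { app := fun a => pullback.snd (fN.app a) f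
      naturality := fun a b m => (pullback.lift_snd _ _ _).trans (Category.comp_id _).symm }
  let e₀ := hsq.flip.isoPullback
  let cY : Cone Ys := (pbCone f fN c g hg).extend e₀.hom
  let e₁ : X' ⟶ (pbCone f fN c g hg).pt := e₀.hom
  haveI : IsIso e₁ := inferInstanceAs (IsIso e₀.hom)
  have hcY : IsLimit cY := IsLimit.extendIso e₁ (isLimitPbCone f fN c g hg hc)
  haveI hAX : ∀ {a b : ιᵒᵖ} (m : a ⟶ b), IsAffineHom ((D ⋙ Over.forget S).map m) := fun m => haff m
  haveI hAS : ∀ {a b : ιᵒᵖ} (m : a ⟶ b), IsAffineHom (Ss.map m) := fun m => inferInstanceAs (IsAffineHom (𝟙 S))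
  haveI hAT : ∀ {a b : ιᵒᵖ} (m : a ⟶ b), IsAffineHom (Ts.map m) := fun m => inferInstanceAs (IsAffineHom (𝟙 X))
  haveI hAY : ∀ {a b : ιᵒᵖ} (m : a ⟶ b), IsAffineHom (Ys.map m) := fun m =>
    MorphismProperty.of_isPullback (P := @IsAffineHom) (isPullback_pbSys f fN m).flip (haff m)
  let Sy : Sys Ts := baseSys (Xs := Ts) (fun _ => 𝟙 X) (fun i j hij => Category.comp_id _) F
  have hU : Sy.IsUnital := baseSys_isUnital (Xs := Ts) (fun _ => 𝟙 X) _ F
  have key := BcLim5.isIso_bcQ_limit (cX := c) (cS := constCone ιᵒᵖ S) (cT := constCone ιᵒᵖ X) (cY := cY)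
    (f := g) (g := f) (h := f') (e := g') fN gN hN eN
    (fun i => pullback.condition.symm) q Sy
    (fun i => (hg (op i)).trans (Category.comp_id g).symm)
    (fun i => (Category.id_comp f).trans (Category.comp_id f).symm)
    (fun i => by
      show (e₀.hom ≫ (pbCone f fN c g hg).π.app (op i)) ≫ pullback.fst _ _ = f' ≫ c.π.app (op i)
      rw [Category.assoc, pbCone_fst, ← Category.assoc, hsq.flip.isoPullback_hom_fst])
    (fun i => by
      show (e₀.hom ≫ (pbCone f fN c g hg).π.app (op i)) ≫ pullback.snd _ _ = g' ≫ 𝟙 X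
      rw [Category.assoc, show (pbCone f fN c g hg).π.app (op i) ≫ pullback.snd (fN.app (op i)) f = pullback.snd g f from
        pullback.lift_snd _ _ _, Category.comp_id, hsq.flip.isoPullback_hom_snd])
    hsq.w (fun _ => inferInstanceAs (QuasiCompact f)) (fun _ => inferInstanceAs (QuasiSeparated f))
    (fun a => inferInstanceAs (QuasiCompact (pullback.fst _ f)))
    (fun a => inferInstanceAs (QuasiSeparated (pullback.fst _ f)))
    hc (isLimitConstCone ιᵒᵖ S) (isLimitConstCone ιᵒᵖ X) hcY hU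
    (fun i => hst i (Sy.F i) ⟨(EtDescSplit.pullId X).app F⟩)
  haveI := isIso_baseColimHom (Xs := Ts) (fun _ => 𝟙 X) (fun i j hij => Category.comp_id _) F (constCone ιᵒᵖ X) (𝟙 X)
    (fun i => Category.comp_id _)
  exact BcLim5.isIso_bcQ_of_iso _ _ q ((EtDescSplit.pullId X).app F).symm
    (BcLim5.isIso_bcQ_of_iso _ _ q (asIso (baseColimHom (Xs := Ts) (fun _ => 𝟙 X) (fun i j hij => Category.comp_id _) F
      (constCone ιᵒᵖ X) (𝟙 X) (fun i => Category.comp_id _))).symm key)

include haff hc hg hsq in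
/-- Base change along a limit of smooth morphisms. -/
theorem isIso_bcQ_limit_smooth (hsm : ∀ i, Smooth (D.obj i).hom) (F : EtCoh.Ab X)
    (hF : EtAcyc.IsLTorsion (EtAcyc.primesInvertibleOn S) F) (q : ℕ) :
    IsIso (EtBC.bcQ f g f' g' hsq.w q F) :=
  isIso_bcQ_of_stages D haff c hc g hg f f' g' hsq F q fun i G ⟨e⟩ => by
    haveI := hsm (op i)
    exact BcLim5.isIso_bcQ_of_iso _ G q e
      (isIso_bcQ_smooth (D.obj (op i)).hom f _ _ (IsPullback.of_hasPullback (D.obj (op i)).hom f).flip F hF q)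

end Groth.Agent.SmoothLA
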