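import Groth.Agent.SmoothLA.Univ
import Groth.Agent.S3126

/-!
# Universally acyclic morphisms have acyclic varieties of vanishing cycles
-/

set_option autoImplicit false
set_option linter.unusedSectionVars false
set_option linter.style.haveILetI false
set_option backward.isDefEq.respectTransparency false
set_option backward.isDefEq.respectTransparency.types false
set_option maxHeartbeats 1600000

universe u

open CategoryTheory CategoryTheory.Limits AlgebraicGeometry Opposite Abelian
open scoped TensorProduct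

noncomputable section

namespace Groth.Agent.SmoothLA

open Groth.Agent.AcycFin EtFound.ConstVal

attribute [local instance] EtFound.pull_preservesFiniteLimits

/-- The group of global sections of a constant sheaf on a connected scheme. -/
theorem nonempty_H0_const (X : Scheme.{u}) [ConnectedSpace X] (M : Type) [AddCommGroup M] :
    Nonempty (EtCoh.H X (EtCoh.const X M) 0 ≃+ M) := by
  let hT := EtCore.topIsTerminal X
  have hc := constBy_const X (AddCommGrpCat.of (ULift.{u + 1} M)) (EtCoh.top X)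
  haveI : Nonempty (EtCoh.top X).left := inferInstanceAs (Nonempty X)
  haveI : PreconnectedSpace (EtCoh.top X).left := inferInstanceAs (PreconnectedSpace X)
  let ψ : ULift.{u + 1} M →+ (EtCoh.const X M).obj.obj (op (EtCoh.top X)) :=
    (((EtCoh.const X M).obj.map (hT.from (EtCoh.top X)).op).hom).comp
      ((toSheafify X.smallEtaleTopology ((Functor.const X.Etaleᵒᵖ).obj (AddCommGrpCat.of (ULift.{u + 1} M)))).app
        (op (EtCoh.top X))).hom
  let e := AddEquiv.ofBijective ψ ⟨φV_injective hT hc (EtCoh.top X), fun s => exists_eq_φV hT hc s⟩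
  exact ⟨(Sheaf.H.equiv₀ (EtCoh.const X M) hT).trans (e.symm.trans AddEquiv.ulift)⟩

/-- A scheme acyclic over a separably closed field has the cohomology of a point. -/
theorem point_coh_of_compN {P : Scheme.{u}} {Ω : Type u} [Field Ω] [IsSepClosed Ω] (g : P ⟶ Spec (CommRingCat.of Ω))
    (L : Set ℕ) (k : ℕ) (h : EtAcyc.CompN g L k) (n : ℕ) (hn : EtAcyc.PrimesIn L n) :
    (∀ q : ℕ, 0 < q → q ≤ k → Subsingleton (EtCoh.H P (EtCoh.const P (ZMod n)) q)) ∧
      Nonempty (EtCoh.H P (EtCoh.const P (ZMod n)) 0 ≃+ ZMod n) := by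
  have hb := (h (EtCoh.const _ (ZMod n)) (isLTorsion_of_killed hn (S3126.nsmul_const_eq_zero _ n))).1
  let φ : ∀ q, EtCoh.H (Spec (CommRingCat.of Ω)) (EtCoh.const _ (ZMod n)) q →+ EtCoh.H P (EtCoh.const P (ZMod n)) q :=
    fun q => AddMonoidHom.mk' (Kc g (ZMod n) q) fun a b => by
      simp only [Kc, map_add, Ext.add_comp]
  have hφ : ∀ q, q ≤ k → Function.Bijective (φ q) := fun q hq =>
    (EtAcycLib.bijective_comp_mk₀ (EtCore.pullConst g (ZMod n))).comp (hb q hq)
  refine ⟨fun q h0 hq => ?_, ?_⟩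
  · haveI := subsingleton_H_sepClosed Ω (EtCoh.const _ (ZMod n)) q h0
    exact (hφ q hq).2.subsingleton
  · obtain ⟨e⟩ := nonempty_H0_const (Spec (CommRingCat.of Ω)) (ZMod n)
    exact ⟨(AddEquiv.ofBijective (φ 0) (hφ 0 (Nat.zero_le k))).symm.trans e⟩

/-- The variety of vanishing cycles of a universally acyclic morphism has the cohomology of a point. -/
theorem vc_coh_of_uAcy {RS RX : Type u} [CommRing RS] [CommRing RX] [Algebra RS RX] (n : ℕ) (hn : IsUnit (n : RS))
    (hu : ∀ k, UAcy {p | p.Prime ∧ p ∣ n} k (Spec.map (CommRingCat.ofHom (algebraMap RS RX))))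
    (Ω : Type u) [Field Ω] [IsSepClosed Ω] [Algebra RS Ω] :
    (∀ q : ℕ, 0 < q → Subsingleton (EtCoh.H (Spec (CommRingCat.of (RX ⊗[RS] Ω)))
        (EtCoh.const (Spec (CommRingCat.of (RX ⊗[RS] Ω))) (ZMod n)) q)) ∧
      Nonempty (EtCoh.H (Spec (CommRingCat.of (RX ⊗[RS] Ω)))
        (EtCoh.const (Spec (CommRingCat.of (RX ⊗[RS] Ω))) (ZMod n)) 0 ≃+ ZMod n) := by
  have hn0 : 0 < n := Nat.pos_of_ne_zero fun h => by
    subst h
    have h2 := hn.map (algebraMap RS Ω)
    rw [Nat.cast_zero, map_zero] at h2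
    exact not_isUnit_zero h2
  have hp : EtAcyc.PrimesIn {p | p.Prime ∧ p ∣ n} n := ⟨hn0, fun p hp hd => ⟨hp, hd⟩⟩
  have hL : ({p | p.Prime ∧ p ∣ n} : Set ℕ) ⊆ EtAcyc.primesInvertibleOn (Spec (CommRingCat.of RS)) := fun p hp =>
    mem_primesInvertibleOn_spec hp.1 (isUnit_of_dvd_unit (Nat.cast_dvd_cast hp.2) hn)
  let f := Spec.map (CommRingCat.ofHom (algebraMap RS RX))
  let t := Spec.map (CommRingCat.ofHom (algebraMap RS Ω))
  let g := (pullbackSpecIso RS RX Ω).inv ≫ pullback.snd f t
  have sq : IsPullback ((pullbackSpecIso RS RX Ω).inv ≫ pullback.fst f t) g f t :=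
    (IsPullback.of_hasPullback f t).of_iso (pullbackSpecIso RS RX Ω) (Iso.refl _) (Iso.refl _) (Iso.refl _)
      (by simp) (by simp [g]) (by simp) (by simp)
  refine ⟨fun q hq => ?_, ?_⟩
  · exact (point_coh_of_compN g _ q (compN_of_isAcyclicN (hu q hL g _ t sq)) n hp).1 q hq le_rfl
  · exact (point_coh_of_compN g _ 0 (compN_of_isAcyclicN (hu 0 hL g _ t sq)) n hp).2

/-- A natural number nonzero in the residue field of a point is a unit in every strict henselization below it. -/
theorem isUnit_strict_of_residue {X S : Scheme.{u}} (f : X ⟶ S) (x : X) (RS : Type u) [CommRing RS]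
    [Algebra (S.presheaf.stalk (f.base x)) RS] {n : ℕ} (hn : (n : X.residueField x) ≠ 0) : IsUnit (n : RS) := by
  rw [← map_natCast (algebraMap (S.presheaf.stalk (f.base x)) RS)]
  refine IsUnit.map _ ((isUnit_map_iff (f.stalkMap x).hom _).1 ?_)
  rw [map_natCast]
  refine (IsLocalRing.residue_ne_zero_iff_isUnit _).1 ?_
  rw [map_natCast]
  exact hn

end Groth.Agent.SmoothLA
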