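import Groth.Agent.SmoothLA.BC
import Groth.Agent.EtMu5.Main
import Groth.Agent.PicCurve.Kummer
import Groth.Agent.AcycFin.GlobalUnit
import Mathlib.AlgebraicGeometry.AffineSpace

/-!
# Acyclicity of affine space
-/

set_option autoImplicit false
set_option linter.unusedSectionVars false
set_option linter.style.haveILetI false
set_option backward.isDefEq.respectTransparency false
set_option backward.isDefEq.respectTransparency.types false
set_option maxHeartbeats 1600000

universe u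

open CategoryTheory CategoryTheory.Limits AlgebraicGeometry Opposite Abelian Polynomial IsLocalRing

noncomputable section

namespace Groth.Agent.SmoothLA

open Groth.Agent.AcycFin

attribute [local instance] EtFound.pull_preservesFiniteLimits

/-- The affine line over an algebraically closed field has no cohomology in positive degrees. -/
theorem subsingleton_H_affineLine (k : Type u) [Field k] [IsAlgClosed k] {n : ℕ} (hn : (n : k) ≠ 0) (q : ℕ)
    (hq : 1 ≤ q) :
    Subsingleton (EtCoh.H (Spec (CommRingCat.of k[X])) (EtCoh.const _ (ZMod n)) q) := by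
  let P := Spec (CommRingCat.of k[X])
  rcases eq_or_lt_of_le hq with rfl | hq2
  · let f : P ⟶ Spec (CommRingCat.of k) := Spec.map (CommRingCat.ofHom (C : k →+* k[X]))
    obtain ⟨e⟩ := PicCurve.nonempty_mu_iso_const' f hn
    have hn0 : n ≠ 0 := fun h => hn (by simp [h])
    have hdiv : ∀ z : EtCoh.H P (EtCoh.Gm P) 0, ∃ w, n • w = z := fun z => by
      let ρ : Γ(P, ⊤) ≃+* k[X] := (Scheme.ΓSpecIso (CommRingCat.of k[X])).commRingCatIsoToRingEquiv
      let u : Γ(P, ⊤)ˣ := (EtMu5.h0Gm P z).toMul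
      obtain ⟨c, hc0, hc⟩ := Polynomial.isUnit_iff.1 (u.isUnit.map ρ.toRingHom)
      obtain ⟨d, hd⟩ := IsAlgClosed.exists_pow_nat_eq c (Nat.pos_of_ne_zero hn0)
      have hp : ρ.symm (C d) ^ n = (u : Γ(P, ⊤)) := by
        rw [← map_pow, ← C_pow, hd, hc]
        exact ρ.symm_apply_apply _
      have hu : IsUnit (ρ.symm (C d)) := (isUnit_pow_iff hn0).1 (hp ▸ u.isUnit)
      refine ⟨(EtMu5.h0Gm P).symm (Additive.ofMul hu.unit), (EtMu5.h0Gm P).injective ?_⟩
      rw [map_nsmul, AddEquiv.apply_symm_apply]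
      exact congrArg Additive.ofMul (Units.ext (by rw [Units.val_pow_eq_pow_val]; exact hp) : hu.unit ^ n = u)
    obtain ⟨E⟩ := PicCurve.nonempty_H1_mu (PicCurve.isUnit_natCast_Γ f hn) hdiv
    haveI : Subsingleton (EtCoh.H P (EtCoh.Gm P) 1) := (S0236.result P).2 (EtMu5.picTrivial_spec k[X])
    haveI : Subsingleton (EtCoh.H P (EtCoh.mu P n) 1) := E.toEquiv.subsingleton
    exact PBCThm.subsingleton_congr e 1 inferInstance
  · haveI : Algebra.Etale k[X] k[X] := inferInstance
    haveI : IrreducibleSpace P := inferInstanceAs (IrreducibleSpace (PrimeSpectrum k[X]))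
    refine subsingleton_of_forall_eq 0 fun z => ?_
    have h := Kc_eq_zero_of_connected k k[X] hn q hq2 (𝟙 P) z
    haveI := EtFound.pull_preservesFiniteLimits (𝟙 P)
    refine (((EtAcycLib.bijective_comp_mk₀ (EtCore.pullConst (𝟙 P) (ZMod n))).comp
      (EtAcycLib.bijective_Hpull_id (EtCoh.const P (ZMod n)) q))).1 (h.trans ?_)
    simp only [Function.comp_apply, map_zero, Ext.zero_comp]

/-- The affine line over a separably closed field is acyclic. -/
theorem isAcyclicScheme_affineLine (Ω : Type u) [Field Ω] [IsSepClosed Ω] (L : Set ℕ)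
    (hL : ∀ ℓ ∈ L, ℓ.Prime → (ℓ : Ω) ≠ 0) (n : ℕ) : EtAcyc.IsAcyclicSchemeN L n (Spec (CommRingCat.of (Polynomial Ω))) := by
  haveI : IrreducibleSpace ↥(Spec (CommRingCat.of (Polynomial Ω))) := inferInstanceAs (IrreducibleSpace (PrimeSpectrum (Polynomial Ω)))
  refine ⟨inferInstance, inferInstance, fun ℓ hℓ hℓL q hq _ => ?_⟩
  let K := AlgebraicClosure Ω
  have c := (isPullback_SpecMap_of_isPushout _ _ _ _ (H23.P1Charts.isPushout_map Ω K (algebraMap Ω K))).flip
  haveI := subsingleton_H_affineLine K (fun h => hL ℓ hℓL hℓ ((algebraMap Ω K).injective (by rw [map_natCast, map_zero, h]))) q hq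
  let a := Spec.map (CommRingCat.ofHom (Polynomial.mapRingHom (algebraMap Ω K)))
  haveI := EtFound.pull_preservesFiniteLimits a
  have hb := PBCThm.bijective_Hpull_algClosure c (EtCoh.const _ (ZMod ℓ)) q
  exact @Function.Injective.subsingleton _ _ _ hb.1
    (PBCThm.subsingleton_congr (EtCore.pullConst a (ZMod ℓ)).symm q inferInstance)

/-- The line is universally acyclic. -/
theorem uAcy_line_global (R : Type u) [CommRing R] (L : Set ℕ) (hL' : ∃ ℓ ∈ L, ℓ.Prime) (n : ℕ) :
    UAcy L n (Spec.map (CommRingCat.ofHom (C : R →+* R[X]))) := by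
  intro hL X₁ Y₁ g₁ p q sq
  let s := Spec.map (CommRingCat.ofHom (C : R →+* R[X]))
  haveI : Smooth s := by
    haveI : Algebra.Smooth R R[X] := ⟨inferInstance, inferInstance⟩
    exact (HasRingHomProperty.Spec_iff (P := @Smooth)).2 (RingHom.smooth_algebraMap.2 inferInstance)
  haveI : IsAffineHom g₁ := MorphismProperty.of_isPullback (P := @IsAffineHom) sq inferInstance
  haveI : Smooth g₁ := MorphismProperty.of_isPullback (P := @Smooth) sq ‹Smooth s›
  have hLY : L ⊆ EtAcyc.primesInvertibleOn Y₁ := hL.trans (primesInvertibleOn_mono q)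
  have hloc : ∀ k, EtAcyc.IsLocAcyclicN g₁ L k := fun k x RY RX _ _ _ _ _ _ _ _ _ _ _ _ hc =>
    isAcyclicN_antitone (hLY.trans (primesInvertibleOn_mono g₁)) (isLocAcyclicN_smooth g₁ k x RY RX hc)
  have hfib : ∀ k, EtAcyc.GeomFibresAcyclicN L k g₁ := fun k y Ω _ _ _ _ => by
    let η := EtAcyc.geomPt Y₁ y Ω
    have c := (IsPullback.of_hasPullback g₁ η).paste_horiz sq
    obtain ⟨θ, hθ⟩ := Spec.map_surjective (η ≫ q)
    have c' := (isPullback_SpecMap_of_isPushout _ _ _ _ (H23.P1Charts.isPushout_map R Ω θ.hom)).flip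
    have hq : Spec.map (CommRingCat.ofHom θ.hom) = η ≫ q := hθ
    rw [hq] at c'
    refine isAcyclicSchemeN_of_iso (c.isoIsPullback _ _ c').hom (isAcyclicScheme_affineLine Ω L ?_ k)
    intro ℓ hℓ _
    exact (isUnit_of_mem_primesInvertibleOn (primesInvertibleOn_mono (η ≫ q) (hL hℓ))).ne_zero
  rcases Nat.eq_zero_or_pos n with rfl | hn
  · refine S3471.isAcyclicN_zero g₁ L ?_ (hfib 0)
    intro x RY RX _ _ _ _ _ _ _ _ _ _ _ _ hc
    exact S3470.surjective_of_geomFibres _ L 0 ((S3471.result g₁ L hL' 0).1 (hloc 0) x RY RX hc)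
  · exact (S3470.result g₁ L hL' n hn (hloc (n - 1))).2 (hfib n)

/-- Affine spaces over affine schemes are universally acyclic. -/
theorem uAcy_mvPolynomial (R : Type u) [CommRing R] (L : Set ℕ) (hL' : ∃ ℓ ∈ L, ℓ.Prime) (n d : ℕ) :
    UAcy L n (Spec.map (CommRingCat.ofHom (MvPolynomial.C : R →+* MvPolynomial (ULift.{u} (Fin d)) R))) := by
  have key : ∀ d, UAcy L n (Spec.map (CommRingCat.ofHom (MvPolynomial.C : R →+* MvPolynomial (Fin d) R))) := by
    intro d
    induction d with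
    | zero =>
      haveI : IsIso (Spec.map (CommRingCat.ofHom (MvPolynomial.C : R →+* MvPolynomial (Fin 0) R))) :=
        inferInstanceAs (IsIso (Spec.map (MvPolynomial.isEmptyRingEquiv R (Fin 0)).symm.toCommRingCatIso.hom))
      exact uAcy_of_isIso _ L n
    | succ d ih =>
      let A := MvPolynomial (Fin d) R
      let e : MvPolynomial (Fin (d + 1)) R ≃ₐ[R] A[X] := MvPolynomial.finSuccEquiv R d
      let i := Spec.map (CommRingCat.ofHom e.toRingEquiv.toRingHom)
      haveI : IsIso i := inferInstanceAs (IsIso (Spec.map e.toRingEquiv.toCommRingCatIso.hom))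
      have h := (uAcy_comp_iff _ _ (uAcy_line_global A L hL' n)).1 ih
      have h2 : Spec.map (CommRingCat.ofHom (MvPolynomial.C : R →+* MvPolynomial (Fin (d + 1)) R)) =
          inv i ≫ Spec.map (CommRingCat.ofHom (C : A →+* A[X])) ≫
            Spec.map (CommRingCat.ofHom (MvPolynomial.C : R →+* A)) := by
        rw [IsIso.eq_inv_comp, ← Spec.map_comp, ← CommRingCat.ofHom_comp, ← Spec.map_comp, ← CommRingCat.ofHom_comp]
        exact congrArg Spec.map (CommRingCat.hom_ext (RingHom.ext fun r => e.commutes r))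
      rw [h2]
      exact (uAcy_comp_iff _ _ (uAcy_of_isIso (inv i) L n)).1 h
  let e' : MvPolynomial (ULift.{u} (Fin d)) R ≃ₐ[R] MvPolynomial (Fin d) R := MvPolynomial.renameEquiv R Equiv.ulift
  let i := Spec.map (CommRingCat.ofHom e'.toRingEquiv.toRingHom)
  haveI : IsIso i := inferInstanceAs (IsIso (Spec.map e'.toRingEquiv.toCommRingCatIso.hom))
  have h2 : Spec.map (CommRingCat.ofHom (MvPolynomial.C : R →+* MvPolynomial (ULift.{u} (Fin d)) R)) =
      inv i ≫ Spec.map (CommRingCat.ofHom (MvPolynomial.C : R →+* MvPolynomial (Fin d) R)) := by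
    rw [IsIso.eq_inv_comp, ← Spec.map_comp, ← CommRingCat.ofHom_comp]
    exact congrArg Spec.map (CommRingCat.hom_ext (RingHom.ext fun r => e'.commutes r))
  rw [h2]
  exact (uAcy_comp_iff _ _ (uAcy_of_isIso (inv i) L n)).1 (key d)

theorem isZero_of_isEmpty {Y : Scheme.{u}} [IsEmpty Y] (F : EtCoh.Ab Y) : IsZero F := by
  haveI : IsIso (0 : F ⟶ F) := (EtFound.isIso_iff_stalks _).2 fun Ω _ _ ξ => isEmptyElim (ξ (closedPoint Ω))
  rw [IsZero.iff_id_eq_zero, ← IsIso.hom_inv_id (0 : F ⟶ F), Limits.zero_comp]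

/-- Affine space is acyclic. -/
theorem affineSpace_acyclic (Y : Scheme.{u}) (m n : ℕ) (hn : IsUnit (n : Γ(Y, ⊤))) (F : EtCoh.Ab Y)
    (hF : EtCoh.KilledBy n F) :
    IsIso ((EtCoh.pullPushAdj (𝔸(ULift.{u} (Fin m); Y) ↘ Y)).unit.app F) ∧
      ∀ q : ℕ, 0 < q → IsZero ((EtCoh.Rpush (𝔸(ULift.{u} (Fin m); Y) ↘ Y) q).obj
        ((EtCoh.pull (𝔸(ULift.{u} (Fin m); Y) ↘ Y)).obj F)) := by
  let g := 𝔸(ULift.{u} (Fin m); Y) ↘ Y
  by_cases h2 : 2 ≤ n
  · let R := Γ(Y, ⊤)
    let L : Set ℕ := {p | p.Prime ∧ p ∣ n}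
    obtain ⟨p, hp, hd⟩ := Nat.exists_prime_and_dvd (show n ≠ 1 by omega)
    have hL : L ⊆ EtAcyc.primesInvertibleOn (Spec R) := fun ℓ hℓ =>
      mem_primesInvertibleOn_spec (R := R) hℓ.1 (isUnit_of_dvd_unit (Nat.cast_dvd_cast hℓ.2) hn)
    let σ := ULift.{u} (Fin m)
    have c : IsPullback (AffineSpace.map σ Y.toSpecΓ ≫ (AffineSpace.SpecIso σ R).hom) g
        (Spec.map (CommRingCat.ofHom (MvPolynomial.C : R →+* MvPolynomial σ R))) Y.toSpecΓ := by
      refine (AffineSpace.isPullback_map Y.toSpecΓ).of_iso (Iso.refl _) (AffineSpace.SpecIso σ R) (Iso.refl _)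
        (Iso.refl _) (by simp) (by simp [g, σ]) ?_ (by simp)
      rw [Iso.refl_hom, Category.comp_id, ← Iso.inv_comp_eq]
      exact AffineSpace.SpecIso_inv_over _
    have hac : ∀ k, EtAcyc.IsAcyclicN g L k := fun k =>
      uAcy_mvPolynomial R L ⟨p, ⟨hp, hd⟩, hp⟩ k m hL g _ _ c
    have hT : EtAcyc.IsLTorsion L F := isLTorsion_of_killed ⟨by omega, fun r hr hd => ⟨hr, hd⟩⟩
      ((EtFound.killedBy_iff_nsmul n F).1 hF)
    exact ⟨(unit_Rpush_of_isAcyclicN g L 0 (hac 0) F hT).1, fun q hq =>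
      (unit_Rpush_of_isAcyclicN g L q (hac q) F hT).2 q hq le_rfl⟩
  · have hz : IsZero F := by
      interval_cases n
      · haveI : IsEmpty Y := ⟨fun y => by
          have h := hn.map (Y.presheaf.germ ⊤ y trivial ≫ Y.residue y).hom
          rw [Nat.cast_zero, map_zero] at h
          exact not_isUnit_zero h⟩
        exact isZero_of_isEmpty F
      · exact (IsZero.iff_id_eq_zero _).2 (by simpa using (EtFound.killedBy_iff_nsmul 1 F).1 hF)
    haveI : (EtCoh.pull g).IsLeftAdjoint := (EtCoh.pullPushAdj g).isLeftAdjoint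
    haveI : (EtCoh.push g).IsRightAdjoint := (EtCoh.pullPushAdj g).isRightAdjoint
    exact ⟨IsZero.isIso hz ((EtCoh.push g).map_isZero ((EtCoh.pull g).map_isZero hz)) _,
      fun q _ => (EtCoh.Rpush g q).map_isZero ((EtCoh.pull g).map_isZero hz)⟩

end Groth.Agent.SmoothLA
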