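import Groth.Agent.SmoothLA.GeomFib
import Groth.Agent.S3471
import Groth.Agent.S3514
import Groth.Agent.S0754
import Mathlib.RingTheory.RingHom.StandardSmooth
import Mathlib.AlgebraicGeometry.Morphisms.Smooth

/-!
# Smooth morphisms are locally acyclic
-/

set_option autoImplicit false
set_option linter.unusedSectionVars false
set_option linter.style.haveILetI false
set_option backward.isDefEq.respectTransparency false
set_option backward.isDefEq.respectTransparency.types false
set_option maxHeartbeats 1600000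

universe u

open CategoryTheory CategoryTheory.Limits AlgebraicGeometry Opposite Polynomial IsLocalRing

noncomputable section

namespace Groth.Agent.SmoothLA

open Groth.Agent.AcycFin

theorem primesInvertibleOn_mono {A B : Scheme.{u}} (f : A ⟶ B) :
    EtAcyc.primesInvertibleOn B ⊆ EtAcyc.primesInvertibleOn A := fun ℓ hℓ =>
  ⟨hℓ.1, fun a h => hℓ.2 (f a) ((f.residueFieldMap a).hom.injective (by rw [map_natCast, map_zero, h]))⟩

theorem isAcyclicN_antitone {A B : Scheme.{u}} {f : A ⟶ B} {L L' : Set ℕ} {n : ℕ} (h : L ⊆ L')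
    (H : EtAcyc.IsAcyclicN f L' n) : EtAcyc.IsAcyclicN f L n := fun V F hF => H V F fun U s x => by
  obtain ⟨W, g, m, hg, hm, h0⟩ := hF U s x
  exact ⟨W, g, m, hg, ⟨hm.1, fun p hp hd => h (hm.2 p hp hd)⟩, h0⟩

theorem isUnit_of_mem_primesInvertibleOn {R : Type u} [CommRing R] [IsLocalRing R] {ℓ : ℕ}
    (h : ℓ ∈ EtAcyc.primesInvertibleOn (Spec (CommRingCat.of R))) : IsUnit (ℓ : R) := by
  by_contra hu
  let x : Spec (CommRingCat.of R) := closedPoint R
  letI : Algebra R ((Spec (CommRingCat.of R)).presheaf.stalk x) := StructureSheaf.stalkAlgebra _ x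
  haveI : IsLocalization.AtPrime ((Spec (CommRingCat.of R)).presheaf.stalk x) (maximalIdeal R) :=
    StructureSheaf.IsLocalization.to_stalk _ _
  refine h.2 x ?_
  have h1 : (ℓ : (Spec (CommRingCat.of R)).presheaf.stalk x) ∈ maximalIdeal _ := by
    rw [← map_natCast (algebraMap R ((Spec (CommRingCat.of R)).presheaf.stalk x)),
      IsLocalization.AtPrime.to_map_mem_maximal_iff _ (maximalIdeal R)]
    exact hu
  have h2 := (residue_eq_zero_iff (ℓ : (Spec (CommRingCat.of R)).presheaf.stalk x)).2 h1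
  rw [map_natCast] at h2
  exact h2

theorem mem_primesInvertibleOn_spec {R : Type u} [CommRing R] {ℓ : ℕ} (hℓ : ℓ.Prime) (h : IsUnit (ℓ : R)) :
    ℓ ∈ EtAcyc.primesInvertibleOn (Spec (CommRingCat.of R)) := ⟨hℓ, fun x h0 => by
  letI : Algebra R ((Spec (CommRingCat.of R)).presheaf.stalk x) := StructureSheaf.stalkAlgebra _ x
  have h1 := (h.map (algebraMap R ((Spec (CommRingCat.of R)).presheaf.stalk x))).map
    (residue ((Spec (CommRingCat.of R)).presheaf.stalk x))
  rw [map_natCast, map_natCast] at h1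
  exact h1.ne_zero h0⟩

theorem exists_prime_invertible (R : Type u) [CommRing R] [IsLocalRing R] :
    ∃ ℓ ∈ EtAcyc.primesInvertibleOn (Spec (CommRingCat.of R)), ℓ.Prime := by
  by_cases h : IsUnit (2 : R)
  · exact ⟨2, mem_primesInvertibleOn_spec Nat.prime_two (by exact_mod_cast h), Nat.prime_two⟩
  · refine ⟨3, mem_primesInvertibleOn_spec Nat.prime_three ?_, Nat.prime_three⟩
    by_contra h3
    have h1 := sub_mem ((mem_maximalIdeal _).2 (show (3 : R) ∈ nonunits R by exact_mod_cast h3))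
      ((mem_maximalIdeal _).2 (show (2 : R) ∈ nonunits R from h))
    rw [show (3 : R) - 2 = 1 by norm_num] at h1
    exact (maximalIdeal.isMaximal R).ne_top ((Ideal.eq_top_iff_one _).2 h1)

/-- Strict localizations of identities are acyclic. -/
theorem isAcyclicN_id_localization {X : Scheme.{u}} (z : X) (RZ RW : Type u) [CommRing RZ] [CommRing RW]
    [IsLocalRing RZ] [IsLocalRing RW] [Algebra (X.presheaf.stalk ((𝟙 X : X ⟶ X) z)) RZ]
    [IsLocalHom (algebraMap (X.presheaf.stalk ((𝟙 X : X ⟶ X) z)) RZ)]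
    [HZ : _root_.Hensel.IsStrictHenselization (X.presheaf.stalk ((𝟙 X : X ⟶ X) z)) RZ]
    [Algebra (X.presheaf.stalk z) RW] [IsLocalHom (algebraMap (X.presheaf.stalk z) RW)]
    [HW : _root_.Hensel.IsStrictHenselization (X.presheaf.stalk z) RW] [Algebra RZ RW]
    [IsLocalHom (algebraMap RZ RW)]
    (hc : (algebraMap RZ RW).comp (algebraMap (X.presheaf.stalk ((𝟙 X : X ⟶ X) z)) RZ) =
      (algebraMap (X.presheaf.stalk z) RW).comp ((𝟙 X : X ⟶ X).stalkMap z).hom) {L : Set ℕ} (n : ℕ) :
    EtAcyc.IsAcyclicN (Spec.map (CommRingCat.ofHom (algebraMap RZ RW))) L n := by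
  letI : Algebra (X.presheaf.stalk z) RZ := ‹Algebra (X.presheaf.stalk ((𝟙 X : X ⟶ X) z)) RZ›
  haveI : IsLocalHom (algebraMap (X.presheaf.stalk z) RZ) :=
    ‹IsLocalHom (algebraMap (X.presheaf.stalk ((𝟙 X : X ⟶ X) z)) RZ)›
  haveI hZ : _root_.Hensel.IsStrictHenselization (X.presheaf.stalk z) RZ := HZ
  have hid : ((𝟙 X : X ⟶ X).stalkMap z).hom = RingHom.id _ := congrArg CommRingCat.Hom.hom (Scheme.Hom.stalkMap_id X z)
  haveI : IsScalarTower (X.presheaf.stalk z) RZ RW :=
    .of_algebraMap_eq' (((congrArg (algebraMap (X.presheaf.stalk z) RW).comp hid).trans (RingHom.comp_id _)).symm.trans hc.symm)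
  haveI : Algebra.WeaklyEtale (X.presheaf.stalk z) RZ := S0736.result _ _ (S12237.result _ RZ)
  haveI : Algebra.WeaklyEtale (X.presheaf.stalk z) RW := S0736.result _ _ (S12237.result _ RW)
  haveI : Algebra.WeaklyEtale RZ RW := WEtLib.cancel (A := ↑(X.presheaf.stalk z)) (B := RZ) RW
  haveI : HenselianLocalRing RZ := hZ.henselian
  haveI : HenselianLocalRing RW := HW.henselian
  haveI : IsSepClosed (ResidueField RZ) := hZ.isSepClosure.sep_closed
  haveI : IsSepClosed (ResidueField RW) := HW.isSepClosure.sep_closed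
  let e := RingEquiv.ofBijective (algebraMap RZ RW) (WEtLib.bijective_algebraMap (A := RZ) (B := RW))
  haveI : IsIso (Spec.map (CommRingCat.ofHom (algebraMap RZ RW))) :=
    inferInstanceAs (IsIso (Spec.map e.toCommRingCatIso.hom))
  intro V F _ _
  haveI : IsIso (EtAcyc.prj (Spec.map (CommRingCat.ofHom (algebraMap RZ RW))) V) :=
    inferInstanceAs (IsIso (pullback.fst _ _))
  exact ⟨fun q _ => EtAcycLib.bijective_Hpull_of_isIso _ _ q, (EtAcycLib.bijective_Hpull_of_isIso _ _ (n + 1)).1⟩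

/-- Acyclicity for the primes of `L` as soon as they are invertible on the target. -/
abbrev AcyP (L : Set ℕ) (n : ℕ) ⦃A B : Scheme.{u}⦄ (h : A ⟶ B) : Prop :=
  L ⊆ EtAcyc.primesInvertibleOn B → EtAcyc.IsAcyclicN h L n

theorem acyP_comp_iff {L : Set ℕ} {n : ℕ} ⦃A B C : Scheme.{u}⦄ (a : A ⟶ B) (b : B ⟶ C) (ha : AcyP L n a) :
    AcyP L n b ↔ AcyP L n (a ≫ b) :=
  forall_congr' fun h => EtAcycLib.isAcyclicN_comp_iff a b (ha (h.trans (primesInvertibleOn_mono b)))

/-- The affine line over a strictly henselian ring, at a point. -/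
theorem geomFibres_at (R₀ : Type u) [CommRing R₀] (x : Spec (CommRingCat.of R₀[X])) (RY RX : Type u) [CommRing RY]
    [CommRing RX] [IsLocalRing RY] [IsLocalRing RX]
    [Algebra ((Spec (CommRingCat.of R₀)).presheaf.stalk
      (Spec.map (CommRingCat.ofHom (C : R₀ →+* R₀[X])) x)) RY]
    [IsLocalHom (algebraMap ((Spec (CommRingCat.of R₀)).presheaf.stalk
      (Spec.map (CommRingCat.ofHom (C : R₀ →+* R₀[X])) x)) RY)]
    [HY : _root_.Hensel.IsStrictHenselization ((Spec (CommRingCat.of R₀)).presheaf.stalk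
      (Spec.map (CommRingCat.ofHom (C : R₀ →+* R₀[X])) x)) RY]
    [Algebra ((Spec (CommRingCat.of R₀[X])).presheaf.stalk x) RX]
    [IsLocalHom (algebraMap ((Spec (CommRingCat.of R₀[X])).presheaf.stalk x) RX)]
    [HX : _root_.Hensel.IsStrictHenselization ((Spec (CommRingCat.of R₀[X])).presheaf.stalk x) RX]
    [Algebra RY RX] [IsLocalHom (algebraMap RY RX)]
    (hc : (algebraMap RY RX).comp (algebraMap ((Spec (CommRingCat.of R₀)).presheaf.stalk
      (Spec.map (CommRingCat.ofHom (C : R₀ →+* R₀[X])) x)) RY) =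
      (algebraMap ((Spec (CommRingCat.of R₀[X])).presheaf.stalk x) RX).comp
      ((Spec.map (CommRingCat.ofHom (C : R₀ →+* R₀[X]))).stalkMap x).hom)
    (L : Set ℕ) (hL : ∀ ℓ ∈ L, ℓ.Prime → IsUnit (ℓ : RY)) (n : ℕ) :
    EtAcyc.GeomFibresAcyclicN L n (Spec.map (CommRingCat.ofHom (algebraMap RY RX))) := by
  let g := Spec.map (CommRingCat.ofHom (C : R₀ →+* R₀[X]))
  let sX := Hens2.specOf (Spec (CommRingCat.of R₀[X])) x RX
  let sY := Hens2.specOf (Spec (CommRingCat.of R₀)) (g x) RY
  haveI : HenselianLocalRing RY := HY.henselian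
  haveI : HenselianLocalRing RX := HX.henselian
  haveI : IsSepClosed (ResidueField RY) := HY.isSepClosure.sep_closed
  haveI : IsSepClosed (ResidueField RX) := HX.isSepClosure.sep_closed
  haveI : WeaklyEtale sX := S0754.result _ x RX
  haveI : WeaklyEtale sY := S0754.result _ (g x) RY
  have hsq : sX ≫ g = Spec.map (CommRingCat.ofHom (algebraMap RY RX)) ≫ sY := by
    have h1 : g.stalkMap x ≫ CommRingCat.ofHom (algebraMap ((Spec (CommRingCat.of R₀[X])).presheaf.stalk x) RX) =
        CommRingCat.ofHom (algebraMap ((Spec (CommRingCat.of R₀)).presheaf.stalk (g x)) RY) ≫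
          CommRingCat.ofHom (algebraMap RY RX) := CommRingCat.hom_ext hc.symm
    simp only [sX, sY, Hens2.specOf, Category.assoc]
    rw [← Scheme.SpecMap_stalkMap_fromSpecStalk, ← Category.assoc, ← Category.assoc, ← Spec.map_comp, h1,
      Spec.map_comp]
  obtain ⟨θ, hθ⟩ := Spec.map_surjective sY
  have c := (isPullback_SpecMap_of_isPushout _ _ _ _ (H23.P1Charts.isPushout_map R₀ RY θ.hom)).flip
  let p := Spec.map (CommRingCat.ofHom (mapRingHom θ.hom))
  have hq : Spec.map (CommRingCat.ofHom θ.hom) = sY := hθ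
  rw [hq] at c
  haveI : WeaklyEtale p := MorphismProperty.of_isPullback (P := @WeaklyEtale) c.flip ‹_›
  let m := c.lift sX (Spec.map (CommRingCat.ofHom (algebraMap RY RX))) hsq
  haveI : WeaklyEtale (m ≫ p) := by rw [IsPullback.lift_fst]; infer_instance
  haveI : WeaklyEtale m := WeaklyEtale.of_comp m p
  obtain ⟨ψ, hψ⟩ := Spec.map_surjective m
  letI : Algebra RY[X] RX := ψ.hom.toAlgebra
  haveI : Algebra.WeaklyEtale RY[X] RX := (ProEtLib.weaklyEtale_spec_iff ψ).1 (hψ ▸ ‹WeaklyEtale m›)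
  haveI : IsScalarTower RY RY[X] RX := .of_algebraMap_eq' (by
    have h2 : Spec.map ψ ≫ Spec.map (CommRingCat.ofHom (C : RY →+* RY[X])) =
        Spec.map (CommRingCat.ofHom (algebraMap RY RX)) := by rw [hψ]; exact c.lift_snd _ _ _
    rw [← Spec.map_comp] at h2
    exact (congrArg CommRingCat.Hom.hom (Spec.map_injective h2)).symm)
  exact geomFibres_line RY RX L hL n

/-- Local acyclicity of the line over a local ring. -/
theorem isLocAcyclicN_line_local (R : Type u) [CommRing R] [IsLocalRing R] (n : ℕ) :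
    EtAcyc.IsLocAcyclicN (Spec.map (CommRingCat.ofHom (C : R →+* R[X])))
      (EtAcyc.primesInvertibleOn (Spec (CommRingCat.of R))) n := by
  refine (S3471.result _ _ (exists_prime_invertible R) n).2 ?_
  intro x RY RX _ _ _ _ _ _ _ _ _ _ _ _ hc
  refine geomFibres_at R x RY RX hc _ (fun ℓ hℓ hp => ?_) n
  obtain ⟨θ, -⟩ := Spec.map_surjective (Hens2.specOf (Spec (CommRingCat.of R))
    (Spec.map (CommRingCat.ofHom (C : R →+* R[X])) x) RY)
  simpa using (isUnit_of_mem_primesInvertibleOn hℓ).map θ.hom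

/-- Local acyclicity of the line. -/
theorem onStrict_line (R₀ : Type u) [CommRing R₀] (L : Set ℕ) (n : ℕ) :
    EtAcyc.OnStrictLocalizations (Spec.map (CommRingCat.ofHom (C : R₀ →+* R₀[X]))) (AcyP L n) := by
  intro x RY RX _ _ _ _ _ _ _ _ _ _ _ _ hc hL
  refine isAcyclicN_antitone hL ?_
  let g := Spec.map (CommRingCat.ofHom (C : R₀ →+* R₀[X]))
  let sY := Hens2.specOf (Spec (CommRingCat.of R₀)) (g x) RY
  let sX := Hens2.specOf (Spec (CommRingCat.of R₀[X])) x RX
  haveI : WeaklyEtale sY := S0754.result _ (g x) RY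
  obtain ⟨θ, hθ⟩ := Spec.map_surjective sY
  have c := (isPullback_SpecMap_of_isPushout _ _ _ _ (H23.P1Charts.isPushout_map R₀ RY θ.hom)).flip
  have hq : Spec.map (CommRingCat.ofHom θ.hom) = sY := hθ
  rw [hq] at c
  haveI : WeaklyEtale (Spec.map (CommRingCat.ofHom (mapRingHom θ.hom))) :=
    MorphismProperty.of_isPullback (P := @WeaklyEtale) c.flip ‹_›
  have hclosed : sY (closedPoint RY) = g x := by
    simp only [sY, Hens2.specOf, Scheme.Hom.comp_apply]
    rw [show Spec.map (CommRingCat.ofHom (algebraMap ((Spec (CommRingCat.of R₀)).presheaf.stalk (g x)) RY))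
      (closedPoint RY) = closedPoint _ from PrimeSpectrum.ext (maximalIdeal_comap _)]
    exact Scheme.fromSpecStalk_closedPoint
  obtain ⟨x', hx', -⟩ := Scheme.exists_preimage_of_isPullback c x (closedPoint RY) hclosed.symm
  exact onStrict_at g (Spec.map (CommRingCat.ofHom (C : RY →+* RY[X])))
    (Spec.map (CommRingCat.ofHom (mapRingHom θ.hom))) sY c.w
    (P := fun A B h => EtAcyc.IsAcyclicN h (EtAcyc.primesInvertibleOn (Spec (CommRingCat.of RY))) n)
    (isLocAcyclicN_line_local RY n) x' x hx' RY RX hc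

/-- Local acyclicity of affine spaces. -/
theorem onStrict_affineSpace (R : Type u) [CommRing R] (L : Set ℕ) (n : ℕ) (d : ℕ) :
    EtAcyc.OnStrictLocalizations (Spec.map (CommRingCat.ofHom (MvPolynomial.C : R →+* MvPolynomial (Fin (d + 1)) R)))
      (AcyP L n) := by
  induction d with
  | zero =>
    let e : MvPolynomial (Fin (0 + 1)) R ≃ₐ[R] R[X] := MvPolynomial.uniqueAlgEquiv R (Fin 1)
    let i := Spec.map (CommRingCat.ofHom e.toRingEquiv.toRingHom)
    haveI : IsIso i := inferInstanceAs (IsIso (Spec.map e.toRingEquiv.toCommRingCatIso.hom))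
    refine onStrict_of_weaklyEtale (Spec.map (CommRingCat.ofHom (C : R →+* R[X]))) _ (inv i) (𝟙 _) ?_ (onStrict_line R L n)
    rw [Category.comp_id, IsIso.inv_comp_eq, ← Spec.map_comp, ← CommRingCat.ofHom_comp]
    exact congrArg Spec.map (CommRingCat.hom_ext (RingHom.ext fun r => (e.commutes r).symm))
  | succ d ih =>
    let A := MvPolynomial (Fin (d + 1)) R
    let e : MvPolynomial (Fin (d + 1 + 1)) R ≃ₐ[R] A[X] := MvPolynomial.finSuccEquiv R (d + 1)
    let g := Spec.map (CommRingCat.ofHom (C : A →+* A[X]))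
    let h := Spec.map (CommRingCat.ofHom (MvPolynomial.C : R →+* A))
    have hsurj : Function.Surjective g.base := fun y => by
      refine ⟨Spec.map (CommRingCat.ofHom (evalRingHom (0 : A))) y, ?_⟩
      rw [← Scheme.Hom.comp_apply, ← Spec.map_comp, ← CommRingCat.ofHom_comp,
        show (evalRingHom (0 : A)).comp C = RingHom.id A from RingHom.ext fun a => eval_C]
      rfl
    have hcomp := (S3514.onStrict_comp_iff g h hsurj (AcyP L n) acyP_comp_iff (onStrict_line A L n)).1 ih
    let i := Spec.map (CommRingCat.ofHom e.toRingEquiv.toRingHom)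
    haveI : IsIso i := inferInstanceAs (IsIso (Spec.map e.toRingEquiv.toCommRingCatIso.hom))
    refine onStrict_of_weaklyEtale (g ≫ h) _ (inv i) (𝟙 _) ?_ hcomp
    rw [Category.comp_id, IsIso.inv_comp_eq, ← Spec.map_comp, ← CommRingCat.ofHom_comp, ← Spec.map_comp,
      ← CommRingCat.ofHom_comp]
    exact congrArg Spec.map (CommRingCat.hom_ext (RingHom.ext fun r => (e.commutes r).symm))

/-- Smooth morphisms are locally acyclic for the primes invertible on the source. -/
theorem isLocAcyclicN_smooth {X Y : Scheme.{u}} (g : X ⟶ Y) [Smooth g] (n : ℕ) :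
    EtAcyc.IsLocAcyclicN g (EtAcyc.primesInvertibleOn X) n := by
  intro x RY RX _ _ _ _ _ _ _ _ _ _ _ _ hc
  let L := EtAcyc.primesInvertibleOn X
  suffices h : AcyP L n (Spec.map (CommRingCat.ofHom (algebraMap RY RX))) by
    refine h fun ℓ hℓ => mem_primesInvertibleOn_spec hℓ.1 ?_
    refine (isUnit_map_iff (algebraMap RY RX) _).1 ?_
    rw [map_natCast, ← map_natCast (algebraMap (X.presheaf.stalk x) RX)]
    refine IsUnit.map _ ((IsLocalRing.residue_ne_zero_iff_isUnit _).1 ?_)
    rw [map_natCast]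
    exact hℓ.2 x
  obtain ⟨U, hU, V, hV, hxV, e, hst⟩ := Smooth.exists_isStandardSmooth g x
  let f := (g.appLE U V e).hom
  obtain ⟨d, φ, hC, hφ⟩ := RingHom.IsStandardSmooth.exists_etale_mvPolynomial (f := f) hst
  have key : EtAcyc.OnStrictLocalizations (Spec.map (g.appLE U V e)) (AcyP L n) := by
    haveI : AlgebraicGeometry.Etale (Spec.map (CommRingCat.ofHom φ)) :=
      (HasRingHomProperty.Spec_iff (P := @AlgebraicGeometry.Etale)).2 hφ
    cases d with
    | zero =>
      haveI : IsIso (Spec.map (CommRingCat.ofHom (MvPolynomial.C : Γ(Y, U) →+* MvPolynomial (Fin 0) Γ(Y, U)))) :=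
        inferInstanceAs (IsIso (Spec.map (MvPolynomial.isEmptyRingEquiv Γ(Y, U) (Fin 0)).symm.toCommRingCatIso.hom))
      haveI : AlgebraicGeometry.Etale (Spec.map (g.appLE U V e)) := by
        rw [show g.appLE U V e = CommRingCat.ofHom (MvPolynomial.C : Γ(Y, U) →+* MvPolynomial (Fin 0) Γ(Y, U)) ≫
          CommRingCat.ofHom φ from CommRingCat.hom_ext hC.symm, Spec.map_comp]
        infer_instance
      refine onStrict_of_weaklyEtale (𝟙 _) (Spec.map (g.appLE U V e)) (Spec.map (g.appLE U V e)) (𝟙 _) rfl ?_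
      exact fun z RZ RW _ _ _ _ _ _ _ _ _ _ _ _ hc' _ => isAcyclicN_id_localization z RZ RW hc' n
    | succ d =>
      refine onStrict_of_weaklyEtale (Spec.map (CommRingCat.ofHom (MvPolynomial.C : Γ(Y, U) →+* MvPolynomial (Fin (d + 1)) Γ(Y, U))))
        _ (Spec.map (CommRingCat.ofHom φ)) (𝟙 _) ?_ (onStrict_affineSpace Γ(Y, U) L n d)
      rw [Category.comp_id, ← Spec.map_comp]
      exact congrArg Spec.map (CommRingCat.hom_ext hC)
  obtain ⟨x', hx'⟩ : x ∈ Set.range hV.fromSpec := by rw [hV.range_fromSpec]; exact hxV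
  exact onStrict_at g (Spec.map (g.appLE U V e)) hV.fromSpec hU.fromSpec
    (IsAffineOpen.SpecMap_appLE_fromSpec g hU hV e).symm (P := AcyP L n) key x' x hx' RY RX hc

end Groth.Agent.SmoothLA
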