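import Groth.Agent.SmoothLA.GeomFib
import Groth.Agent.Hensel.IntegralStrict
import Groth.Agent.Hensel.TensorHenzFinite
import Groth.Agent.ProEtLib.Ring

/-!
# Geometric fibres of henselizations of the affine line
-/

set_option autoImplicit false
set_option linter.unusedSectionVars false
set_option linter.style.haveILetI false
set_option backward.isDefEq.respectTransparency false
set_option backward.isDefEq.respectTransparency.types false
set_option maxHeartbeats 1600000

universe u

open CategoryTheory CategoryTheory.Limits AlgebraicGeometry TensorProduct Polynomial IsLocalRing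

noncomputable section

namespace Groth.Agent.SmoothLA

open Groth.Agent.AcycFin
open Groth.Agent.Hensel (Henz Nbhd)

/-- The universal neighbourhood of a henselian local ring at its closed point is integral. -/
theorem isIntegral_henz (A K : Type u) [CommRing A] [HenselianLocalRing A] [Field K] [Algebra A K]
    [IsLocalHom (algebraMap A (Henz A K))] : Algebra.IsIntegral A (Henz A K) := ⟨fun z => by
  obtain ⟨N, b, rfl⟩ := Henz.exists_ofB z
  exact Hensel.isIntegral_mul_inv_of_stage (Henz.ofB N) b 1 _ (by rw [map_one]; exact isUnit_one)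
    (by rw [map_one, mul_one])⟩

/-- Fibres of henselized lines over henselian rings at geometric points are acyclic. -/
theorem isAcyclicScheme_fibre_henselized (A B : Type u) [CommRing A] [CommRing B] [HenselianLocalRing A]
    [HenselianLocalRing B] [Algebra A B] [IsLocalHom (algebraMap A B)] [Algebra A[X] B] [IsScalarTower A A[X] B]
    [Algebra.WeaklyEtale A[X] B] (hres : ∀ b : B, ∃ a : A, b - algebraMap A B a ∈ maximalIdeal B)
    (L : Set ℕ) (hL : ∀ ℓ ∈ L, ℓ.Prime → IsUnit (ℓ : A)) (n : ℕ) (Ω : Type u) [Field Ω] [IsSepClosed Ω]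
    (η : Spec (CommRingCat.of Ω) ⟶ Spec (CommRingCat.of A)) :
    EtAcyc.IsAcyclicSchemeN L n (pullback (Spec.map (CommRingCat.ofHom (algebraMap A B))) η) := by
  let K := AlgebraicClosure (ResidueField A)
  let π : A →+* K := (algebraMap (ResidueField A) K).comp (residue A)
  let F := PtField π
  let R := Henz A F
  haveI hAR : IsLocalHom (algebraMap A R) := ⟨fun a ha => by
    by_contra hn
    refine (ha.map (Henz.proj A F)).ne_zero ?_
    rw [AlgHom.commutes]
    show algebraMap (ResidueField A) K (residue A a) = 0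
    rw [(residue_eq_zero_iff a).2 hn, map_zero]⟩
  haveI : IsSepClosed (ResidueField R) := EtFound.isSepClosed_residue_henz' A F
  haveI : Algebra.IsIntegral A R := isIntegral_henz A F
  haveI : Algebra.WeaklyEtale A R := S0736.result _ _ (Hensel.isIndEtale_henz A F)
  haveI : Module.FaithfullyFlat A R := Module.FaithfullyFlat.of_flat_of_isLocalHom
  let T := B ⊗[A] R
  let iR : R →+* T := (Algebra.TensorProduct.includeRight (R := A) (A := B) (B := R)).toRingHom
  -- primes of the tensor product
  obtain ⟨P₀, -, -⟩ := exists_prime_over (R := A) B R ⟨maximalIdeal B, inferInstance⟩ ⟨maximalIdeal R, inferInstance⟩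
    ((maximalIdeal_comap (algebraMap A B)).trans (maximalIdeal_comap (algebraMap A R)).symm)
  haveI : Nontrivial T := ⟨⟨0, 1, fun h => P₀.2.ne_top ((Ideal.eq_top_iff_one _).2 (h ▸ zero_mem _))⟩⟩
  haveI : Algebra.IsIntegral B T := Algebra.IsIntegral.tensorProduct A B R
  have hover : ∀ M : Ideal T, M.IsMaximal → M.comap (algebraMap B T) = maximalIdeal B ∧ M.comap iR = maximalIdeal R := by
    intro M hM
    have h1 : M.comap (algebraMap B T) = maximalIdeal B :=
      IsLocalRing.eq_maximalIdeal (Ideal.isMaximal_comap_of_isIntegral_of_isMaximal (R := B) M)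
    refine ⟨h1, IsLocalRing.eq_maximalIdeal ?_⟩
    haveI : (M.comap iR).IsPrime := Ideal.IsPrime.comap iR
    refine Ideal.isMaximal_of_isIntegral_of_isMaximal_comap (R := A) _ ?_
    rw [Ideal.comap_comap, show iR.comp (algebraMap A R) = (algebraMap B T).comp (algebraMap A B) from
      (Algebra.TensorProduct.includeLeftRingHom_comp_algebraMap).symm, ← Ideal.comap_comap, h1,
      maximalIdeal_comap (algebraMap A B)]
    exact maximalIdeal.isMaximal A
  have happrox : ∀ z : T, ∃ r : R, ∀ M : Ideal T, M.IsMaximal → z - iR r ∈ M := by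
    intro z
    induction z using TensorProduct.induction_on with
    | zero => exact ⟨0, fun M _ => by rw [map_zero, sub_zero]; exact zero_mem M⟩
    | tmul b r =>
      obtain ⟨a, ha⟩ := hres b
      refine ⟨algebraMap A R a * r, fun M hM => ?_⟩
      have e : b ⊗ₜ[A] r - iR (algebraMap A R a * r) = algebraMap B T (b - algebraMap A B a) * iR r := by
        rw [map_mul, map_sub, sub_mul]
        congr 1
        · show b ⊗ₜ[A] r = (b ⊗ₜ[A] (1 : R)) * ((1 : B) ⊗ₜ[A] r)
          rw [Algebra.TensorProduct.tmul_mul_tmul, mul_one, one_mul]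
        · congr 1
          exact ((RingHom.congr_fun (Algebra.TensorProduct.includeLeftRingHom_comp_algebraMap (R := A) (A := B) (B := R)) a)).symm
      rw [e]
      exact Ideal.mul_mem_right _ _ ((hover M hM).1.ge ha)
    | add x y hx hy =>
      obtain ⟨r, hr⟩ := hx
      obtain ⟨s, hs⟩ := hy
      exact ⟨r + s, fun M hM => by rw [map_add, add_sub_add_comm]; exact add_mem (hr M hM) (hs M hM)⟩
  haveI : IsLocalRing T := by
    obtain ⟨M₀, hM₀⟩ := Ideal.exists_maximal T
    refine IsLocalRing.of_unique_max_ideal ⟨M₀, hM₀, fun M hM => Ideal.ext fun z => ?_⟩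
    obtain ⟨r, hr⟩ := happrox z
    have key : ∀ N : Ideal T, N.IsMaximal → (z ∈ N ↔ r ∈ maximalIdeal R) := fun N hN => by
      rw [← (hover N hN).2, Ideal.mem_comap]
      exact ⟨fun h => by simpa using sub_mem h (hr N hN), fun h => by simpa using add_mem h (hr N hN)⟩
    rw [key M hM, key M₀ hM₀]
  haveI : HenselianLocalRing T := Hensel.henselianLocalRing_of_isIntegral_local B T
  letI : Algebra R T := iR.toAlgebra
  haveI : IsLocalHom (algebraMap R T) :=
    (IsLocalRing.isLocalHom_iff_comap_closedPoint iR).2 (PrimeSpectrum.ext (hover _ (maximalIdeal.isMaximal T)).2)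
  haveI : IsSepClosed (ResidueField T) := by
    refine isSepClosed_of_equiv (RingEquiv.ofBijective (ResidueField.map (algebraMap R T)) ⟨RingHom.injective _, fun z => ?_⟩)
    obtain ⟨z, rfl⟩ := residue_surjective z
    obtain ⟨r, hr⟩ := happrox z
    refine ⟨residue R r, (ResidueField.map_residue _ r).trans ?_⟩
    rw [← sub_eq_zero, ← map_sub, residue_eq_zero_iff, ← neg_sub]
    exact neg_mem (hr _ (maximalIdeal.isMaximal T))
  -- the line over the strict henselization
  let g := algebraMap A R
  let ψ : R[X] →+* T := eval₂RingHom iR (algebraMap B T (algebraMap A[X] B Polynomial.X))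
  letI : Algebra R[X] T := ψ.toAlgebra
  haveI : IsScalarTower R R[X] T := .of_algebraMap_eq' (RingHom.ext fun r => (eval₂_C _ _).symm)
  haveI : Algebra.WeaklyEtale R[X] T := by
    have w : ψ.comp (mapRingHom g) = (algebraMap B T).comp (algebraMap A[X] B) := by
      refine Polynomial.ringHom_ext (fun r => ?_) ?_
      · show eval₂ _ _ ((C r).map g) = algebraMap B T (algebraMap A[X] B (C r))
        rw [Polynomial.map_C, eval₂_C, ← Polynomial.algebraMap_eq, ← IsScalarTower.algebraMap_apply A A[X] B]
        exact (RingHom.congr_fun (Algebra.TensorProduct.includeLeftRingHom_comp_algebraMap (R := A) (A := B) (B := R)) r).symm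
      · show eval₂ _ _ (Polynomial.map g Polynomial.X) = _
        rw [Polynomial.map_X, eval₂_X]
        rfl
    have sq : IsPullback (Spec.map (CommRingCat.ofHom (algebraMap B T))) (Spec.map (CommRingCat.ofHom ψ))
        (Spec.map (CommRingCat.ofHom (algebraMap A[X] B))) (Spec.map (CommRingCat.ofHom (mapRingHom g))) := by
      refine IsPullback.of_bot (v₂₁ := Spec.map (CommRingCat.ofHom (C : R →+* R[X])))
        (v₂₂ := Spec.map (CommRingCat.ofHom (C : A →+* A[X]))) (h₃₁ := Spec.map (CommRingCat.ofHom g)) ?_ ?_
        (isPullback_SpecMap_of_isPushout _ _ _ _ (H23.P1Charts.isPushout_map A R g)).flip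
      · have e1 : Spec.map (CommRingCat.ofHom ψ) ≫ Spec.map (CommRingCat.ofHom (C : R →+* R[X])) = pBm (R := A) B R := by
          rw [← Spec.map_comp, ← CommRingCat.ofHom_comp]
          exact congrArg Spec.map (CommRingCat.hom_ext (RingHom.ext fun b => eval₂_C _ _))
        have e2 : Spec.map (CommRingCat.ofHom (algebraMap A[X] B)) ≫ Spec.map (CommRingCat.ofHom (C : A →+* A[X])) =
            Spec.map (CommRingCat.ofHom (algebraMap A B)) := by
          rw [← Spec.map_comp, ← CommRingCat.ofHom_comp, IsScalarTower.algebraMap_eq A A[X] B]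
          rfl
        rw [e1, e2]
        exact isPullback_pAm (R := A) B R
      · rw [← Spec.map_comp, ← Spec.map_comp, ← CommRingCat.ofHom_comp, ← CommRingCat.ofHom_comp, w]
    haveI : WeaklyEtale (Spec.map (CommRingCat.ofHom (algebraMap A[X] B))) := ProEtLib.weaklyEtale_spec A[X] B
    exact (ProEtLib.weaklyEtale_spec_iff (CommRingCat.ofHom ψ)).1
      (MorphismProperty.of_isPullback (P := @WeaklyEtale) sq ‹_›)
  -- lifting the geometric point
  obtain ⟨σ, rfl⟩ := Spec.map_surjective η
  letI : Algebra A Ω := σ.hom.toAlgebra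
  haveI : Nontrivial (Ω ⊗[A] R) := (Module.FaithfullyFlat.nontrivial_tensorProduct_iff_left A Ω (N := R)).2 inferInstance
  obtain ⟨M, hM⟩ := Ideal.exists_maximal (Ω ⊗[A] R)
  have hb := ProEtLib.algebraMap_bijective_quotient Ω (Ω ⊗[A] R) M
  let τ : R →+* Ω := (RingEquiv.ofBijective _ hb).symm.toRingHom.comp
    ((Ideal.Quotient.mk M).comp (Algebra.TensorProduct.includeRight (R := A) (A := Ω) (B := R)).toRingHom)
  have hτ : τ.comp (algebraMap A R) = σ.hom := RingHom.ext fun a => by
    show (RingEquiv.ofBijective _ hb).symm (Ideal.Quotient.mk M ((1 : Ω) ⊗ₜ[A] algebraMap A R a)) = σ.hom a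
    refine (RingEquiv.symm_apply_eq _).2 ?_
    exact congrArg (Ideal.Quotient.mk M)
      (RingHom.congr_fun (Algebra.TensorProduct.includeLeftRingHom_comp_algebraMap (R := A) (A := Ω) (B := R)) a).symm
  have hη : Spec.map σ = Spec.map (CommRingCat.ofHom τ) ≫ Spec.map (CommRingCat.ofHom (algebraMap A R)) := by
    rw [← Spec.map_comp, ← CommRingCat.ofHom_comp, hτ]
    rfl
  have h := isAcyclicScheme_fibre_line R T L (fun ℓ hℓ hp => by simpa using (hL ℓ hℓ hp).map (algebraMap A R)) n Ω
    (Spec.map (CommRingCat.ofHom τ))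
  have c := (IsPullback.of_hasPullback (Spec.map (CommRingCat.ofHom (algebraMap R T))) (Spec.map (CommRingCat.ofHom τ))).paste_horiz
    (isPullback_pAm (R := A) B R)
  rw [← hη] at c
  exact isAcyclicSchemeN_of_iso c.isoPullback.inv h

end Groth.Agent.SmoothLA
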