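import Groth.Agent.SmoothLA.BCInt
import Groth.Agent.S3481
import Groth.Agent.S6642
import Groth.Agent.PBCThm.BC
import Groth.Agent.Hensel.IntegralStrict
import Groth.Agent.EtNorm.Dedekind
import Groth.Agent.AcycFin.Compare
import Groth.Agent.AcycFin.GeomFibres

/-!
# Specialization for proper locally acyclic morphisms over strictly local bases
-/

set_option autoImplicit false
set_option linter.unusedSectionVars false
set_option linter.style.haveILetI false
set_option backward.isDefEq.respectTransparency false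
set_option backward.isDefEq.respectTransparency.types false

universe u

open CategoryTheory CategoryTheory.Limits AlgebraicGeometry IsLocalRing

noncomputable section

namespace Groth.Agent.SmoothLA

open Groth.Agent.AcycFin

attribute [local instance] EtFound.pull_preservesFiniteLimits

/-- A geometric point over a strictly local base factors through a normal strictly local domain
with the given fraction field. -/
theorem exists_normal_frame (R : Type u) [CommRing R] [HenselianLocalRing R] [IsSepClosed (ResidueField R)]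
    (y₁ : Spec (CommRingCat.of R)) (Ω : Type u) [Field Ω]
    [Algebra ((Spec (CommRingCat.of R)).residueField y₁) Ω]
    [Algebra.IsAlgebraic ((Spec (CommRingCat.of R)).residueField y₁) Ω] :
    ∃ (V : Type u) (_ : CommRing V) (_ : IsDomain V) (_ : IsIntegrallyClosed V) (_ : HenselianLocalRing V)
      (_ : IsSepClosed (ResidueField V)) (ψ : R →+* V) (_ : IsLocalHom ψ) (ι : V →+* Ω),
      ψ.IsIntegral ∧ Function.Injective ι ∧ (∀ z : Ω, ∃ a b : V, b ≠ 0 ∧ z * ι b = ι a) ∧
      Spec.map (CommRingCat.ofHom ι) ≫ Spec.map (CommRingCat.ofHom ψ) =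
        EtAcyc.geomPt (Spec (CommRingCat.of R)) y₁ Ω := by
  let p : Ideal R := y₁.asIdeal
  let e : (Spec (CommRingCat.of R)).residueField y₁ ≅ CommRingCat.of p.ResidueField :=
    Scheme.Spec.residueFieldIso (CommRingCat.of R) y₁
  let a : p.ResidueField →+* Ω := (algebraMap ((Spec (CommRingCat.of R)).residueField y₁) Ω).comp e.inv.hom
  letI : Algebra p.ResidueField Ω := a.toAlgebra
  haveI : Algebra.IsAlgebraic p.ResidueField Ω :=
    Algebra.IsAlgebraic.of_ringHom_of_comp_eq e.inv.hom (RingHom.id Ω) e.symm.commRingCatIsoToRingEquiv.surjective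
      Function.injective_id rfl
  letI : Algebra R Ω := (a.comp (algebraMap R p.ResidueField)).toAlgebra
  haveI : IsScalarTower R p.ResidueField Ω := IsScalarTower.of_algebraMap_eq fun _ => rfl
  letI : Algebra (R ⧸ p) Ω := (a.comp (algebraMap (R ⧸ p) p.ResidueField)).toAlgebra
  haveI : IsScalarTower (R ⧸ p) p.ResidueField Ω := IsScalarTower.of_algebraMap_eq fun _ => rfl
  haveI : IsScalarTower R (R ⧸ p) Ω := IsScalarTower.of_algebraMap_eq fun r => by
    show a (algebraMap R p.ResidueField r) = a (algebraMap (R ⧸ p) p.ResidueField (algebraMap R (R ⧸ p) r))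
    rw [← IsScalarTower.algebraMap_apply R (R ⧸ p) p.ResidueField]
  haveI : Algebra.IsAlgebraic (R ⧸ p) Ω := (IsFractionRing.comap_isAlgebraic_iff (K := p.ResidueField)).2 ‹_›
  let V := integralClosure (R ⧸ p) Ω
  have hinj : Function.Injective (algebraMap (R ⧸ p) Ω) :=
    (RingHom.injective a).comp (IsFractionRing.injective (R ⧸ p) p.ResidueField)
  haveI : IsFractionRing V Ω := integralClosure.isFractionRing_of_algebraic fun x hx =>
    hinj (by rw [hx, map_zero])
  haveI : IsIntegrallyClosed V := (isIntegrallyClosed_iff_isIntegrallyClosedIn Ω).2 inferInstance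
  haveI : Algebra.IsIntegral R V := Algebra.IsIntegral.trans (R ⧸ p)
  haveI : IsLocalRing V := Hensel.isLocalRing_of_isIntegral_domain R V
  haveI : HenselianLocalRing V := Hensel.henselianLocalRing_of_isIntegral_local R V
  haveI hloc : IsLocalHom (algebraMap R V) := Hensel.isLocalHom_of_isIntegral_local R V
  refine ⟨V, inferInstance, inferInstance, inferInstance, inferInstance,
    (Hensel.residueField_of_isIntegral R V).1, algebraMap R V, hloc, algebraMap V Ω, Algebra.IsIntegral.isIntegral,
    IsFractionRing.injective V Ω, fun z => ?_, ?_⟩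
  · obtain ⟨x, ⟨b, hb⟩, hz⟩ := IsLocalization.exists_mk'_eq (nonZeroDivisors V) z
    exact ⟨x, b, nonZeroDivisors.ne_zero hb, (hz ▸ IsLocalization.mk'_spec Ω x ⟨b, hb⟩)⟩
  · show _ = Spec.map (CommRingCat.ofHom (algebraMap ((Spec (CommRingCat.of R)).residueField y₁) Ω)) ≫ _
    rw [← Scheme.Spec.map_residueFieldIso_inv_eq_fromSpecResidueField, ← Spec.map_comp, ← Spec.map_comp, ← Spec.map_comp]
    exact congrArg Spec.map (CommRingCat.hom_ext (IsScalarTower.algebraMap_eq R V Ω).symm)

/-- The generic geometric fibre of a locally acyclic morphism to a normal affine scheme. -/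
theorem bijective_Hpull_fracPt {V : Type u} [CommRing V] [IsDomain V] [IsIntegrallyClosed V]
    (Ω : Type u) [Field Ω] [IsSepClosed Ω] (ι : V →+* Ω) (hinj : Function.Injective ι)
    (hfrac : ∀ z : Ω, ∃ a b : V, b ≠ 0 ∧ z * ι b = ι a)
    {X : Scheme.{u}} (f : X ⟶ Spec (CommRingCat.of V)) (L : Set ℕ) (n : ℕ) (hf : EtAcyc.IsLocAcyclicN f L n)
    (F : EtCoh.Ab X) (hF : EtAcyc.IsLTorsion L F) (hlc : EtRest.IsLocallyConstant F)
    {P : Scheme.{u}} (h : P ⟶ X) (g : P ⟶ Spec (CommRingCat.of Ω))
    (c : IsPullback h g f (Spec.map (CommRingCat.ofHom ι))) :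
    (∀ q : ℕ, q ≤ n → Function.Bijective (EtCore.Hpull h F q)) ∧
    Function.Injective (EtCore.Hpull h F (n + 1)) := by
  haveI : IsIntegral (Spec (CommRingCat.of V)) := inferInstance
  let η : Spec (CommRingCat.of V) := genericPoint _
  let P₀ : Ideal V := η.asIdeal
  have hP : P₀ = ⊥ := congrArg PrimeSpectrum.asIdeal (genericPoint_eq_bot_of_affine (CommRingCat.of V))
  let e : (Spec (CommRingCat.of V)).residueField η ≅ CommRingCat.of P₀.ResidueField :=
    Scheme.Spec.residueFieldIso (CommRingCat.of V) η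
  let θ : P₀.ResidueField →+* Ω := Ideal.ResidueField.lift P₀ ι (by
      rw [hP]; exact bot_le) (fun b hb => by
      refine (Ne.isUnit ?_ : IsUnit (ι b))
      rw [map_ne_zero_iff ι hinj]
      intro h0
      exact hb (h0 ▸ zero_mem _))
  have hθ : Function.Bijective θ := by
    refine ⟨θ.injective, fun z => ?_⟩
    obtain ⟨x, b, hb, hz⟩ := hfrac z
    refine ⟨algebraMap V _ x / algebraMap V _ b, ?_⟩
    rw [map_div₀, Ideal.ResidueField.lift_algebraMap, Ideal.ResidueField.lift_algebraMap,
      div_eq_iff ((map_ne_zero_iff ι hinj).2 hb), hz]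
  let E := (RingEquiv.ofBijective θ hθ)
  haveI : IsSepClosed ((Spec (CommRingCat.of V)).residueField η) :=
    isSepClosed_of_equiv (E.symm.trans e.commRingCatIsoToRingEquiv.symm)
  haveI : IsIso (CommRingCat.ofHom θ) := E.toCommRingCatIso.isIso_hom
  let σ : Spec (CommRingCat.of Ω) ⟶ Spec ((Spec (CommRingCat.of V)).residueField η) :=
    Spec.map (e.hom ≫ CommRingCat.ofHom θ)
  haveI : IsIso σ := inferInstance
  have hσ : σ ≫ (Spec (CommRingCat.of V)).fromSpecResidueField η = Spec.map (CommRingCat.ofHom ι) := by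
    rw [← Scheme.Spec.map_residueFieldIso_inv_eq_fromSpecResidueField, ← Spec.map_comp, ← Spec.map_comp, Category.assoc,
      Iso.inv_hom_id_assoc]
    refine congrArg Spec.map (CommRingCat.hom_ext (RingHom.ext fun v => ?_))
    show θ (algebraMap V P₀.ResidueField v) = ι v
    simp only [θ, Ideal.ResidueField.lift_algebraMap]
  have c' : IsPullback h (g ≫ σ) f ((Spec (CommRingCat.of V)).fromSpecResidueField η) :=
    c.of_iso (Iso.refl P) (Iso.refl X) (asIso σ) (Iso.refl _) (by simp) (by simp) (by simp) (by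
      rw [Iso.refl_hom, Category.comp_id]; exact hσ.symm)
  obtain ⟨h1, h2⟩ := S3481.result (EtNorm.isNormalScheme_spec (CommRingCat.of V) fun P hP => ⟨IsLocalization.isDomain_localization (Ideal.primeCompl_le_nonZeroDivisors P), isIntegrallyClosed_of_isLocalization _ P.primeCompl (Ideal.primeCompl_le_nonZeroDivisors P)⟩) f L n hf F hF hlc
  have hi := fun (G : EtCoh.Ab _) q => EtAcycLib.bijective_Hpull_of_isIso c'.isoPullback.hom G q
  have hcmp := fun q => EtAcycLib.bijective_Hpull_comp_iff c'.isoPullback.hom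
    (pullback.fst f ((Spec (CommRingCat.of V)).fromSpecResidueField η)) h c'.isoPullback_hom_fst F q
  exact ⟨fun q hq => (hcmp q).1.2 ((hi _ q).comp (h1 q hq)), (hcmp (n + 1)).2.2 ((hi _ (n + 1)).1.comp h2)⟩

/-- Specialization: pullback to a geometric fibre over a strictly local base. -/
theorem bijective_Hpull_geomFibre (R : Type u) [CommRing R] [HenselianLocalRing R] [IsSepClosed (ResidueField R)]
    {X : Scheme.{u}} (f : X ⟶ Spec (CommRingCat.of R)) [IsProper f]
    (L : Set ℕ) (n : ℕ) (hf : EtAcyc.IsLocAcyclicN f L n) (F : EtCoh.Ab X) (hF : EtAcyc.IsLTorsion L F)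
    (hlc : EtRest.IsLocallyConstant F) (y₁ : Spec (CommRingCat.of R)) (Ω : Type u) [Field Ω] [IsSepClosed Ω]
    [Algebra ((Spec (CommRingCat.of R)).residueField y₁) Ω]
    [Algebra.IsAlgebraic ((Spec (CommRingCat.of R)).residueField y₁) Ω] :
    (∀ q : ℕ, q ≤ n →
      Function.Bijective (EtCore.Hpull (pullback.fst f (EtAcyc.geomPt (Spec (CommRingCat.of R)) y₁ Ω)) F q)) ∧
    Function.Injective (EtCore.Hpull (pullback.fst f (EtAcyc.geomPt (Spec (CommRingCat.of R)) y₁ Ω)) F (n + 1)) := by
  obtain ⟨V, _, _, _, _, _, ψ, hψl, ι, hψ, hinj, hfrac, hpt⟩ := exists_normal_frame R y₁ Ω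
  haveI : IsIntegralHom (Spec.map (CommRingCat.ofHom ψ)) := IsIntegralHom.SpecMap_iff.2 hψ
  let gV := pullback.fst f (Spec.map (CommRingCat.ofHom ψ))
  let fV := pullback.snd f (Spec.map (CommRingCat.ofHom ψ))
  let pt := EtAcyc.geomPt (Spec (CommRingCat.of R)) y₁ Ω
  let k : pullback f pt ⟶ pullback f (Spec.map (CommRingCat.ofHom ψ)) :=
    pullback.lift (pullback.fst f pt) (pullback.snd f pt ≫ Spec.map (CommRingCat.ofHom ι))
      (by rw [Category.assoc, hpt]; exact pullback.condition)
  have hk : k ≫ gV = pullback.fst f pt := pullback.lift_fst _ _ _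
  have hk' : k ≫ fV = pullback.snd f pt ≫ Spec.map (CommRingCat.ofHom ι) := pullback.lift_snd _ _ _
  have cV : IsPullback gV fV f (Spec.map (CommRingCat.ofHom ψ)) := IsPullback.of_hasPullback _ _
  have ck : IsPullback k (pullback.snd f pt) fV (Spec.map (CommRingCat.ofHom ι)) := by
    refine IsPullback.of_right ?_ hk' cV
    rw [hk, hpt]
    exact IsPullback.of_hasPullback _ _
  obtain ⟨h1, h2⟩ := bijective_Hpull_fracPt Ω ι hinj hfrac fV L n
    (isLocAcyclicN_baseChange_integralHom f _ hf) _ (EtAcycLib.isLTorsion_pull gV hF)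
    ((S6642.result gV).1 F hlc) k _ ck
  have hb := fun q => PBCThm.bijective_Hpull_henselian ψ f fV gV cV F (isTorsion_of_isLTorsion hF) q
  have hcmp := fun q => EtAcycLib.bijective_Hpull_comp_iff k gV (pullback.fst f pt) hk F q
  exact ⟨fun q hq => (hcmp q).1.2 ((h1 q hq).comp (hb q)), (hcmp (n + 1)).2.2 (h2.comp (hb (n + 1)).1)⟩

end Groth.Agent.SmoothLA
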