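import Mathlib.RingTheory.Henselian
import Mathlib.FieldTheory.IsAlgClosed.Basic
import Mathlib.RingTheory.IntegralClosure.IntegrallyClosed

/-!
# Local domains integrally closed in an algebraically closed field
-/

set_option autoImplicit false
set_option linter.style.haveILetI false
set_option linter.unusedSectionVars false

universe u

open Polynomial IsLocalRing

namespace Groth.Agent.SmoothLA

theorem isAlgClosed_residueField_of_closed {V : Type u} [CommRing V] [IsDomain V] [IsLocalRing V] 
    (Ω : Type u) [Field Ω] [IsAlgClosed Ω] [Algebra V Ω] (hinj : Function.Injective (algebraMap V Ω))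
    (hint : ∀ x : Ω, IsIntegral V x → ∃ v : V, algebraMap V Ω v = x) : IsAlgClosed (ResidueField V) := by
  refine IsAlgClosed.of_exists_root _ fun p hp hirr => ?_
  obtain ⟨f, hf, -, hfm⟩ := lifts_and_natDegree_eq_and_monic
    ((mem_lifts p).2 (map_surjective _ residue_surjective p)) hp
  have hd : (f.map (algebraMap V Ω)).degree ≠ 0 := by
    rw [hfm.degree_map, ← hfm.degree_map (residue V), hf]
    exact (degree_pos_of_irreducible hirr).ne'
  obtain ⟨r, hr⟩ := IsAlgClosed.exists_root _ hd
  rw [IsRoot, Polynomial.eval_map] at hr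
  obtain ⟨v, hv⟩ := hint _ (⟨f, hfm, hr⟩ : IsIntegral V r)
  refine ⟨residue V v, ?_⟩
  rw [← hf, Polynomial.eval_map, eval₂_at_apply]
  have h0 : f.eval v = 0 := hinj (by
    rw [map_zero, ← eval₂_at_apply, hv]
    exact hr)
  rw [h0, map_zero]

/-- A local integrally closed domain with algebraically closed fraction field is henselian. -/
theorem henselianLocalRing_of_closed (V : Type u) [CommRing V] [IsDomain V] [IsLocalRing V] 
    (Ω : Type u) [Field Ω] [IsAlgClosed Ω] [Algebra V Ω] (hinj : Function.Injective (algebraMap V Ω))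
    (hint : ∀ x : Ω, IsIntegral V x → ∃ v : V, algebraMap V Ω v = x) : HenselianLocalRing V := by
  refine ⟨fun f hf a₀ h₁ _ => ?_⟩
  have hs : (f.map (algebraMap V Ω)).Splits := IsAlgClosed.splits _
  have hroot : ∀ r ∈ (f.map (algebraMap V Ω)).roots, ∃ v : V, algebraMap V Ω v = r := fun r hr => by
    have h := (mem_roots'.1 hr).2
    rw [IsRoot, Polynomial.eval_map] at h
    exact hint _ ⟨f, hf, h⟩
  have key : ∀ m : Multiset Ω, (∀ r ∈ m, ∃ v : V, algebraMap V Ω v = r) →
      ∀ z : V, algebraMap V Ω z = (m.map fun r => algebraMap V Ω a₀ - r).prod → z ∈ maximalIdeal V →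
      ∃ r ∈ m, ∃ v : V, algebraMap V Ω v = r ∧ v - a₀ ∈ maximalIdeal V := by
    intro m
    induction m using Multiset.induction with
    | empty =>
      intro _ z hz hzm
      rw [Multiset.map_zero, Multiset.prod_zero, ← map_one (algebraMap V Ω)] at hz
      rw [hinj hz] at hzm
      exact absurd ((Ideal.eq_top_iff_one _).2 hzm) (maximalIdeal.isMaximal V).ne_top
    | cons r m ih =>
      intro hm z hz hzm
      obtain ⟨v, hv⟩ := hm r (Multiset.mem_cons_self r m)
      by_cases hvm : v - a₀ ∈ maximalIdeal V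
      · exact ⟨r, Multiset.mem_cons_self r m, v, hv, hvm⟩
      obtain ⟨e, he⟩ : IsUnit (a₀ - v) := by
        by_contra hu
        exact hvm (by rw [← neg_sub]; exact neg_mem ((mem_maximalIdeal _).2 hu))
      obtain ⟨r', hr', hv'⟩ := ih (fun x hx => hm x (Multiset.mem_cons_of_mem hx)) ((↑e⁻¹ : V) * z) (by
        rw [map_mul, hz, Multiset.map_cons, Multiset.prod_cons, ← hv, ← map_sub, ← he, ← mul_assoc, ← map_mul,
          Units.inv_mul, map_one, one_mul]) (Ideal.mul_mem_left _ _ hzm)
      exact ⟨r', Multiset.mem_cons_of_mem hr', hv'⟩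
  obtain ⟨r, hr, v, hv, hvm⟩ := key _ hroot (f.eval a₀) (by
    rw [← eval₂_at_apply, ← Polynomial.eval_map, hs.eval_eq_prod_roots_of_monic (hf.map _)]) h₁
  refine ⟨v, hinj ?_, hvm⟩
  rw [map_zero, ← eval₂_at_apply, hv, ← Polynomial.eval_map]
  exact (mem_roots'.1 hr).2

end Groth.Agent.SmoothLA
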