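import Groth.Agent.SmoothLA.Transport

/-!
# Strict localizations upstairs of weakly étale maps, at one point
-/

set_option autoImplicit false
set_option linter.unusedSectionVars false
set_option linter.style.haveILetI false
set_option backward.isDefEq.respectTransparency false
set_option backward.isDefEq.respectTransparency.types false

universe u

open CategoryTheory CategoryTheory.Limits AlgebraicGeometry IsLocalRing

noncomputable section

namespace Groth.Agent.SmoothLA

open Groth.Agent.AcycFin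

/-- A property of the strict localizations of `h` holds for those of `g` at the images of points. -/
theorem onStrict_at_point {X Y X' Y' : Scheme.{u}} (g : X ⟶ Y) (h : X' ⟶ Y') (p : X' ⟶ X) (q : Y' ⟶ Y)
    [WeaklyEtale p] [WeaklyEtale q] (w : p ≫ g = h ≫ q) {P : ∀ ⦃A B : Scheme.{u}⦄, (A ⟶ B) → Prop}
    (x' : X')
    (H : ∀ (RY RX : Type u) [CommRing RY] [CommRing RX] [IsLocalRing RY] [IsLocalRing RX]
      [Algebra (Y'.presheaf.stalk (h.base x')) RY] [IsLocalHom (algebraMap (Y'.presheaf.stalk (h.base x')) RY)]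
      [_root_.Hensel.IsStrictHenselization (Y'.presheaf.stalk (h.base x')) RY]
      [Algebra (X'.presheaf.stalk x') RX] [IsLocalHom (algebraMap (X'.presheaf.stalk x') RX)]
      [_root_.Hensel.IsStrictHenselization (X'.presheaf.stalk x') RX]
      [Algebra RY RX] [IsLocalHom (algebraMap RY RX)],
      (algebraMap RY RX).comp (algebraMap (Y'.presheaf.stalk (h.base x')) RY) =
        (algebraMap (X'.presheaf.stalk x') RX).comp (h.stalkMap x').hom →
      P (Spec.map (CommRingCat.ofHom (algebraMap RY RX)))) (x : X) (ex : p x' = x) (RY RX : Type u) [CommRing RY] [CommRing RX]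
    [IsLocalRing RY] [IsLocalRing RX]
    [Algebra (Y.presheaf.stalk (g x)) RY] [IsLocalHom (algebraMap (Y.presheaf.stalk (g x)) RY)]
    [HY : _root_.Hensel.IsStrictHenselization (Y.presheaf.stalk (g x)) RY]
    [Algebra (X.presheaf.stalk x) RX] [IsLocalHom (algebraMap (X.presheaf.stalk x) RX)]
    [HX : _root_.Hensel.IsStrictHenselization (X.presheaf.stalk x) RX]
    [Algebra RY RX] [IsLocalHom (algebraMap RY RX)]
    (hc : (algebraMap RY RX).comp (algebraMap (Y.presheaf.stalk (g x)) RY) =
      (algebraMap (X.presheaf.stalk x) RX).comp (g.stalkMap x).hom) :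
    P (Spec.map (CommRingCat.ofHom (algebraMap RY RX))) := by
  subst ex
  have e : q (h x') = g (p x') := (Scheme.Hom.comp_apply h q x').symm.trans
    ((congrArg (fun r : X' ⟶ Y => r x') w).symm.trans (Scheme.Hom.comp_apply p g x'))
  let φY : Y.presheaf.stalk (g (p x')) →+* Y'.presheaf.stalk (h x') :=
    ((Y.presheaf.stalkCongr (.of_eq e.symm)).hom ≫ q.stalkMap (h x')).hom
  letI : Algebra (Y.presheaf.stalk (g (p x'))) (Y'.presheaf.stalk (h x')) := φY.toAlgebra
  letI : Algebra (X.presheaf.stalk (p x')) (X'.presheaf.stalk x') := (p.stalkMap x').hom.toAlgebra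
  haveI : IsLocalHom φY := by
    haveI : IsLocalHom (Y.presheaf.stalkCongr (.of_eq e.symm)).hom.hom := isLocalHom_of_isIso _
    exact RingHom.isLocalHom_comp (q.stalkMap (h x')).hom (Y.presheaf.stalkCongr (.of_eq e.symm)).hom.hom
  haveI : IsLocalHom (algebraMap (Y.presheaf.stalk (g (p x'))) (Y'.presheaf.stalk (h x'))) := ‹IsLocalHom φY›
  haveI : IsLocalHom (algebraMap (X.presheaf.stalk (p x')) (X'.presheaf.stalk x')) :=
    inferInstanceAs (IsLocalHom (p.stalkMap x').hom)
  haveI : Algebra.WeaklyEtale (Y.presheaf.stalk (g (p x'))) (Y'.presheaf.stalk (h x')) :=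
    weaklyEtale_stalkMap_congr q (h x') _ e φY rfl
  haveI : Algebra.WeaklyEtale (X.presheaf.stalk (p x')) (X'.presheaf.stalk x') :=
    (WEtLib.weaklyEtale_iff_stalkMap p).1 ‹_› x'
  -- the structure upstairs on `RX`
  obtain ⟨χ, hχ, hχl, hSX⟩ := exists_strictHens_over (X.presheaf.stalk (p x')) (X'.presheaf.stalk x') RX
  letI : Algebra (X'.presheaf.stalk x') RX := χ.toAlgebra
  haveI : IsLocalHom (algebraMap (X'.presheaf.stalk x') RX) := hχl
  haveI := hSX
  haveI : HenselianLocalRing RX := HX.henselian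
  haveI : IsSepClosed (ResidueField RX) := HX.isSepClosure.sep_closed
  -- the structure upstairs on `RY`
  obtain ⟨R₁, _, _, _, _, hR₁⟩ := BcQCalc.exists_strictHens (Y'.presheaf.stalk (h x'))
  letI : Algebra (Y.presheaf.stalk (g (p x'))) R₁ := ((algebraMap (Y'.presheaf.stalk (h x')) R₁).comp φY).toAlgebra
  haveI : IsScalarTower (Y.presheaf.stalk (g (p x'))) (Y'.presheaf.stalk (h x')) R₁ := .of_algebraMap_eq' rfl
  haveI : IsLocalHom (algebraMap (Y.presheaf.stalk (g (p x'))) R₁) :=
    RingHom.isLocalHom_comp (algebraMap (Y'.presheaf.stalk (h x')) R₁) φY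
  haveI := isStrictHenselization_of_weaklyEtale (A := ↑(Y.presheaf.stalk (g (p x'))))
    (A' := ↑(Y'.presheaf.stalk (h x'))) (R := R₁)
  haveI : IsLocalHom (h.stalkMap x').hom := inferInstanceAs (IsLocalHom (h.toLRSHom.stalkMap x').hom)
  haveI : IsLocalHom (g.stalkMap (p x')).hom := inferInstanceAs (IsLocalHom (g.toLRSHom.stalkMap (p x')).hom)
  haveI : IsLocalHom (χ.comp (h.stalkMap x').hom) := RingHom.isLocalHom_comp χ (h.stalkMap x').hom
  obtain ⟨i, hil, hi⟩ := EtAcycLib.exists_strict_lift (S := R₁) (χ.comp (h.stalkMap x').hom)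
  haveI := hil
  let j : Y.presheaf.stalk (g (p x')) →+* RX :=
    (algebraMap (X.presheaf.stalk (p x')) RX).comp (g.stalkMap (p x')).hom
  haveI : IsLocalHom j := RingHom.isLocalHom_comp _ _
  have sq : (Y.presheaf.stalkCongr (.of_eq e.symm)).hom ≫ q.stalkMap (h x') ≫ h.stalkMap x' =
      g.stalkMap (p x') ≫ p.stalkMap x' := by
    apply Spec.map_injective
    rw [← cancel_mono (Y.fromSpecStalk (g (p x'))), Spec.map_comp, Spec.map_comp, Spec.map_comp,
      Category.assoc, Category.assoc, TopCat.Presheaf.stalkCongr_hom,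
      Scheme.SpecMap_stalkSpecializes_fromSpecStalk, Scheme.SpecMap_stalkMap_fromSpecStalk,
      Scheme.SpecMap_stalkMap_fromSpecStalk_assoc, Category.assoc, Scheme.SpecMap_stalkMap_fromSpecStalk,
      Scheme.SpecMap_stalkMap_fromSpecStalk_assoc, w]
  have hij : i.comp (algebraMap (Y.presheaf.stalk (g (p x'))) R₁) = j.comp (RingHom.id _) := by
    show i.comp ((algebraMap (Y'.presheaf.stalk (h x')) R₁).comp φY) = j
    rw [← RingHom.comp_assoc, hi, RingHom.comp_assoc]
    refine (congrArg (RingHom.comp χ) (congrArg (fun r => r.hom) sq)).trans ?_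
    show (χ.comp (p.stalkMap x').hom).comp (g.stalkMap (p x')).hom = j
    exact congrArg (fun c => c.comp (g.stalkMap (p x')).hom) hχ
  obtain ⟨ρ, hρl, hρ, hkρ⟩ := EtAcycLib.exists_strict_factor (R := Y.presheaf.stalk (g (p x'))) (S := R₁) (S' := RY)
    (RingHom.id _) j i (algebraMap RY RX) hij hc
  letI : Algebra R₁ RY := ρ.toAlgebra
  haveI : IsLocalHom (algebraMap R₁ RY) := hρl
  haveI : IsScalarTower (Y.presheaf.stalk (g (p x'))) R₁ RY :=
    .of_algebraMap_eq fun a => ((RingHom.congr_fun hρ a)).symm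
  haveI : Algebra.WeaklyEtale (Y.presheaf.stalk (g (p x'))) R₁ := S0736.result _ _ (S12237.result _ R₁)
  haveI : Algebra.WeaklyEtale (Y.presheaf.stalk (g (p x'))) RY := S0736.result _ _ (S12237.result _ RY)
  haveI : Algebra.WeaklyEtale R₁ RY := WEtLib.cancel (A := ↑(Y.presheaf.stalk (g (p x')))) (B := R₁) RY
  haveI : HenselianLocalRing R₁ := _root_.Hensel.IsStrictHenselization.henselian (R := Y'.presheaf.stalk (h x'))
  haveI : IsSepClosed (ResidueField R₁) := BcQCalc.isSepClosed_residueField_of_strict (Y'.presheaf.stalk (h x')) R₁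
  haveI : HenselianLocalRing RY := HY.henselian
  haveI : IsSepClosed (ResidueField RY) := HY.isSepClosure.sep_closed
  letI : Algebra (Y'.presheaf.stalk (h x')) RY := (ρ.comp (algebraMap (Y'.presheaf.stalk (h x')) R₁)).toAlgebra
  haveI : IsLocalHom (algebraMap (Y'.presheaf.stalk (h x')) RY) :=
    RingHom.isLocalHom_comp ρ (algebraMap (Y'.presheaf.stalk (h x')) R₁)
  haveI := isStrictHenselization_of_bijective (A := ↑(Y'.presheaf.stalk (h x'))) (R₀ := R₁) (R := RY)
    (RingEquiv.ofBijective ρ (WEtLib.bijective_algebraMap (A := R₁) (B := RY))) rfl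
  refine H RY RX ?_
  show (algebraMap RY RX).comp (ρ.comp (algebraMap (Y'.presheaf.stalk (h x')) R₁)) = χ.comp (h.stalkMap x').hom
  rw [← RingHom.comp_assoc, hkρ, hi]

end Groth.Agent.SmoothLA
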