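import Groth.Agent.AcycFin.Hereditary

/-!
# Local acyclicity and integral base change
-/

set_option autoImplicit false
set_option linter.unusedSectionVars false
set_option linter.style.haveILetI false
set_option backward.isDefEq.respectTransparency false
set_option backward.isDefEq.respectTransparency.types false

universe u

open CategoryTheory CategoryTheory.Limits AlgebraicGeometry IsLocalRing TensorProduct

noncomputable section

namespace Groth.Agent.SmoothLA

open Groth.Agent.AcycFin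

/-- Local acyclicity is stable under integral base change. -/
theorem isLocAcyclicN_baseChange_integralHom {X S S' : Scheme.{u}} (f : X ⟶ S) (g : S' ⟶ S) [IsIntegralHom g] {L : Set ℕ} {n : ℕ} (hf : EtAcyc.IsLocAcyclicN f L n) :
    EtAcyc.IsLocAcyclicN (pullback.snd f g) L n := by
  intro x' RS' RX' _ _ _ _ _ _ _ _ _ _ _ _ hc
  let x := pullback.fst f g x'
  let s' := pullback.snd f g x'
  obtain ⟨_, ⟨U, hU, rfl⟩, hxU, -⟩ := S.isBasis_affineOpens.exists_subset_of_mem_open (Set.mem_univ (f x)) isOpen_univ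
  have hs' : s' ∈ g ⁻¹ᵁ U := by
    show g s' ∈ U
    have e : f x = g s' := LocAcycLib.pt_congr pullback.condition x'
    rw [← e]
    exact hxU
  have hW : IsAffineOpen (g ⁻¹ᵁ U) := hU.preimage g
  let W := g ⁻¹ᵁ U
  have hsW : s' ∈ W := hs'
  have hWU : W ≤ g ⁻¹ᵁ U := le_rfl
  have hBq : @LocAcycLib.IndQF Γ(S, U) _ Γ(S', W) _ (g.appLE U W hWU).hom.toAlgebra := by
    letI : Algebra Γ(S, U) Γ(S', W) := (g.appLE U W hWU).hom.toAlgebra
    haveI : Algebra.IsIntegral Γ(S, U) Γ(S', W) := ⟨by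
      have h : (g.appLE U W hWU).hom.IsIntegral := by
        rw [Scheme.Hom.appLE_eq_app]
        exact IsIntegralHom.isIntegral_app g U hU
      exact h⟩
    exact LocAcycLib.indQF_of_isIntegral _ _
  obtain ⟨_, ⟨V, hV, rfl⟩, hxV, hVU⟩ := X.isBasis_affineOpens.exists_subset_of_mem_open
    (show x ∈ f ⁻¹ᵁ U from hxU) (f ⁻¹ᵁ U).isOpen
  letI : Algebra Γ(S, U) Γ(S', W) := (g.appLE U W hWU).hom.toAlgebra
  letI : Algebra Γ(S, U) Γ(X, V) := (f.appLE U V hVU).hom.toAlgebra
  have wB : hW.fromSpec ≫ g = Spec.map (CommRingCat.ofHom (algebraMap Γ(S, U) Γ(S', W))) ≫ hU.fromSpec :=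
    (IsAffineOpen.SpecMap_appLE_fromSpec g hU hW hWU).symm
  have wC : hV.fromSpec ≫ f = Spec.map (CommRingCat.ofHom (algebraMap Γ(S, U) Γ(X, V))) ≫ hU.fromSpec :=
    (IsAffineOpen.SpecMap_appLE_fromSpec f hU hV hVU).symm
  let mB : Spec (CommRingCat.of Γ(S', W)) ⟶ S' := hW.fromSpec
  let mC : Spec (CommRingCat.of Γ(X, V)) ⟶ X := hV.fromSpec
  let mA : Spec (CommRingCat.of Γ(S, U)) ⟶ S := hU.fromSpec
  let D := Γ(S', W) ⊗[Γ(S, U)] Γ(X, V)
  let mp : pullback (Spec.map (CommRingCat.ofHom (algebraMap Γ(S, U) Γ(S', W))))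
      (Spec.map (CommRingCat.ofHom (algebraMap Γ(S, U) Γ(X, V)))) ⟶ pullback g f :=
    pullback.map _ _ _ _ mB mC mA wB.symm wC.symm
  let kD : Spec (CommRingCat.of D) ⟶ pullback f g :=
    (pullbackSpecIso Γ(S, U) Γ(S', W) Γ(X, V)).inv ≫ mp ≫ (pullbackSymmetry g f).hom
  have wDB : kD ≫ pullback.snd f g = Spec.map (CommRingCat.ofHom (algebraMap Γ(S', W) D)) ≫ mB := by
    simp only [kD, mp, Category.assoc, pullbackSymmetry_hom_comp_snd, pullback.map, pullback.lift_fst]
    rw [← Category.assoc, pullbackSpecIso_inv_fst']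
  have wDC : kD ≫ pullback.fst f g =
      Spec.map (CommRingCat.ofHom (Algebra.TensorProduct.includeRight : Γ(X, V) →ₐ[Γ(S, U)] D).toRingHom) ≫ mC := by
    simp only [kD, mp, Category.assoc, pullbackSymmetry_hom_comp_fst, pullback.map, pullback.lift_snd]
    rw [← Category.assoc, pullbackSpecIso_inv_snd]
    rfl
  have hx' : x' ∈ Set.range kD := by
    have hz : (pullbackSymmetry g f).inv x' ∈ Set.range mp := by
      rw [Scheme.Pullback.range_map]
      refine ⟨?_, ?_⟩
      · show pullback.fst g f ((pullbackSymmetry g f).inv x') ∈ Set.range hW.fromSpec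
        rw [hW.range_fromSpec, ← Scheme.Hom.comp_apply, pullbackSymmetry_inv_comp_fst]
        exact hsW
      · show pullback.snd g f ((pullbackSymmetry g f).inv x') ∈ Set.range hV.fromSpec
        rw [hV.range_fromSpec, ← Scheme.Hom.comp_apply, pullbackSymmetry_inv_comp_snd]
        exact hxV
    obtain ⟨y, hy⟩ := hz
    refine ⟨(pullbackSpecIso Γ(S, U) Γ(S', W) Γ(X, V)).hom y, ?_⟩
    have h1 : (pullbackSpecIso Γ(S, U) Γ(S', W) Γ(X, V)).hom ≫ kD = mp ≫ (pullbackSymmetry g f).hom := by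
      simp [kD]
    refine (Scheme.Hom.comp_apply _ kD y).symm.trans ((LocAcycLib.pt_congr h1 y).trans ?_)
    rw [Scheme.Hom.comp_apply, hy]
    exact (Scheme.Hom.comp_apply _ _ x').symm.trans (LocAcycLib.pt_congr (Iso.inv_hom_id _) x')
  obtain ⟨P, rfl⟩ := hx'
  obtain ⟨RS, RX, _, _, _, _, _, _, _, _, _, _, _, _, α, hβ, hint, μ, hsq⟩ :=
    LocAcycLib.exists_strict_of_charts f g hBq mA mB mC kD wB wC wDB wDC P RS' RX' hc
  letI : Algebra RS RS' := α.toAlgebra
  haveI : Algebra.IsIntegral RS RS' := ⟨hint⟩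
  exact isAcyclicN_baseChange_integral (R := RS) (R' := RS') hsq (hf (pullback.fst f g (kD P)) RS RX hβ)

end Groth.Agent.SmoothLA
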