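import Groth.Agent.SmoothLA.Stages
import Groth.Agent.AcycFin.LocalRange
import Groth.Agent.EtFound.Henselian
import Groth.Agent.S3054

/-!
# Killedness descends along universally closed maps
-/

set_option autoImplicit false
set_option linter.unusedSectionVars false
set_option linter.style.haveILetI false
set_option backward.isDefEq.respectTransparency false
set_option backward.isDefEq.respectTransparency.types false

universe u

open CategoryTheory CategoryTheory.Limits AlgebraicGeometry Opposite Abelian IsLocalRing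

noncomputable section

namespace Groth.Agent.SmoothLA

open Groth.Agent.AcycFin Groth.Agent.RpushStalk H0PBC H0FBC
open Groth.Agent.Hensel (Henz Nbhd NbhdCat)

attribute [local instance] EtFound.pull_preservesFiniteLimits

/-- The spectrum of a strictly henselian ring is acyclic. -/
theorem subsingleton_H_henselian (W : Type u) [CommRing W] [HenselianLocalRing W] [IsSepClosed (ResidueField W)]
    (F : EtCoh.Ab (Spec (CommRingCat.of W))) (q : ℕ) : Subsingleton (EtCoh.H (Spec (CommRingCat.of W)) F (q + 1)) := by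
  haveI : Projective (EtCoh.const (Spec (CommRingCat.of W)) ℤ) := EtFound.projective_constZ W
  exact subsingleton_of_forall_eq 0 fun x => Ext.eq_zero_of_projective x

variable {X T P : Scheme.{u}} {M : Type} [AddCommGroup M]

/-- The map to the strict localization of `P`. -/
abbrev gammaW {W : Type u} [CommRing W] {h : Spec (CommRingCat.of W) ⟶ X} (D : Model X W h) {g : T ⟶ X}
    {pr : P ⟶ X} {γ : T ⟶ P} (w : γ ≫ pr = g) : PB g D.ι W ⟶ PB pr D.ι W :=
  pullback.lift (pullback.fst _ _) (pullback.snd _ _ ≫ γ) (by rw [Category.assoc, w]; exact pullback.condition)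

theorem isPullback_gammaW {W : Type u} [CommRing W] {h : Spec (CommRingCat.of W) ⟶ X} (D : Model X W h) {g : T ⟶ X}
    {pr : P ⟶ X} {γ : T ⟶ P} (w : γ ≫ pr = g) :
    IsPullback (pullback.snd (ym D.ι W) g) (gammaW D w) γ (pullback.snd (ym D.ι W) pr) :=
  (IsPullback.of_right (h₁₁ := gammaW D w) (h₁₂ := pullback.fst (ym D.ι W) pr) (h₂₁ := γ) (h₂₂ := pr)
    (v₁₁ := pullback.snd (ym D.ι W) g) (v₁₂ := pullback.snd (ym D.ι W) pr) (v₁₃ := ym D.ι W)
    (by
      rw [show gammaW D w ≫ pullback.fst (ym D.ι W) pr = pullback.fst (ym D.ι W) g from pullback.lift_fst _ _ _, w]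
      exact IsPullback.of_hasPullback (ym D.ι W) g)
    (pullback.lift_snd _ _ _) (IsPullback.of_hasPullback (ym D.ι W) pr)).flip

/-- If all points of `P` over `x` kill `ξ` and the first cohomology of the direct image on the strict
localization of `P` at `x` vanishes, then `ξ` dies at `x`. -/
theorem killed_of_over (g : T ⟶ X) [QuasiCompact g] [QuasiSeparated g] (ξ : EtCoh.H T (EtCoh.const T M) 1)
    {W : Type u} [CommRing W] [HenselianLocalRing W] {h : Spec (CommRingCat.of W) ⟶ X} (D : Model X W h)
    (pr : P ⟶ X) [UniversallyClosed pr] (γ : T ⟶ P) (w : γ ≫ pr = g)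
    (hall : ∀ p : P, pr p = h (closedPoint W) → Killed γ ξ p)
    (hH : Subsingleton (EtCoh.H (PB pr D.ι W)
      ((EtCoh.push (gammaW D w)).obj (EtCoh.const (PB g D.ι W) M)) 1)) :
    Killed g ξ (h (closedPoint W)) := by
  refine killed_of_Kc_zero D g M 1 ξ ?_
  let ξW := Kc (pullback.snd (ym D.ι W) g) M 1 ξ
  let γW := gammaW D w
  have hloc : ∀ z : PB pr D.ι W, Killed γW ξW z := by
    intro z
    haveI : UniversallyClosed (pullback.fst (ym D.ι W) pr) :=
      MorphismProperty.pullback_fst (P := @UniversallyClosed) _ _ ‹_›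
    obtain ⟨z', hz', e'⟩ : ∃ z', z ⤳ z' ∧ pullback.fst (ym D.ι W) pr z' = closedPoint W :=
      (pullback.fst (ym D.ι W) pr).isClosedMap.specializingMap
        (specializes_closedPoint (pullback.fst (ym D.ι W) pr z))
    refine killed_of_specializes γW ξW hz' (killed_pull γ ξ (pullback.snd (ym D.ι W) pr) (pullback.snd (ym D.ι W) g) γW
      (pullback.lift_snd _ _ _) z' (hall _ ?_))
    rw [← Scheme.Hom.comp_apply, ← pullback.condition, Scheme.Hom.comp_apply, e', D.fac]
  obtain ⟨t, ht⟩ := AcycFin.mem_range_HofPush_of_local γW 0 _ (fun j hj => absurd hj (Nat.not_lt_zero j)) ξW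
    fun z => by
      obtain ⟨V, hz, hV⟩ := hloc z
      refine ⟨V, hz, (EtAcycLib.bijective_comp_mk₀ (n := 1) (EtCore.pullConst (pullback.snd V.hom γW) M)).1 ?_⟩
      refine Eq.trans ?_ (Ext.zero_comp ..).symm
      exact hV
  show ξW = 0
  rw [← ht, @Subsingleton.elim _ hH t 0, map_zero]

/-- Killedness descends along integral morphisms. -/
theorem killed_of_integral (g : T ⟶ X) [QuasiCompact g] [QuasiSeparated g] (ξ : EtCoh.H T (EtCoh.const T M) 1)
    {W : Type u} [CommRing W] [HenselianLocalRing W] [IsSepClosed (ResidueField W)]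
    {h : Spec (CommRingCat.of W) ⟶ X} (D : Model X W h) (pr : P ⟶ X) [IsIntegralHom pr] (γ : T ⟶ P)
    (w : γ ≫ pr = g) (hall : ∀ p : P, pr p = h (closedPoint W) → Killed γ ξ p) :
    Killed g ξ (h (closedPoint W)) := by
  refine killed_of_over g ξ D pr γ w hall ?_
  haveI : IsIntegralHom (pullback.fst (ym D.ι W) pr) := MorphismProperty.pullback_fst (P := @IsIntegralHom) _ _ ‹_›
  haveI := subsingleton_H_henselian W
    ((EtCoh.push (pullback.fst (ym D.ι W) pr)).obj ((EtCoh.push (gammaW D w)).obj (EtCoh.const (PB g D.ι W) M))) 0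
  exact (EtAcycLib.UnitRpush.HofPush_bijective (pullback.fst (ym D.ι W) pr) 1 _
    fun j _ => S3054.result _ _ (j + 1) (Nat.succ_pos j)).2.subsingleton

end Groth.Agent.SmoothLA
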