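import Groth.Agent.SmoothLA.Core
import Groth.Agent.CurveAff.FiveTerm
import Groth.Agent.PBCThm.BC
import Groth.Agent.AcycFin.StrictLoc
import Groth.Agent.AcycFin.GeomFibres
import Groth.Agent.H0FBC.ZeroAcyclic
import Groth.Agent.S0674
import Groth.Agent.S3095
import Groth.Agent.S3474
import Groth.Agent.GrpSchLib.SmoothReduced

/-!
# Killedness descends along proper base changes over strictly henselian bases
-/

set_option autoImplicit false
set_option linter.unusedSectionVars false
set_option linter.style.haveILetI false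
set_option backward.isDefEq.respectTransparency false
set_option backward.isDefEq.respectTransparency.types false

universe u

open CategoryTheory CategoryTheory.Limits AlgebraicGeometry Opposite Abelian IsLocalRing

noncomputable section

namespace Groth.Agent.SmoothLA

open Groth.Agent.AcycFin Groth.Agent.RpushStalk H0PBC H0FBC Groth.Agent.ClosedAffAcyc

attribute [local instance] EtFound.pull_preservesFiniteLimits

/-- Smooth morphisms are universally locally zero acyclic. -/
theorem isLocZeroAcyclic_of_smooth {X Y : Scheme.{u}} (g : X ⟶ Y) [Smooth g] : EtAcyc.IsLocZeroAcyclic g := by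
  refine S3474.result g (fun K _ k => ?_) (.inr inferInstance) g (𝟙 X) (𝟙 Y) (IsPullback.of_horiz_isIso ⟨by simp⟩)
  exact GrpSchLib.isReduced_of_smooth_field (pullback.snd g k)

/-- The vanishing over the strict localization needed to descend killedness along the projective line. -/
theorem subsingleton_H_one_pushW {ℓ : ℕ} [Fact ℓ.Prime] {B : Type u} [CommRing B] [HenselianLocalRing B]
    [IsSepClosed (ResidueField B)] {Ω : Type u} [Field Ω] [IsSepClosed Ω] (σ : B →+* Ω)
    {X T Q : Scheme.{u}} (pB : X ⟶ Spec (CommRingCat.of B)) [Smooth pB] (g : T ⟶ X)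
    (t : T ⟶ Spec (CommRingCat.of Ω)) (hT : IsPullback g t pB (Spec.map (CommRingCat.ofHom σ)))
    (q : Q ⟶ Spec (CommRingCat.of B)) [IsProper q] (s : Spec (CommRingCat.of Ω) ⟶ Q)
    [QuasiCompact s] [QuasiSeparated s]
    (hs : s ≫ q = Spec.map (CommRingCat.ofHom σ)) (γ : T ⟶ pullback pB q) (hγ1 : γ ≫ pullback.fst pB q = g)
    (hγ2 : γ ≫ pullback.snd pB q = t ≫ s)
    {W : Type u} [CommRing W] [HenselianLocalRing W] [IsSepClosed (ResidueField W)]
    {h : Spec (CommRingCat.of W) ⟶ X} [WeaklyEtale h] (D : Model X W h) (hx : pB (h (closedPoint W)) = closedPoint B) :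
    Subsingleton (EtCoh.H (PB (pullback.fst pB q) D.ι W)
      ((EtCoh.push (gammaW D hγ1)).obj (EtCoh.const (PB g D.ι W) (ZMod ℓ))) 1) := by
  let pr := pullback.fst pB q
  let γW := gammaW D hγ1
  let p₁ := pullback.snd (ym D.ι W) pr
  let e := p₁ ≫ pullback.snd pB q
  let δ := pullback.snd (ym D.ι W) g ≫ t
  have cT : IsPullback t γ s (pullback.snd pB q) := by
    refine (IsPullback.of_right (h₁₁ := γ) (h₁₂ := pullback.fst pB q) (h₂₁ := s) (h₂₂ := q) (v₁₁ := t)
      (v₁₂ := pullback.snd pB q) (v₁₃ := pB) ?_ hγ2 (IsPullback.of_hasPullback pB q)).flip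
    rw [hγ1, hs]
    exact hT
  have cW : IsPullback δ γW s e := (isPullback_gammaW D hγ1).paste_horiz cT
  haveI : WeaklyEtale (ym D.ι W) := by rw [D.fac]; infer_instance
  haveI : WeaklyEtale p₁ := MorphismProperty.pullback_snd (P := @WeaklyEtale) _ _ ‹_›
  haveI : Smooth (pullback.snd pB q) := MorphismProperty.pullback_snd (P := @Smooth) _ _ ‹_›
  haveI : Flat e := inferInstance
  haveI : WeaklyEtale (𝟙 Q) := inferInstance
  have hstr : EtAcyc.OnStrictLocalizations e (fun _ _ m => EtAcyc.IsZeroAcyclic m) :=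
    onStrict_of_weaklyEtale (pullback.snd pB q) e p₁ (𝟙 Q) (Category.comp_id e).symm
      (isLocZeroAcyclic_of_smooth (pullback.snd pB q))
  haveI hbc := S0674.result e (fun z RS _ _ _ _ _ RX _ _ _ _ _ ψ _ hψ L _ _ η => by
    letI : Algebra RS RX := ψ.toAlgebra
    haveI : IsLocalHom (algebraMap RS RX) := ‹IsLocalHom ψ›
    exact (H0FBC.geometricallyConnected_of_isZeroAcyclic (hstr z RS RX hψ)).geometrically_connectedSpace
      η _ _ (IsPullback.of_hasPullback _ η)) s γW δ cW (EtCoh.const (Spec (CommRingCat.of Ω)) (ZMod ℓ))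
  let G := (EtCoh.push s).obj (EtCoh.const (Spec (CommRingCat.of Ω)) (ZMod ℓ))
  haveI := @asIso _ _ _ _ _ hbc
  let iso : (EtCoh.pull e).obj G ≅ (EtCoh.push γW).obj (EtCoh.const (PB g D.ι W) (ZMod ℓ)) :=
    @asIso _ _ _ _ _ hbc ≪≫ (EtCoh.push γW).mapIso (EtCore.pullConst δ (ZMod ℓ))
  refine PBCThm.subsingleton_congr iso 1 ?_
  -- torsion
  haveI : NeZero ℓ := ⟨(Fact.out : ℓ.Prime).ne_zero⟩
  have hG : EtCoh.IsTorsion G :=
    isTorsion_of_isLTorsion (isLTorsion_of_killed (L := Set.univ) (m := ℓ) ⟨Nat.pos_of_neZero ℓ, fun _ _ _ => trivial⟩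
      (killedBy_push s (ZMod ℓ) ℓ fun a => by rw [nsmul_eq_mul, ZMod.natCast_self, zero_mul]))
  -- restriction to the closed fibres
  let rW := Spec.map (CommRingCat.ofHom (residue W))
  let rB := Spec.map (CommRingCat.ofHom (residue B))
  let pl := pullback.fst (ym D.ι W) pr
  haveI : IsProper pl := MorphismProperty.pullback_fst (P := @IsProper) _ _
    (MorphismProperty.pullback_fst (P := @IsProper) pB q ‹_›)
  haveI := EtFound.pull_preservesFiniteLimits (pullback.fst pl rW)
  haveI := EtFound.pull_preservesFiniteLimits (pullback.fst q rB)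
  haveI : EtCoh.BCCont (pullback.fst pl rW) := inferInstance
  haveI : EtCoh.BCCont (pullback.fst q rB) := inferInstance
  refine @Function.Injective.subsingleton _ _ _ (S3095.result W _ pl ((EtCoh.pull e).obj G)
    (H9Transfer.isTorsion_pull e G hG) 1).1 ?_
  refine (subsingleton_pull_pull (pullback.fst pl rW) e _ rfl G 1).2 ?_
  -- the map of residue fields
  obtain ⟨φ₀, hφ₀⟩ := Spec.map_surjective (h ≫ pB)
  let ρ : B →+* W := φ₀.hom
  have hρ : Spec.map (CommRingCat.ofHom ρ) = h ≫ pB := hφ₀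
  haveI : IsLocalHom ρ := (IsLocalRing.isLocalHom_iff_comap_closedPoint ρ).2 (by
    show Spec.map (CommRingCat.ofHom ρ) (closedPoint W) = _
    rw [hρ, Scheme.Hom.comp_apply, hx])
  let φ := ResidueField.map ρ
  have hφ : Spec.map (CommRingCat.ofHom φ) ≫ rB = rW ≫ Spec.map (CommRingCat.ofHom ρ) := by
    rw [← Spec.map_comp, ← Spec.map_comp]
    rfl
  have c0 : IsPullback e pl q (Spec.map (CommRingCat.ofHom ρ)) := by
    rw [hρ, show h ≫ pB = ym D.ι W ≫ pB from congrArg (· ≫ pB) D.fac.symm]
    exact ((IsPullback.of_hasPullback (ym D.ι W) pr).flip.paste_horiz (IsPullback.of_hasPullback pB q).flip :)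
  have c1 : IsPullback (pullback.fst pl rW ≫ e) (pullback.snd pl rW) q (rW ≫ Spec.map (CommRingCat.ofHom ρ)) :=
    (IsPullback.of_hasPullback pl rW).paste_horiz c0
  rw [← hφ] at c1
  have hw : (pullback.fst pl rW ≫ e) ≫ q = (pullback.snd pl rW ≫ Spec.map (CommRingCat.ofHom φ)) ≫ rB := by
    rw [c1.w, Category.assoc]
  let v := pullback.lift (pullback.fst pl rW ≫ e) (pullback.snd pl rW ≫ Spec.map (CommRingCat.ofHom φ)) hw
  have c2 : IsPullback v (pullback.snd pl rW) (pullback.snd q rB) (Spec.map (CommRingCat.ofHom φ)) := by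
    refine IsPullback.of_right ?_ (pullback.lift_snd _ _ _) (IsPullback.of_hasPullback q rB)
    rw [show v ≫ pullback.fst q rB = pullback.fst pl rW ≫ e from pullback.lift_fst _ _ _]
    exact c1
  refine (subsingleton_pull_pull v (pullback.fst q rB) _ (pullback.lift_fst _ _ _) G 1).1 ?_
  haveI : IsProper (pullback.snd q rB) := MorphismProperty.pullback_snd (P := @IsProper) _ _ ‹_›
  refine @Function.Surjective.subsingleton _ _ _ ?_ (PBCThm.bijective_Hpull_sepClosed' φ c2 _
    (H9Transfer.isTorsion_pull _ G hG) 1).2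
  refine @Function.Surjective.subsingleton _ _ _ ?_ (S3095.result B _ q G hG 1).2
  haveI : Subsingleton (EtCoh.H (Spec (CommRingCat.of Ω)) (EtCoh.const (Spec (CommRingCat.of Ω)) (ZMod ℓ)) 1) :=
    subsingleton_H_sepClosed Ω _ 1 le_rfl
  exact CurveAff.subsingleton_H_one_push s (EtCoh.const (Spec (CommRingCat.of Ω)) (ZMod ℓ))

end Groth.Agent.SmoothLA
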