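import Groth.Agent.SmoothLA.KillDef
import Groth.Agent.CurveAff.Mu
import Groth.Agent.CurveModel.Basic
import Groth.Agent.PicCurve.Kummer
import Groth.Agent.SmoothMin.Fibre
import Groth.Agent.NmpFinite.Basic
import Groth.Agent.AlgSpDec.LimQuasiFiniteScheme
import Groth.Agent.ClosedAffAcyc.Limit
import Groth.Agent.PBCThm.BC
import Groth.Agent.EtFound.ConstGeneric
import Groth.Agent.S0120
import Mathlib.RingTheory.Flat.TorsionFree

/-!
# Étale curves over the affine line have no cohomology in degrees at least two
-/

set_option autoImplicit false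
set_option linter.unusedSectionVars false
set_option linter.style.haveILetI false
set_option backward.isDefEq.respectTransparency false
set_option backward.isDefEq.respectTransparency.types false
set_option maxHeartbeats 1600000

universe u

open CategoryTheory CategoryTheory.Limits AlgebraicGeometry Opposite Abelian Polynomial IsLocalRing

noncomputable section

namespace Groth.Agent.SmoothLA

open Groth.Agent.AcycFin

attribute [local instance] EtFound.pull_preservesFiniteLimits

variable (k : Type u) [Field k] [IsAlgClosed k] (E : Type u) [CommRing E] [IsDomain E] [Algebra k E] [Algebra k[X] E]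
  [IsScalarTower k k[X] E] [Algebra.Etale k[X] E]

theorem finiteType_of_etale_line : Algebra.FiniteType k E :=
  Algebra.FiniteType.trans (R := k) (S := k[X]) (A := E) inferInstance inferInstance

theorem not_finite_of_etale_line : ¬ Module.Finite k E := fun h => by
  haveI := h
  haveI : Module.IsTorsionFree k[X] E := Module.Flat.isTorsionFree
  have hinj : Function.Injective ((IsScalarTower.toAlgHom k k[X] E).toLinearMap) := by
    show Function.Injective (algebraMap k[X] E)
    refine (injective_iff_map_eq_zero _).2 fun f hf => ?_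
    by_contra h0
    refine one_ne_zero (α := E) ((smul_eq_zero (R := k[X]) (M := E) (r := f) (m := 1)).1 ?_ |>.resolve_left h0)
    rw [Algebra.smul_def, mul_one, hf]
  exact Polynomial.not_finite (R := k) (Module.Finite.of_injective _ hinj)

include k in
theorem topologicalKrullDim_etale_line : topologicalKrullDim (Spec (CommRingCat.of E)) = 1 := by
  refine (PrimeSpectrum.topologicalKrullDim_eq_ringKrullDim E).trans (le_antisymm ?_ ?_)
  · rw [ringKrullDim_le_iff_isMaximal_height_le]
    intro m hm
    let f : Spec (CommRingCat.of E) ⟶ Spec (CommRingCat.of k[X]) := Spec.map (CommRingCat.ofHom (algebraMap k[X] E))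
    haveI : AlgebraicGeometry.Etale f :=
      (HasRingHomProperty.Spec_iff (P := @AlgebraicGeometry.Etale)).2 (RingHom.etale_algebraMap.2 ‹_›)
    let x : Spec (CommRingCat.of E) := ⟨m, hm.isPrime⟩
    have h := S0120.result f x
    letI : Algebra E ((Spec (CommRingCat.of E)).presheaf.stalk x) := StructureSheaf.stalkAlgebra _ _
    haveI : IsLocalization.AtPrime ((Spec (CommRingCat.of E)).presheaf.stalk x) x.asIdeal :=
      StructureSheaf.IsLocalization.to_stalk _ _
    letI : Algebra k[X] ((Spec (CommRingCat.of k[X])).presheaf.stalk (f x)) := StructureSheaf.stalkAlgebra _ _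
    haveI : IsLocalization.AtPrime ((Spec (CommRingCat.of k[X])).presheaf.stalk (f x)) (f x).asIdeal :=
      StructureSheaf.IsLocalization.to_stalk _ _
    rw [IsLocalization.AtPrime.ringKrullDim_eq_height x.asIdeal ((Spec (CommRingCat.of E)).presheaf.stalk x),
      IsLocalization.AtPrime.ringKrullDim_eq_height (f x).asIdeal
        ((Spec (CommRingCat.of k[X])).presheaf.stalk (f x))] at h
    show ((x.asIdeal.height : ℕ∞) : WithBot ℕ∞) ≤ 1
    rw [h]
    refine ((f x).asIdeal.height_le_ringKrullDim_of_ne_top (f x).2.ne_top).trans ?_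
    rw [Polynomial.ringKrullDim_of_isNoetherianRing, ringKrullDim_eq_zero_of_field, zero_add]
  · by_contra hlt
    rw [not_le] at hlt
    haveI : Algebra.FiniteType k E := finiteType_of_etale_line k E
    have h0 : ringKrullDim E ≤ 0 := by
      revert hlt
      induction ringKrullDim E using WithBot.recBotCoe with
      | bot => exact fun _ => bot_le
      | coe d => exact fun h => WithBot.coe_le_coe.2 (Order.lt_one_iff.1 (WithBot.coe_lt_coe.1 h)).le
    haveI : Ring.KrullDimLE 0 E := Ring.krullDimLE_iff.2 (by exact_mod_cast h0)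
    letI : Field E := (Ring.KrullDimLE.isField_of_isDomain (R := E)).toField
    exact not_finite_of_etale_line k E (finite_of_finite_type_of_isJacobsonRing k E)

/-- Integral étale curves over the affine line have no higher cohomology. -/
theorem subsingleton_H_const_curve {n : ℕ} (hn : (n : k) ≠ 0) (q : ℕ) (hq : 2 ≤ q) :
    Subsingleton (EtCoh.H (Spec (CommRingCat.of E)) (EtCoh.const _ (ZMod n)) q) := by
  let U := Spec (CommRingCat.of E)
  let sU : U ⟶ Spec (CommRingCat.of k) := Spec.map (CommRingCat.ofHom (algebraMap k E))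
  haveI : Algebra.FiniteType k E := finiteType_of_etale_line k E
  letI : U.Over (Spec (CommRingCat.of k)) := ⟨sU⟩
  haveI : LocallyOfFiniteType sU :=
    (HasRingHomProperty.Spec_iff (P := @LocallyOfFiniteType)).2 (RingHom.finiteType_algebraMap.2 ‹_›)
  haveI : LocallyOfFiniteType (U ↘ Spec (CommRingCat.of k)) := ‹LocallyOfFiniteType sU›
  haveI : IsSeparated (U ↘ Spec (CommRingCat.of k)) := inferInstanceAs (IsSeparated sU)
  haveI : QuasiCompact (U ↘ Spec (CommRingCat.of k)) := inferInstanceAs (QuasiCompact sU)
  haveI : Smooth sU := by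
    haveI : Algebra.Smooth k k[X] := ⟨inferInstance, inferInstance⟩
    exact (HasRingHomProperty.Spec_iff (P := @Smooth)).2 (RingHom.smooth_algebraMap.2 (Algebra.Smooth.comp k k[X] E))
  have hnor : Pi1.IsNormalScheme U :=
    NmpFinite.isNormalScheme_of_smooth (EtFound.ConstVal.isNormalScheme _ fun x => by
      letI : Algebra k ((Spec (CommRingCat.of k)).presheaf.stalk x) := StructureSheaf.stalkAlgebra _ _
      haveI : IsLocalization.AtPrime ((Spec (CommRingCat.of k)).presheaf.stalk x) x.asIdeal :=
        StructureSheaf.IsLocalization.to_stalk _ _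
      exact isIntegrallyClosed_of_isLocalization _ x.asIdeal.primeCompl x.asIdeal.primeCompl_le_nonZeroDivisors) sU
  obtain ⟨Y, _, j, hj, hjc, hY, hsm, hdim, d, i, hi, hic⟩ :=
    CurveModel.exists_model k U hnor (topologicalKrullDim_etale_line k E)
  haveI := hj
  haveI := hY
  haveI := hsm
  haveI : IsProper (Y ↘ Spec (CommRingCat.of k)) := by
    haveI := hi
    haveI : IsProper (CohB1.ProjSpace.toSpec d k) := PnCoh.Chow.isProper_toSpec d k
    rw [← hic]
    infer_instance
  let O := j.opensRange
  haveI : IsLocallyNoetherian Y := LocallyOfFiniteType.isLocallyNoetherian (Y ↘ Spec (CommRingCat.of k))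
  haveI : CompactSpace Y := QuasiCompact.compactSpace_of_compactSpace (Y ↘ Spec (CommRingCat.of k))
  haveI : IsNoetherian Y := {}
  haveI : Nonempty U := inferInstance
  have hgen : genericPoint Y ∈ O :=
    (genericPoint_spec Y).mem_open_set_iff O.isOpen |>.2 ⟨j (genericPoint U), trivial, ⟨_, rfl⟩⟩
  have hfin : ((O : Set Y)ᶜ).Finite := by
    refine AlgSpDec.finite_of_isClosed_of_specializes ⟨_, O.isOpen.isClosed_compl⟩
      fun a ha b _ hab => ?_
    let p := Y ↘ Spec (CommRingCat.of k)
    have hle : ∀ y : Y, VarDim.deg p y ≤ 1 := fun y => by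
      have h := hdim.le
      rw [VarDim.topologicalKrullDim_eq_iSup_deg p] at h
      exact_mod_cast (le_iSup (fun y => (VarDim.deg p y : WithBot ℕ∞)) y).trans h
    have hne : genericPoint Y ≠ a := fun e => ha (e ▸ hgen)
    have h0 : VarDim.deg p a = 0 := by
      by_contra hz
      refine hne (VarDim.eq_of_specializes_of_deg_le p (genericPoint_specializes a) ?_)
      have := hle (genericPoint Y)
      omega
    exact VarDim.eq_of_specializes_of_deg_le p hab (by omega)
  obtain ⟨pt, hpt⟩ : ∃ p : Y, p ∉ O := by
    by_contra h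
    push Not at h
    haveI : Surjective j := ⟨fun y => h y⟩
    haveI : IsIso j := (isIso_iff_isOpenImmersion_and_epi_base j).2
      ⟨inferInstance, (TopCat.epi_iff_surjective _).2 j.surjective⟩
    haveI : IsProper sU := by
      rw [show sU = U ↘ Spec (CommRingCat.of k) from rfl, ← hjc]
      infer_instance
    haveI : IsFinite sU := IsFinite.iff_isProper_and_isAffineHom.2 ⟨inferInstance, inferInstance⟩
    exact not_finite_of_etale_line k E (RingHom.finite_algebraMap.1 ((IsFinite.SpecMap_iff _).1 ‹IsFinite sU›))
  haveI := CurveAff.subsingleton_H_mu (k := k) hdim O hfin hpt hn q hq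
  obtain ⟨e⟩ := PicCurve.nonempty_mu_iso_const' (O.ι ≫ Y ↘ Spec (CommRingCat.of k)) hn
  have h1 : Subsingleton (EtCoh.H (O : Scheme.{u}) (EtCoh.const _ (ZMod n)) q) :=
    PBCThm.subsingleton_congr e q inferInstance
  exact PBCThm.subsingleton_congr (EtCore.pullConst j.isoOpensRange.hom (ZMod n)) q
    (ClosedAffAcyc.subsingleton_of_isIso j.isoOpensRange.hom _ q h1)

/-- Higher classes on an étale curve over the line die on connected schemes over it. -/
theorem Kc_eq_zero_of_connected (k : Type u) [Field k] [IsAlgClosed k] (E : Type u) [CommRing E] [Algebra k E]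
    [Algebra k[X] E] [IsScalarTower k k[X] E] [Algebra.Etale k[X] E] {n : ℕ} (hn : (n : k) ≠ 0) (q : ℕ) (hq : 2 ≤ q)
    {P : Scheme.{u}} [ConnectedSpace P] (φ : P ⟶ Spec (CommRingCat.of E))
    (z : EtCoh.H (Spec (CommRingCat.of E)) (EtCoh.const _ (ZMod n)) q) : Kc φ (ZMod n) q z = 0 := by
  haveI : Algebra.Smooth k k[X] := ⟨inferInstance, inferInstance⟩
  haveI : Algebra.Smooth k E := Algebra.Smooth.comp k k[X] E
  haveI : IsNoetherianRing E := Algebra.FiniteType.isNoetherianRing k E
  haveI : Smooth (Spec.map (CommRingCat.ofHom (algebraMap k E))) :=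
    (HasRingHomProperty.Spec_iff (P := @Smooth)).2 (RingHom.smooth_algebraMap.2 inferInstance)
  have hk : Pi1.IsNormalScheme (Spec (CommRingCat.of k)) := EtFound.ConstVal.isNormalScheme _ fun x => by
    letI : Algebra k ((Spec (CommRingCat.of k)).presheaf.stalk x) := StructureSheaf.stalkAlgebra _ _
    haveI : IsLocalization.AtPrime ((Spec (CommRingCat.of k)).presheaf.stalk x) x.asIdeal :=
      StructureSheaf.IsLocalization.to_stalk _ _
    exact isIntegrallyClosed_of_isLocalization _ x.asIdeal.primeCompl x.asIdeal.primeCompl_le_nonZeroDivisors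
  obtain ⟨ι, -, Z, hint, hdis, hcov⟩ := EtNorm.exists_components (Spec (CommRingCat.of E))
    (NmpFinite.isNormalScheme_of_smooth hk (Spec.map (CommRingCat.ofHom (algebraMap k E))))
  have hclosed : ∀ i, IsClosed (Z i : Set (Spec (CommRingCat.of E))) := fun i => by
    have e : (Z i : Set (Spec (CommRingCat.of E))) =
        (⋃ j ∈ {j | j ≠ i}, (Z j : Set (Spec (CommRingCat.of E))))ᶜ := by
      ext y
      simp only [Set.mem_compl_iff, Set.mem_iUnion, not_exists, SetLike.mem_coe, Set.mem_setOf_eq]
      refine ⟨fun hy j hj hyj => ((hdis j i hj).le ⟨hyj, hy⟩).elim, fun h => ?_⟩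
      obtain ⟨j, hj⟩ := hcov y
      rcases eq_or_ne j i with rfl | hne
      · exact hj
      · exact absurd hj (h j hne)
    rw [e]
    exact (isOpen_biUnion fun j _ => (Z j).isOpen).isClosed_compl
  obtain ⟨p⟩ : Nonempty P := inferInstance
  obtain ⟨i, hi⟩ := hcov (φ p)
  have hrange : Set.range φ ⊆ (Z i : Set (Spec (CommRingCat.of E))) := by
    rintro _ ⟨y, rfl⟩
    have hcl : IsClopen (φ ⁻¹' (Z i : Set (Spec (CommRingCat.of E)))) :=
      (IsClopen.preimage ⟨hclosed i, (Z i).isOpen⟩ φ.continuous)
    exact (hcl.eq_univ ⟨p, hi⟩).ge (Set.mem_univ y)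
  obtain ⟨e, -, he⟩ := PrimeSpectrum.exists_idempotent_basicOpen_eq_of_isClopen
    (s := (Z i : Set (Spec (CommRingCat.of E)))) ⟨hclosed i, (Z i).isOpen⟩
  let L := Localization.Away e
  let o : Spec (CommRingCat.of L) ⟶ Spec (CommRingCat.of E) := Spec.map (CommRingCat.ofHom (algebraMap E L))
  haveI : IsOpenImmersion o := IsOpenImmersion.of_isLocalization e
  have ho : Set.range o = (Z i : Set (Spec (CommRingCat.of E))) := by
    show Set.range (PrimeSpectrum.comap (algebraMap E L)) = _
    rw [PrimeSpectrum.localization_away_comap_range L e]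
    exact he.symm
  haveI : IsDomain L := by
    haveI := hint i
    let eo : Spec (CommRingCat.of L) ≅ (Z i).toScheme :=
      IsOpenImmersion.isoOfRangeEq o (Z i).ι (ho.trans (Scheme.Opens.range_ι _).symm)
    haveI : IsIntegral (Spec (CommRingCat.of L)) := IsIntegral.of_isIso eo.inv
    exact (affine_isIntegral_iff (CommRingCat.of L)).1 inferInstance
  haveI : Algebra.Etale E L := Algebra.Etale.of_isLocalizationAway e
  haveI : Algebra.Etale k[X] L := Algebra.Etale.comp k[X] E L
  haveI : IsScalarTower k k[X] L := IsScalarTower.of_algebraMap_eq fun x => by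
    rw [IsScalarTower.algebraMap_apply k E L, IsScalarTower.algebraMap_apply k k[X] E,
      ← IsScalarTower.algebraMap_apply k[X] E L]
  exact Kc_eq_zero_of_fac (IsOpenImmersion.lift o φ (hrange.trans ho.ge)) o φ (IsOpenImmersion.lift_fac _ _ _) q z
    ((subsingleton_H_const_curve k L hn q hq).elim _ _)

end Groth.Agent.SmoothLA
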