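import Groth.Agent.SmoothLA.FieldSys
import Groth.Agent.SmoothLA.LimSmooth
import Groth.Agent.PBCThm.SepClosed
import Groth.Agent.EtFound.UnivInjPush
import Groth.Agent.S6668
import Groth.Agent.BcHComp5.HComp
import Mathlib.FieldTheory.PurelyInseparable.PerfectClosure

/-!
# Base change along field extensions
-/

set_option autoImplicit false
set_option linter.unusedSectionVars false
set_option linter.style.haveILetI false
set_option backward.isDefEq.respectTransparency false
set_option backward.isDefEq.respectTransparency.types false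
set_option maxHeartbeats 1600000

universe u

open CategoryTheory CategoryTheory.Limits AlgebraicGeometry Opposite HomologicalComplex

attribute [local instance] HasDerivedCategory.standard
attribute [-instance] CategoryTheory.catToReflQuiver

noncomputable section

namespace Groth.Agent.SmoothLA

open Groth.Agent.AcycFin BcQCalc

attribute [local instance] EtFound.pull_preservesFiniteLimits

/-- Base change maps along morphisms inducing equivalences of sheaves are isomorphisms. -/
theorem isIso_bcQ_of_univHomeo {X S X' S' : Scheme.{u}} (f : X ⟶ S) (g : S' ⟶ S) (f' : X' ⟶ S') (g' : X' ⟶ X)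
    (c : IsPullback g' f' f g) [IsIntegralHom g] [UniversallyInjective g] [Surjective g] (F : EtCoh.Ab X) (q : ℕ) :
    IsIso (EtBC.bcQ f g f' g' c.w q F) := by
  haveI : IsIntegralHom g' := MorphismProperty.of_isPullback (P := @IsIntegralHom) c.flip ‹_›
  haveI : UniversallyInjective g' := MorphismProperty.of_isPullback (P := @UniversallyInjective) c.flip ‹_›
  haveI : Surjective g' := MorphismProperty.of_isPullback (P := @Surjective) c.flip ‹_›
  haveI := EtFound.pull_isEquivalence_of_surjective g'
  have h0 : ∀ G, IsIso (EtCoh.baseChange0 f g f' g' c.w G) := fun G => by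
    haveI := EtFound.unit_isIso_of_surjective g' G
    haveI : ∀ H, IsIso ((EtCoh.pullPushAdj g).counit.app H) := EtFound.counit_isIso_of_integral_univInj g
    unfold EtCoh.baseChange0
    rw [Adjunction.homEquiv_counit]
    infer_instance
  haveI := BcHComp5.hasRpushEt f
  haveI := BcHComp5.hasRpushEt f'
  haveI := BcHComp5.hasRpushEt g
  let R := injectiveResolution F
  haveI : ∀ j, Injective (R.cocomplex.X j) := R.injective
  haveI : ∀ j, Injective (((EtBCD5.pullN g').obj R.cocomplex).X j) := fun j => by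
    show Injective ((EtCoh.pull g').obj (R.cocomplex.X j))
    exact ((EtCoh.pull g').asEquivalence.map_injective_iff _).2 (R.injective j)
  let adj := EtBCD5.adj₀ g
  refine (EtBCD5.homology_single_bcQ_iff f g f' g' c.w adj F q (MorphismProperty.isomorphisms _)).1 ?_
  refine (EtBCD5.homology_single_iff f g f' g' c.w adj F R (𝟙 _) q (MorphismProperty.isomorphisms _)).2 ?_
  haveI : ∀ j, IsIso ((EtBCD5.bcCN f g f' g' c.w R.cocomplex (𝟙 _)).f j) := fun j => by
    haveI := h0 (R.cocomplex.X j)
    show IsIso (EtCoh.baseChange0 f g f' g' c.w _ ≫ (EtCoh.push f').map (𝟙 _))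
    infer_instance
  haveI := HomologicalComplex.Hom.isIso_of_components (EtBCD5.bcCN f g f' g' c.w R.cocomplex (𝟙 _))
  exact inferInstanceAs (IsIso ((HomologicalComplex.homologyFunctor _ _ q).map (EtBCD5.bcCN f g f' g' c.w R.cocomplex (𝟙 _))))

section Field

variable {T S T' S' : Scheme.{u}}

/-- Base change along an extension of a perfect field. -/
theorem isIso_bcQ_perfect {k K : Type u} [Field k] [Field K] [Algebra k K] [PerfectField k]
    (b : S ⟶ Spec (CommRingCat.of k)) (p : S' ⟶ S) (b' : S' ⟶ Spec (CommRingCat.of K))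
    (hS : IsPullback p b' b (Spec.map (CommRingCat.ofHom (algebraMap k K))))
    (f : T ⟶ S) [QuasiCompact f] [QuasiSeparated f] (f' : T' ⟶ S') (p' : T' ⟶ T) (hT : IsPullback p' f' f p)
    (F : EtCoh.Ab T) (hF : EtAcyc.IsLTorsion (EtAcyc.primesInvertibleOn (Spec (CommRingCat.of k))) F) (q : ℕ) :
    IsIso (EtBC.bcQ f p f' p' hT.w q F) := by
  let D₀ := FieldSys.schDiag k K
  let t : D₀ ⋙ Over.forget _ ⟶ (Functor.const _).obj (Spec (CommRingCat.of k)) :=
    { app := fun a => (D₀.obj a).hom
      naturality := fun a b m => (Over.w (D₀.map m)).trans (Category.comp_id _).symm }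
  let P := pbSys b t
  let D : (FieldSys.Idx k K)ᵒᵖ ⥤ Over S :=
    { obj := fun a => Over.mk (pullback.snd (t.app a) b : P.obj a ⟶ S)
      map := fun {a a'} m => Over.homMk (P.map m) (pullback.lift_snd _ _ _)
      map_id := fun a => Over.OverMorphism.ext (P.map_id a)
      map_comp := fun m m' => Over.OverMorphism.ext (P.map_comp m m') }
  let cP := pbCone b t (FieldSys.schCone k K) (Spec.map (CommRingCat.ofHom (algebraMap k K))) (FieldSys.schCone_w k K)
  let e₁ : S' ⟶ cP.pt := hS.flip.isoPullback.hom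
  haveI : IsIso e₁ := inferInstanceAs (IsIso hS.flip.isoPullback.hom)
  let c : Cone (D ⋙ Over.forget S) := cP.extend e₁
  have hc : IsLimit c := IsLimit.extendIso e₁
    (isLimitPbCone b t (FieldSys.schCone k K) _ (FieldSys.schCone_w k K) (FieldSys.isLimit_schCone k K))
  have hg : ∀ i, c.π.app i ≫ (D.obj i).hom = p := fun i => by
    show (e₁ ≫ cP.π.app i) ≫ pullback.snd (t.app i) b = p
    rw [Category.assoc, show cP.π.app i ≫ pullback.snd (t.app i) b = pullback.snd _ b from pullback.lift_snd _ _ _]
    exact hS.flip.isoPullback_hom_snd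
  refine isIso_bcQ_limit_smooth D (fun a a' m => MorphismProperty.of_isPullback (P := @IsAffineHom)
    (isPullback_pbSys b t m).flip (inferInstanceAs (IsAffineHom (Spec.map _)))) c hc p hg f f' p' hT
    (fun i => ?_) F ?_ q
  · haveI : Smooth (t.app i) := FieldSys.smooth_schDiag k K i
    exact MorphismProperty.pullback_snd (P := @Smooth) _ _ ‹_›
  · intro U s x
    obtain ⟨V, a, m, hv, hm, h0⟩ := hF U s x
    exact ⟨V, a, m, hv, ⟨hm.1, fun l hl hd => primesInvertibleOn_mono b (hm.2 l hl hd)⟩, h0⟩

theorem isIntegralHom_spec {k K : Type u} [Field k] [Field K] [Algebra k K] [Algebra.IsAlgebraic k K] :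
    IsIntegralHom (Spec.map (CommRingCat.ofHom (algebraMap k K))) :=
  (HasAffineProperty.iff_of_isAffine (P := @IsIntegralHom)).2 ⟨inferInstance, by
    exact (RingHom.isIntegral_respectsIso.arrow_mk_iso_iff (Arrow.isoMk (Scheme.ΓSpecIso _) (Scheme.ΓSpecIso _)
      (Scheme.ΓSpecIso_naturality _).symm)).2 (algebraMap_isIntegral_iff.2 inferInstance)⟩

theorem universallyInjective_spec {k L : Type u} [Field k] [Field L] [Algebra k L] [IsPurelyInseparable k L] :
    UniversallyInjective (Spec.map (CommRingCat.ofHom (algebraMap k L))) := by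
  refine ((tfae_universallyInjective _).out 0 1).2 ?_
  intro K iK g₁ g₂ hg
  letI : Field K := iK
  obtain ⟨φ₁, rfl⟩ := Spec.map_surjective g₁
  obtain ⟨φ₂, rfl⟩ := Spec.map_surjective g₂
  simp only [← Spec.map_comp] at hg
  refine congrArg Spec.map (CommRingCat.hom_ext ?_)
  refine IsPurelyInseparable.injective_comp_algebraMap k L K ?_
  exact congrArg CommRingCat.Hom.hom (Spec.map_injective hg)

/-- Base change along a field extension. -/
theorem isIso_bcQ_field {k K : Type u} [Field k] [Field K] (φ : k →+* K)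
    (b : S ⟶ Spec (CommRingCat.of k)) (p : S' ⟶ S) (b' : S' ⟶ Spec (CommRingCat.of K))
    (hS : IsPullback p b' b (Spec.map (CommRingCat.ofHom φ)))
    (f : T ⟶ S) [QuasiCompact f] [QuasiSeparated f] (f' : T' ⟶ S') (p' : T' ⟶ T) (hT : IsPullback p' f' f p)
    (F : EtCoh.Ab T) (hF : EtAcyc.IsLTorsion (EtAcyc.primesInvertibleOn (Spec (CommRingCat.of k))) F) (q : ℕ) :
    IsIso (EtBC.bcQ f p f' p' hT.w q F) := by
  letI : Algebra k K := φ.toAlgebra
  let E := AlgebraicClosure K
  letI : Algebra k E := ((algebraMap K E).comp φ).toAlgebra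
  let k' := perfectClosure k E
  let K' := perfectClosure K E
  have hle : ∀ x : E, x ∈ k' → x ∈ K' := fun x hx => by
    haveI : ExpChar k (ringExpChar K) := φ.expChar φ.injective _
    obtain ⟨n, y, hy⟩ := (mem_perfectClosure_iff_pow_mem (ringExpChar K)).1 hx
    exact (mem_perfectClosure_iff_pow_mem (ringExpChar K)).2 ⟨n, φ y, hy⟩
  let ψ : k' →+* K' :=
    { toFun := fun x => ⟨x.1, hle _ x.2⟩
      map_one' := rfl
      map_mul' := fun _ _ => rfl
      map_zero' := rfl
      map_add' := fun _ _ => rfl }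
  letI : Algebra k' K' := ψ.toAlgebra
  let sk := Spec.map (CommRingCat.ofHom (algebraMap k k'))
  let sK := Spec.map (CommRingCat.ofHom (algebraMap K K'))
  let sψ := Spec.map (CommRingCat.ofHom (algebraMap k' K'))
  have hw : sK ≫ Spec.map (CommRingCat.ofHom φ) = sψ ≫ sk := by
    rw [← Spec.map_comp, ← Spec.map_comp]
    exact congrArg Spec.map (CommRingCat.hom_ext (RingHom.ext fun x => rfl))
  haveI : IsIntegralHom sk := isIntegralHom_spec
  haveI : UniversallyInjective sk := universallyInjective_spec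
  haveI : Surjective sk := PBCThm.surjective_spec_field k k' _
  haveI : IsIntegralHom sK := isIntegralHom_spec
  haveI : UniversallyInjective sK := universallyInjective_spec
  haveI : Surjective sK := PBCThm.surjective_spec_field K K' _
  let S₁ := pullback b sk
  let v : S₁ ⟶ S := pullback.fst b sk
  let S₂ := pullback b' sK
  let r : S₂ ⟶ S' := pullback.fst b' sK
  let u : S₂ ⟶ S₁ := pullback.lift (r ≫ p) (pullback.snd b' sK ≫ sψ) (by
    rw [Category.assoc, hS.w, ← Category.assoc, pullback.condition, Category.assoc, hw, Category.assoc])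
  have hu : IsPullback u (pullback.snd b' sK) (pullback.snd b sk) sψ := by
    refine IsPullback.of_right (h₁₂ := v) (h₂₂ := sk) (v₁₃ := b) ?_ (pullback.lift_snd _ _ _)
      (IsPullback.of_hasPullback b sk)
    rw [show u ≫ v = r ≫ p from pullback.lift_fst _ _ _, ← hw]
    exact (IsPullback.of_hasPullback b' sK).paste_horiz hS
  haveI : IsIntegralHom v := MorphismProperty.pullback_fst (P := @IsIntegralHom) _ _ ‹IsIntegralHom sk›
  haveI : UniversallyInjective v := MorphismProperty.pullback_fst (P := @UniversallyInjective) _ _ ‹UniversallyInjective sk›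
  haveI : Surjective v := MorphismProperty.pullback_fst (P := @Surjective) _ _ ‹Surjective sk›
  haveI : IsIntegralHom r := MorphismProperty.pullback_fst (P := @IsIntegralHom) _ _ ‹IsIntegralHom sK›
  haveI : UniversallyInjective r := MorphismProperty.pullback_fst (P := @UniversallyInjective) _ _ ‹UniversallyInjective sK›
  haveI : Surjective r := MorphismProperty.pullback_fst (P := @Surjective) _ _ ‹Surjective sK›
  let f₁ := pullback.snd f v
  let v' := pullback.fst f v
  have c₁ : IsPullback v' f₁ f v := IsPullback.of_hasPullback f v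
  let f₂ := pullback.snd f' r
  let r' := pullback.fst f' r
  have c₂ : IsPullback r' f₂ f' r := IsPullback.of_hasPullback f' r
  let u' : pullback f' r ⟶ pullback f v := pullback.lift (r' ≫ p') (f₂ ≫ u) (by
    rw [Category.assoc, hT.w, ← Category.assoc, c₂.w, Category.assoc, Category.assoc,
      show u ≫ v = r ≫ p from pullback.lift_fst _ _ _])
  have c₃ : IsPullback u' f₂ f₁ u := by
    refine IsPullback.of_right (h₁₂ := v') (h₂₂ := v) (v₁₃ := f) ?_ (pullback.lift_snd _ _ _) c₁
    rw [show u' ≫ v' = r' ≫ p' from pullback.lift_fst _ _ _, show u ≫ v = r ≫ p from pullback.lift_fst _ _ _]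
    exact c₂.paste_horiz hT
  haveI := isIso_bcQ_of_univHomeo f v f₁ v' c₁ F q
  haveI : IsIso (EtBC.bcQ f₁ u f₂ u' c₃.w q ((EtCoh.pull v').obj F)) := by
    refine isIso_bcQ_perfect (pullback.snd b sk) u (pullback.snd b' sK) hu f₁ f₂ u' c₃ _ ?_ q
    refine EtAcycLib.isLTorsion_pull v' fun U s x => ?_
    obtain ⟨V, a, m, hv, hm, h0⟩ := hF U s x
    exact ⟨V, a, m, hv, ⟨hm.1, fun l hl hd => primesInvertibleOn_mono sk (hm.2 l hl hd)⟩, h0⟩
  have w₁ : (u' ≫ v') ≫ f = f₂ ≫ u ≫ v := (c₃.paste_horiz c₁).w
  have hV : IsIso (EtBC.bcQ f (u ≫ v) f₂ (u' ≫ v') w₁ q F) := by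
    rw [bcQ_vcomp f v f₁ v' c₁.w u f₂ u' c₃.w w₁ F q]
    infer_instance
  have w₂ : (r' ≫ p') ≫ f = f₂ ≫ r ≫ p := (c₂.paste_horiz hT).w
  have hU : IsIso (EtBC.bcQ f (r ≫ p) f₂ (r' ≫ p') w₂ q F) :=
    S6668.isIso_bcQ_congr (pullback.lift_fst _ _ _) (pullback.lift_fst _ _ _) w₁ w₂ F q hV
  rw [bcQ_vcomp f p f' p' hT.w r f₂ r' c₂.w w₂ F q] at hU
  haveI := isIso_bcQ_of_univHomeo f' r f₂ r' c₂ ((EtCoh.pull p').obj F) q
  haveI h2 := @IsIso.of_isIso_comp_left _ _ _ _ _ _ _ inferInstance hU
  haveI h3 := @IsIso.of_isIso_comp_right _ _ _ _ _ _ _ inferInstance h2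
  haveI := EtFound.pull_isEquivalence_of_surjective r
  exact isIso_of_reflects_iso (EtBC.bcQ f p f' p' hT.w q F) (EtCoh.pull r)

end Field

end Groth.Agent.SmoothLA
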