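import Groth.Agent.PicCurve.Kummer
import Groth.Agent.CurveCd.GmOne

/-!
# Fields in which every element is an `ℓ`-th power have no degree one cohomology
-/

set_option autoImplicit false
set_option linter.style.haveILetI false
set_option linter.unusedSectionVars false
set_option backward.isDefEq.respectTransparency false
set_option backward.isDefEq.respectTransparency.types false

universe u

open CategoryTheory CategoryTheory.Limits AlgebraicGeometry Opposite Abelian

noncomputable section

namespace Groth.Agent.SmoothLA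

attribute [local instance] EtFound.pull_preservesFiniteLimits

theorem subsingleton_H_one_field {k F : Type u} [Field k] [IsAlgClosed k] [Field F] (j : k →+* F) {n : ℕ}
    (hn : (n : k) ≠ 0) (hpow : ∀ x : F, ∃ y, y ^ n = x) :
    Subsingleton (EtCoh.H (Spec (CommRingCat.of F)) (EtCoh.const (Spec (CommRingCat.of F)) (ZMod n)) 1) := by
  let X := Spec (CommRingCat.of F)
  let f : X ⟶ Spec (CommRingCat.of k) := Spec.map (CommRingCat.ofHom j)
  have hu := PicCurve.isUnit_natCast_Γ f hn
  have hn0 : n ≠ 0 := fun h => hn (by simp [h])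
  let e := (Scheme.ΓSpecIso (CommRingCat.of F)).commRingCatIsoToRingEquiv
  have hdiv : ∀ z : EtCoh.H X (EtCoh.Gm X) 0, ∃ w, n • w = z := by
    intro z
    let u : Γ(X, ⊤)ˣ := (EtMu5.h0Gm X z).toMul
    obtain ⟨y, hy⟩ := hpow (e u)
    have hp : (e.symm y) ^ n = (u : Γ(X, ⊤)) := by rw [← map_pow, hy, RingEquiv.symm_apply_apply]
    have hu' : IsUnit (e.symm y) := (isUnit_pow_iff hn0).1 (hp ▸ u.isUnit)
    refine ⟨(EtMu5.h0Gm X).symm (Additive.ofMul hu'.unit), (EtMu5.h0Gm X).injective ?_⟩
    rw [map_nsmul, AddEquiv.apply_symm_apply]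
    exact congrArg Additive.ofMul (Units.ext (by rw [Units.val_pow_eq_pow_val]; exact hp) : hu'.unit ^ n = u)
  haveI : Subsingleton ↥X := inferInstanceAs (Subsingleton (PrimeSpectrum F))
  haveI : Nonempty ↥X := inferInstanceAs (Nonempty (PrimeSpectrum F))
  haveI := CurveCd.subsingleton_H1_Gm_of_subsingleton (X := X)
  obtain ⟨em⟩ := PicCurve.nonempty_H1_mu hu hdiv
  haveI : Subsingleton (EtCoh.H X (EtCoh.mu X n) 1) := em.toEquiv.subsingleton
  obtain ⟨ic⟩ := PicCurve.nonempty_mu_iso_const' f hn
  exact EtFound.ConstAcyclic.subsingleton_H_iso ic ‹_›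

end Groth.Agent.SmoothLA
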