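import Mathlib.RingTheory.Smooth.Field
import Mathlib.RingTheory.Smooth.Locus
import Mathlib.RingTheory.FiniteStability
import Mathlib.AlgebraicGeometry.Morphisms.Smooth
import Mathlib.AlgebraicGeometry.Limits
import Mathlib.CategoryTheory.Limits.Types.Filtered
import Mathlib.Algebra.Category.Ring.FilteredColimits

/-!
# An extension of a perfect field is a filtered union of smooth algebras
-/

set_option autoImplicit false
set_option linter.unusedSectionVars false
set_option linter.style.haveILetI false
set_option backward.isDefEq.respectTransparency false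
set_option backward.isDefEq.respectTransparency.types false

universe u

open CategoryTheory CategoryTheory.Limits AlgebraicGeometry Opposite

noncomputable section

namespace Groth.Agent.SmoothLA.FieldSys

variable (k : Type u) [Field k] (K : Type u) [Field K] [Algebra k K]

/-- Smooth finitely generated subalgebras. -/
abbrev Idx : Type u := {B : Subalgebra k K // B.FG ∧ Algebra.Smooth k B}

theorem exists_smooth_away [PerfectField k] (A : Type u) [CommRing A] [IsDomain A] [Algebra k A]
    [Algebra.FiniteType k A] : ∃ f : A, f ≠ 0 ∧ Algebra.Smooth k (Localization.Away f) := by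
  haveI : Algebra.FinitePresentation k A := Algebra.FinitePresentation.of_finiteType.1 ‹_›
  have h0 : (⟨⊥, Ideal.isPrime_bot⟩ : PrimeSpectrum A) ∈ Algebra.smoothLocus k A := by
    haveI : (⊥ : Ideal A).IsPrime := Ideal.isPrime_bot
    haveI : Algebra.EssFiniteType k (FractionRing A) := .comp k A _
    haveI : Algebra.FormallySmooth k (FractionRing A) := Algebra.FormallySmooth.of_perfectField
    haveI : IsLocalization (⊥ : Ideal A).primeCompl (FractionRing A) := by
      rw [Ideal.primeCompl_bot]
      infer_instance
    exact Algebra.FormallySmooth.of_equiv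
      ((IsLocalization.algEquiv (⊥ : Ideal A).primeCompl (FractionRing A) (Localization.AtPrime (⊥ : Ideal A))).restrictScalars k)
  obtain ⟨_, ⟨_, ⟨f, rfl⟩, rfl⟩, hxf, hf⟩ := PrimeSpectrum.isBasis_basic_opens.exists_subset_of_mem_open h0
    Algebra.isOpen_smoothLocus
  exact ⟨f, fun h => hxf (by rw [h]; exact zero_mem _), Algebra.basicOpen_subset_smoothLocus_iff_smooth.1 hf⟩

/-- Every finitely generated subalgebra is contained in a smooth one. -/
theorem exists_idx_ge [PerfectField k] (C : Subalgebra k K) (hC : C.FG) : ∃ B : Idx k K, C ≤ B.1 := by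
  haveI : Algebra.FiniteType k C := ⟨(Subalgebra.fg_top C).2 hC⟩
  obtain ⟨f, hf, hsm⟩ := exists_smooth_away k C
  have hu : IsUnit (C.val f) := (Ne.isUnit fun h => hf (Subtype.ext h))
  let ψ : Localization.Away f →ₐ[k] K := IsLocalization.liftAlgHom (M := Submonoid.powers f) (f := C.val) (by
    rintro ⟨y, n, rfl⟩
    rw [map_pow]
    exact hu.pow n)
  have hψ : Function.Injective ψ := by
    refine (IsLocalization.lift_injective_iff _).2 fun x y => ?_
    constructor
    · exact fun h => congrArg C.val (IsLocalization.injective (Localization.Away f)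
        (powers_le_nonZeroDivisors_of_noZeroDivisors hf) h)
    · exact fun h => congrArg _ (Subtype.ext h)
  haveI : Algebra.FiniteType k (Localization.Away f) := inferInstance
  refine ⟨⟨ψ.range, ?_, ?_⟩, fun x hx => ⟨algebraMap C _ ⟨x, hx⟩, ?_⟩⟩
  · rw [← Algebra.map_top]
    exact Subalgebra.FG.map ψ Algebra.FiniteType.out
  · exact Algebra.Smooth.of_equiv (AlgEquiv.ofInjective ψ hψ)
  · exact IsLocalization.lift_eq _ _

variable [PerfectField k]

instance : IsDirectedOrder (Idx k K) := ⟨fun a b => by
  obtain ⟨c, hc⟩ := exists_idx_ge k K (a.1 ⊔ b.1) (a.2.1.sup b.2.1)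
  exact ⟨c, (le_sup_left : a.1 ≤ a.1 ⊔ b.1).trans hc, (le_sup_right : b.1 ≤ a.1 ⊔ b.1).trans hc⟩⟩

instance : Nonempty (Idx k K) := ⟨(exists_idx_ge k K ⊥ Subalgebra.fg_bot).choose⟩

/-- The rings of the system. -/
def ringDiag : Idx k K ⥤ CommRingCat.{u} where
  obj B := CommRingCat.of B.1
  map {B B'} h := CommRingCat.ofHom (Subalgebra.inclusion (leOfHom h : B.1 ≤ B'.1)).toRingHom

/-- The cocone of the field. -/
def ringCocone : Cocone (ringDiag k K) where
  pt := CommRingCat.of K
  ι := { app := fun B => CommRingCat.ofHom B.1.val.toRingHom }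

/-- It is a colimit. -/
def isColimit_ringCocone : IsColimit (ringCocone k K) := by
  haveI : ReflectsColimitsOfShape (Idx k K) (CategoryTheory.forget CommRingCat.{u}) :=
    reflectsColimitsOfShape_of_reflectsIsomorphisms
  refine isColimitOfReflects (CategoryTheory.forget CommRingCat.{u}) ?_
  refine Types.FilteredColimit.isColimitOf _ _ (fun x => ?_) fun i j xi xj h => ?_
  · obtain ⟨B, hB⟩ := exists_idx_ge k K (Algebra.adjoin k {(id x : K)}) ⟨{(id x : K)}, by simp⟩
    exact ⟨B, ⟨_, hB (Algebra.self_mem_adjoin_singleton k (id x : K))⟩, rfl⟩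
  · obtain ⟨c, hi, hj⟩ := exists_ge_ge i j
    exact ⟨c, homOfLE hi, homOfLE hj, Subtype.ext h⟩

/-- The schemes of the system over the field. -/
def schDiag : (Idx k K)ᵒᵖ ⥤ Over (Spec (CommRingCat.of k)) where
  obj B := Over.mk (Spec.map (CommRingCat.ofHom (algebraMap k B.unop.1)))
  map {B B'} h := Over.homMk (Spec.map ((ringDiag k K).map h.unop)) (by
    simp only [Over.mk_hom]
    rw [← Spec.map_comp]
    congr 1)
  map_id B := Over.OverMorphism.ext (by simp; rfl)
  map_comp f g := Over.OverMorphism.ext (by simp)

/-- The cone of schemes. -/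
def schCone : Cone (schDiag k K ⋙ Over.forget _) := Scheme.Spec.mapCone (ringCocone k K).op

/-- It is a limit. -/
def isLimit_schCone : IsLimit (schCone k K) := isLimitOfPreserves Scheme.Spec (isColimit_ringCocone k K).op

theorem schCone_w (B : (Idx k K)ᵒᵖ) :
    (schCone k K).π.app B ≫ ((schDiag k K).obj B).hom = Spec.map (CommRingCat.ofHom (algebraMap k K)) :=
  (Spec.map_comp _ _).symm.trans (congrArg Spec.map (CommRingCat.hom_ext (RingHom.ext fun _ => rfl)))

theorem smooth_schDiag (B : (Idx k K)ᵒᵖ) : Smooth ((schDiag k K).obj B).hom :=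
  (HasRingHomProperty.Spec_iff (P := @Smooth)).2 (RingHom.smooth_algebraMap.2 B.unop.2.2)

end Groth.Agent.SmoothLA.FieldSys
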