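import Groth.Agent.SmoothLA.FieldExt
import Groth.Agent.SmoothLA.AtPoint
import Groth.Agent.EtAcycLib.Basis
import Groth.Agent.EtLC12.GaLinear

/-!
# Local acyclicity from base change
-/

set_option autoImplicit false
set_option linter.unusedSectionVars false
set_option linter.style.haveILetI false
set_option backward.isDefEq.respectTransparency false
set_option backward.isDefEq.respectTransparency.types false
set_option maxHeartbeats 1600000

universe u

open CategoryTheory CategoryTheory.Limits AlgebraicGeometry Opposite IsLocalRing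

attribute [-instance] CategoryTheory.catToReflQuiver

noncomputable section

namespace Groth.Agent.SmoothLA

open Groth.Agent.AcycFin BcQCalc

attribute [local instance] EtFound.pull_preservesFiniteLimits

theorem specOf_closedPoint (X : Scheme.{u}) (x : X) (RX : Type u) [CommRing RX] [IsLocalRing RX]
    [Algebra (X.presheaf.stalk x) RX] [IsLocalHom (algebraMap (X.presheaf.stalk x) RX)] :
    Hens2.specOf X x RX (closedPoint RX) = x := by
  rw [Hens2.specOf, Scheme.Hom.comp_apply]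
  refine (congrArg (X.fromSpecStalk x) ?_).trans Scheme.fromSpecStalk_closedPoint
  exact IsLocalRing.comap_closedPoint (algebraMap (X.presheaf.stalk x) RX)

/-- The strict localization at the closed point of a strictly local scheme. -/
theorem isIso_specOf_closed (R : Type u) [CommRing R] [HenselianLocalRing R] [IsSepClosed (ResidueField R)]
    (y : Spec (CommRingCat.of R)) (hy : y = closedPoint R) (RS : Type u) [CommRing RS] [IsLocalRing RS]
    [Algebra ((Spec (CommRingCat.of R)).presheaf.stalk y) RS]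
    [IsLocalHom (algebraMap ((Spec (CommRingCat.of R)).presheaf.stalk y) RS)]
    [HS : _root_.Hensel.IsStrictHenselization ((Spec (CommRingCat.of R)).presheaf.stalk y) RS] :
    IsIso (Hens2.specOf (Spec (CommRingCat.of R)) y RS) := by
  let s := Hens2.specOf (Spec (CommRingCat.of R)) y RS
  haveI : WeaklyEtale s := S0754.result _ y RS
  haveI : HenselianLocalRing RS := HS.henselian
  haveI : IsSepClosed (ResidueField RS) := HS.isSepClosure.sep_closed
  obtain ⟨θ, hθ⟩ := Spec.map_surjective s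
  letI : Algebra R RS := θ.hom.toAlgebra
  haveI : Algebra.WeaklyEtale R RS := (ProEtLib.weaklyEtale_spec_iff θ).1 (hθ ▸ ‹WeaklyEtale s›)
  haveI : IsLocalHom (algebraMap R RS) := by
    have h1 : PrimeSpectrum.comap (algebraMap R RS) (closedPoint RS) = closedPoint R := by
      have h2 := congrArg (fun r : Spec (CommRingCat.of RS) ⟶ Spec (CommRingCat.of R) => r (closedPoint RS)) hθ
      exact h2.trans ((specOf_closedPoint _ y RS).trans hy)
    exact ((IsLocalRing.local_hom_TFAE (algebraMap R RS)).out 0 4).2 (congrArg PrimeSpectrum.asIdeal h1)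
  let e := RingEquiv.ofBijective (algebraMap R RS) (WEtLib.bijective_algebraMap (A := R) (B := RS))
  have h3 : s = Spec.map e.toCommRingCatIso.hom := hθ.symm
  show IsIso s
  rw [h3]
  infer_instance

/-- Bijectivity of pullback from base change, over a strictly local base. -/
theorem bijective_Hpull_of_bcQ {X S T P : Scheme.{u}} (f : X ⟶ S) (g : T ⟶ S) (h : P ⟶ X) (e : P ⟶ T)
    (c : IsPullback e h g f) [QuasiCompact g] [QuasiSeparated g] (F : EtCoh.Ab T) (q : ℕ)
    (hi : IsIso (EtBC.bcQ g f h e c.w q F)) (x : X)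
    (RS : Type u) [CommRing RS] [IsLocalRing RS] [Algebra (S.presheaf.stalk (f.base x)) RS]
    [IsLocalHom (algebraMap (S.presheaf.stalk (f.base x)) RS)]
    [_root_.Hensel.IsStrictHenselization (S.presheaf.stalk (f.base x)) RS]
    (RX : Type u) [CommRing RX] [IsLocalRing RX] [Algebra (X.presheaf.stalk x) RX]
    [IsLocalHom (algebraMap (X.presheaf.stalk x) RX)] [_root_.Hensel.IsStrictHenselization (X.presheaf.stalk x) RX]
    (ψ : RS →+* RX) [IsLocalHom ψ]
    (hψ : ψ.comp (algebraMap (S.presheaf.stalk (f.base x)) RS) =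
      (algebraMap (X.presheaf.stalk x) RX).comp (f.stalkMap x).hom)
    [IsIso (Hens2.specOf S (f.base x) RS)]
    {PX : Scheme.{u}} (aX : PX ⟶ T) (bX : PX ⟶ Spec (CommRingCat.of RX))
    (cX : IsPullback aX bX g (Hens2.specOf X x RX ≫ f)) :
    Function.Bijective (EtCore.Hpull aX F q) := by
  let hS := Hens2.specOf S (f.base x) RS
  have hm : aX ≫ g ≫ inv hS = bX ≫ Spec.map (CommRingCat.ofHom ψ) := by
    rw [← cancel_mono hS, Category.assoc, Category.assoc, IsIso.inv_hom_id, Category.comp_id, Category.assoc,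
      specMap_psi f x RS RX ψ hψ]
    exact cX.w
  have cS : IsPullback (𝟙 T) (g ≫ inv hS) g hS := IsPullback.of_horiz_isIso ⟨by simp⟩
  have hb := (isIso_bcQ_iff_strict f g h e c F q).2 hi x RS RX ψ hψ T PX (𝟙 T) (g ≫ inv hS) cS aX bX cX aX
    (Category.comp_id _) hm
  have h2 := (bijective_HpullVia_iff aX (𝟙 T) aX (Category.comp_id _) aX (𝟙 T) (𝟙 T) (𝟙 PX) (Category.comp_id _)
    (by simp) F q).1 hb
  exact (bijective_Hpull_iso aX ((EtDescSplit.pullId T).app F) q).1 h2

theorem hasAffineNhd {Y : Scheme.{u}} (W : Y.Etale) (x : W.left) :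
    ∃ (W' : Y.Etale) (h : W' ⟶ W) (w : W'.left), IsAffine W'.left ∧ h.left.base w = x := by
  obtain ⟨W₁, f₁, w₁, hW₁, hw₁⟩ := EtLC12.RpushTorsion.exists_affine_nhd x
  exact ⟨W₁, f₁, w₁, hW₁, hw₁⟩

/-- Universal base change isomorphisms give local acyclicity. -/
theorem isLocAcyclicN_of_bc {X Y : Scheme.{u}} (g : X ⟶ Y) (L : Set ℕ) (n : ℕ)
    (H : ∀ {X₁ Y₁ : Scheme.{u}} (g₁ : X₁ ⟶ Y₁) (p : X₁ ⟶ X) (t : Y₁ ⟶ Y), IsPullback p g₁ g t →
      ∀ {T P : Scheme.{u}} (f : T ⟶ Y₁) [QuasiCompact f] [QuasiSeparated f] (f' : P ⟶ X₁) (e : P ⟶ T)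
        (c : IsPullback e f' f g₁) (F : EtCoh.Ab T), EtAcyc.IsLTorsion L F → ∀ q : ℕ,
        IsIso (EtBC.bcQ f g₁ f' e c.w q F)) :
    EtAcyc.IsLocAcyclicN g L n := by
  intro x RS RX _ _ _ _ _ _ HY _ _ HX _ _ hc
  haveI : HenselianLocalRing RS := HY.henselian
  haveI : IsSepClosed (ResidueField RS) := HY.isSepClosure.sep_closed
  let q := Hens2.specOf Y (g.base x) RS
  haveI : WeaklyEtale q := S0754.result _ (g.base x) RS
  let g₁ := pullback.snd g q
  let p := pullback.fst g q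
  haveI : WeaklyEtale p := MorphismProperty.pullback_fst (P := @WeaklyEtale) g q ‹_›
  let sφ := Spec.map (CommRingCat.ofHom (algebraMap RS RX))
  let m : Spec (CommRingCat.of RX) ⟶ pullback g q :=
    pullback.lift (Hens2.specOf X x RX) sφ (specMap_psi g x RS RX _ hc).symm
  let x₁ := m (closedPoint RX)
  have ex : p x₁ = x := by
    show p (m (closedPoint RX)) = x
    rw [← Scheme.Hom.comp_apply, show m ≫ p = Hens2.specOf X x RX from pullback.lift_fst _ _ _]
    exact specOf_closedPoint X x RX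
  have ey : g₁ x₁ = closedPoint RS := by
    show g₁ (m (closedPoint RX)) = _
    rw [← Scheme.Hom.comp_apply, show m ≫ g₁ = sφ from pullback.lift_snd _ _ _]
    exact IsLocalRing.comap_closedPoint (algebraMap RS RX)
  refine onStrict_at_point g g₁ p q (IsPullback.of_hasPullback g q).w (P := fun _ _ h => EtAcyc.IsAcyclicN h L n)
    x₁ ?_ x ex RS RX hc
  intro R₁ R₂ _ _ _ _ _ _ _ _ _ _ _ _ hc'
  let φ₂ := Spec.map (CommRingCat.ofHom (algebraMap R₁ R₂))
  let hS₂ := Hens2.specOf (Spec (CommRingCat.of RS)) (g₁ x₁) R₁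
  let hX₂ := Hens2.specOf (pullback g q) x₁ R₂
  haveI : IsIso hS₂ := isIso_specOf_closed RS (g₁ x₁) ey R₁
  have hφ : φ₂ ≫ hS₂ = hX₂ ≫ g₁ := specMap_psi g₁ x₁ R₁ R₂ _ hc'
  refine EtAcycLib.UnitRpush.isAcyclicN_of_basis φ₂ L n (fun W _ => IsAffine W) hasAffineNhd fun W hW F hF _ => ?_
  haveI : IsAffine W.left := hW
  let f := W.hom ≫ hS₂
  haveI : IsAffineHom f := @isAffineHom_of_isAffine _ _ f hW inferInstance
  have c := IsPullback.of_hasPullback f g₁
  have cX : IsPullback (EtAcyc.prj φ₂ W) (pullback.snd W.hom φ₂) f (hX₂ ≫ g₁) :=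
    (IsPullback.of_hasPullback W.hom φ₂).of_iso (Iso.refl _) (Iso.refl _) (Iso.refl _) (asIso hS₂)
      (by simp) (by simp) (by simp [f]) (by simp [hφ])
  have hb : ∀ k, Function.Bijective (EtCore.Hpull (EtAcyc.prj φ₂ W) F k) := fun k =>
    bijective_Hpull_of_bcQ g₁ f (pullback.snd f g₁) (pullback.fst f g₁) c F k
      (H g₁ p q (IsPullback.of_hasPullback g q) f _ _ c F hF k) x₁ R₁ R₂ (algebraMap R₁ R₂) hc' _ _ cX
  exact ⟨fun k _ => hb k, (hb (n + 1)).1⟩

section Field

variable {k K : Type u} [Field k] [Field K]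

theorem mem_invertible_of_ne_ringChar {ℓ : ℕ} (hℓ : ℓ ∈ {ℓ : ℕ | ℓ.Prime ∧ ℓ ≠ ringChar k}) :
    ℓ ∈ EtAcyc.primesInvertibleOn (Spec (CommRingCat.of k)) := by
  refine mem_primesInvertibleOn_spec hℓ.1 (Ne.isUnit fun h => ?_)
  rcases hℓ.1.eq_one_or_self_of_dvd _ ((ringChar.spec k ℓ).1 h) with h1 | h1
  · exact one_ne_zero (α := k) (by simpa [h1] using ringChar.Nat.cast_ringChar (R := k))
  · exact hℓ.2 h1.symm

theorem isLTorsion_invertible {T : Scheme.{u}} {F : EtCoh.Ab T}
    (hF : EtAcyc.IsLTorsion {ℓ : ℕ | ℓ.Prime ∧ ℓ ≠ ringChar k} F) :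
    EtAcyc.IsLTorsion (EtAcyc.primesInvertibleOn (Spec (CommRingCat.of k))) F := fun U s x => by
  obtain ⟨V, a, m, hv, hm, h0⟩ := hF U s x
  exact ⟨V, a, m, hv, ⟨hm.1, fun l hl hd => mem_invertible_of_ne_ringChar (hm.2 l hl hd)⟩, h0⟩

/-- Field extensions are universally locally acyclic. -/
theorem isULocAcyclicN_field (φ : k →+* K) (n : ℕ) :
    EtAcyc.IsULocAcyclicN (Spec.map (CommRingCat.ofHom φ)) {ℓ | ℓ.Prime ∧ ℓ ≠ ringChar k} n := by
  intro X₁ Y₁ g₁ b' b sq
  refine isLocAcyclicN_of_bc g₁ _ n fun {X₂ Y₂} g₂ p t c₂ {T P} f _ _ f' e c F hF q => ?_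
  exact isIso_bcQ_field φ (t ≫ b) g₂ (p ≫ b') (c₂.paste_horiz sq).flip f f' e c F (isLTorsion_invertible hF) q

/-- Pullback along an extension of separably closed fields is universally acyclic. -/
theorem isUAcyclicN_sepClosed [IsSepClosed k] [IsSepClosed K] (φ : k →+* K) (n : ℕ) :
    EtAcyc.IsUAcyclicN (Spec.map (CommRingCat.ofHom φ)) {ℓ | ℓ.Prime ∧ ℓ ≠ ringChar k} n := by
  intro X₁ Y₁ g₁ b' b sq
  let sφ := Spec.map (CommRingCat.ofHom φ)
  haveI : IsSepClosed (ResidueField k) := EtLC12.GaLinear.isSepClosed_of_equiv (RingEquiv.ofBijective (residue k) ⟨RingHom.injective _, residue_surjective⟩)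
  haveI : IsSepClosed (ResidueField K) := EtLC12.GaLinear.isSepClosed_of_equiv (RingEquiv.ofBijective (residue K) ⟨RingHom.injective _, residue_surjective⟩)
  let x : Spec (CommRingCat.of K) := closedPoint K
  obtain ⟨RS, _, _, _, _, hRS⟩ := exists_strictHens ((Spec (CommRingCat.of k)).presheaf.stalk (sφ.base x))
  obtain ⟨RX, _, _, _, _, hRX⟩ := exists_strictHens ((Spec (CommRingCat.of K)).presheaf.stalk x)
  obtain ⟨ψ, hψl, hψ⟩ := exists_strictMap (R := RS) (R' := RX) (sφ.stalkMap x).hom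
  haveI := hψl
  haveI := isIso_specOf_closed k (sφ.base x) (Subsingleton.elim (α := PrimeSpectrum k) _ _) RS
  haveI := isIso_specOf_closed K x rfl RX
  let hX := Hens2.specOf (Spec (CommRingCat.of K)) x RX
  refine EtAcycLib.UnitRpush.isAcyclicN_of_basis g₁ _ n (fun W _ => IsAffine W) hasAffineNhd fun W hW F hF _ => ?_
  haveI : IsAffine W.left := hW
  let f := W.hom ≫ b
  haveI : IsAffineHom f := @isAffineHom_of_isAffine _ _ f hW inferInstance
  have c : IsPullback (EtAcyc.prj g₁ W) (pullback.snd W.hom g₁ ≫ b') f sφ :=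
    ((IsPullback.of_hasPullback W.hom g₁).flip.paste_horiz sq).flip
  have cX : IsPullback (EtAcyc.prj g₁ W) ((pullback.snd W.hom g₁ ≫ b') ≫ inv hX) f (hX ≫ sφ) :=
    c.of_iso (Iso.refl _) (Iso.refl _) (asIso hX).symm (Iso.refl _) (by simp) (by simp) (by simp) (by simp)
  have hid : IsPullback sφ (𝟙 _) (𝟙 _) sφ := IsPullback.of_vert_isIso ⟨by simp⟩
  have hb : ∀ j, Function.Bijective (EtCore.Hpull (EtAcyc.prj g₁ W) F j) := fun j =>
    bijective_Hpull_of_bcQ sφ f _ _ c F j
      (isIso_bcQ_field φ (𝟙 _) sφ (𝟙 _) hid f _ _ c F (isLTorsion_invertible hF) j) x RS RX ψ hψ _ _ cX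
  exact ⟨fun j _ => hb j, (hb (n + 1)).1⟩

/-- Cohomology does not change under extensions of separably closed fields. -/
theorem bijective_Hpull_sepClosed_any [IsSepClosed k] [IsSepClosed K] (φ : k →+* K) {X : Scheme.{u}}
    (a : X ⟶ Spec (CommRingCat.of k)) (F : EtCoh.Ab X)
    (hF : EtAcyc.IsLTorsion {ℓ : ℕ | ℓ.Prime ∧ ℓ ≠ ringChar k} F) (q : ℕ)
    [PreservesFiniteLimits (EtCoh.pull (pullback.fst a (Spec.map (CommRingCat.ofHom φ))))] :
    Function.Bijective (EtCore.Hpull (pullback.fst a (Spec.map (CommRingCat.ofHom φ))) F q) :=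
  (compN_of_isAcyclicN (isUAcyclicN_sepClosed φ q _ _ a (IsPullback.of_hasPullback a _).flip) F hF).1 q le_rfl

end Field

end Groth.Agent.SmoothLA
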