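import Groth.Agent.SmoothLA.Main
import Groth.Agent.SmoothLA.CurveHigh
import Groth.Agent.SmoothLA.Transport
import Groth.Agent.PBCThm.SepClosed
import Groth.Agent.Hensel.TensorHenzFinite

/-!
# Geometric fibres of strict localizations of the affine line
-/

set_option autoImplicit false
set_option linter.unusedSectionVars false
set_option linter.style.haveILetI false
set_option backward.isDefEq.respectTransparency false
set_option backward.isDefEq.respectTransparency.types false
set_option maxHeartbeats 1600000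

universe u

open CategoryTheory CategoryTheory.Limits AlgebraicGeometry Opposite Abelian TensorProduct Polynomial IsLocalRing

noncomputable section

namespace Groth.Agent.SmoothLA

open Groth.Agent.AcycFin Groth.Agent.RpushStalk H0PBC H0FBC
open Groth.Agent.Hensel (Henz Nbhd)

attribute [local instance] EtFound.pull_preservesFiniteLimits

/-- Strictly henselian weakly étale algebras are universal neighbourhoods. -/
theorem exists_model_weaklyEtale (B W : Type u) [CommRing B] [CommRing W] [Algebra B W] [Algebra.WeaklyEtale B W]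
    [HenselianLocalRing W] [IsSepClosed (ResidueField W)] :
    Nonempty (Model (Spec (CommRingCat.of B)) W (ym (𝟙 _) W)) := by
  let K := AlgebraicClosure (ResidueField W)
  let π : W →+* K := (algebraMap (ResidueField W) K).comp (residue W)
  let F := PtField π
  letI : Algebra B F := (π.comp (algebraMap B W)).toAlgebra
  haveI : IsScalarTower B W F := .of_algebraMap_eq' rfl
  obtain ⟨ψ, hψ₁, hψ₂⟩ := H0FBC.exists_henzMap B W F
  haveI hWF : IsLocalHom (algebraMap W F) := ⟨fun w hw => by
    by_contra hn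
    refine hw.ne_zero ?_
    show algebraMap (ResidueField W) K (residue W w) = 0
    rw [(residue_eq_zero_iff w).2 hn, map_zero]⟩
  haveI : Algebra.WeaklyEtale W (Henz W F) := S0736.result _ _ (Hensel.isIndEtale_henz W F)
  haveI : IsLocalHom (algebraMap W (Henz W F)) := ⟨fun w hw => by
    refine (isUnit_map_iff (algebraMap W F) w).1 ?_
    rw [← (Henz.proj W F).commutes]
    exact hw.map _⟩
  have hbW := WEtLib.bijective_algebraMap (A := W) (B := Henz W F)
  let H' := Henz W F
  haveI hl : IsLocalHom ψ := ⟨fun z hz => by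
    rw [Hensel.Henz.isUnit_iff, ← hψ₂]
    exact Hensel.Henz.isUnit_iff.1 hz⟩
  letI : Algebra B H' := ((algebraMap W H').comp (algebraMap B W)).toAlgebra
  haveI : IsScalarTower B W H' := .of_algebraMap_eq' rfl
  haveI : Algebra.WeaklyEtale B H' := Algebra.WeaklyEtale.trans B W H'
  letI : Algebra (Henz B F) H' := ψ.toAlgebra
  haveI : IsLocalHom (algebraMap (Henz B F) H') := hl
  haveI : IsScalarTower B (Henz B F) H' := .of_algebraMap_eq' hψ₁.symm
  haveI : Algebra.WeaklyEtale B (Henz B F) := S0736.result _ _ (Hensel.isIndEtale_henz B F)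
  haveI : Algebra.WeaklyEtale (Henz B F) H' := WEtLib.cancel (A := B) (B := Henz B F) H'
  haveI : IsSepClosed (ResidueField (Henz B F)) := EtFound.isSepClosed_residue_henz' B F
  let e₁ : Henz B F ≃ₐ[B] H' := AlgEquiv.ofBijective (IsScalarTower.toAlgHom B (Henz B F) H')
    (WEtLib.bijective_algebraMap (A := Henz B F) (B := H'))
  let e₂ : W ≃ₐ[B] H' := AlgEquiv.ofBijective (IsScalarTower.toAlgHom B W H') hbW
  exact ⟨{ B := B, Ω := F, ι := 𝟙 _, e := e₁.trans e₂.symm, fac := rfl }⟩

/-- The closed point computes all strict localizations of a map of strictly henselian rings. -/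
theorem of_onStrict_closedPoint {R W : Type u} [CommRing R] [CommRing W] [HenselianLocalRing R] [HenselianLocalRing W]
    [IsSepClosed (ResidueField R)] [IsSepClosed (ResidueField W)] [Algebra R W] [IsLocalHom (algebraMap R W)]
    {P : ∀ ⦃A B : Scheme.{u}⦄, (A ⟶ B) → Prop}
    (H : EtAcyc.OnStrictLocalizations (Spec.map (CommRingCat.ofHom (algebraMap R W))) P) :
    P (Spec.map (CommRingCat.ofHom (algebraMap R W))) := by
  have key : ∀ (S : Type u) [CommRing S] [HenselianLocalRing S] [IsSepClosed (ResidueField S)]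
      (y : Spec (CommRingCat.of S)), y.asIdeal = maximalIdeal S →
      ∃ (θ : (Spec (CommRingCat.of S)).presheaf.stalk y →+* S) (hl : IsLocalHom θ),
        θ.comp (StructureSheaf.stalkAlgebra _ y).algebraMap = RingHom.id S ∧
        @_root_.Hensel.IsStrictHenselization ((Spec (CommRingCat.of S)).presheaf.stalk y) S _ _ _ _ θ.toAlgebra hl := by
    intro S _ _ _ y hy
    letI : Algebra S ((Spec (CommRingCat.of S)).presheaf.stalk y) := StructureSheaf.stalkAlgebra _ y
    haveI : IsLocalization.AtPrime ((Spec (CommRingCat.of S)).presheaf.stalk y) y.asIdeal :=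
      StructureSheaf.IsLocalization.to_stalk _ _
    let e : S ≃ₐ[S] (Spec (CommRingCat.of S)).presheaf.stalk y :=
      IsLocalization.atUnits S y.asIdeal.primeCompl fun s hs => by
        by_contra hu
        exact hs (hy.ge ((mem_maximalIdeal _).2 hu))
    let θ : (Spec (CommRingCat.of S)).presheaf.stalk y →+* S := e.symm.toRingEquiv.toRingHom
    have hl : IsLocalHom θ := ⟨fun a ha => (isUnit_map_iff e.symm.toRingEquiv a).1 ha⟩
    refine ⟨θ, hl, RingHom.ext fun s => e.symm.commutes s, ?_⟩
    letI : Algebra ((Spec (CommRingCat.of S)).presheaf.stalk y) S := θ.toAlgebra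
    haveI : IsLocalHom (algebraMap ((Spec (CommRingCat.of S)).presheaf.stalk y) S) := hl
    haveI : Algebra.Etale ((Spec (CommRingCat.of S)).presheaf.stalk y) S :=
      Algebra.Etale.of_equiv (AlgEquiv.ofBijective (Algebra.ofId _ S) e.symm.bijective)
    haveI := Hensel.isStrictHenselization_self S inferInstance inferInstance
    exact isStrictHenselization_of_weaklyEtale (A := ↑((Spec (CommRingCat.of S)).presheaf.stalk y)) (A' := S) (R := S)
  let f := Spec.map (CommRingCat.ofHom (algebraMap R W))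
  let x := closedPoint W
  obtain ⟨θW, hlW, hW, hSW⟩ := key W x rfl
  obtain ⟨θR, hlR, hR, hSR⟩ := key R (f x) (maximalIdeal_comap (algebraMap R W))
  letI : Algebra ((Spec (CommRingCat.of W)).presheaf.stalk x) W := θW.toAlgebra
  letI : Algebra ((Spec (CommRingCat.of R)).presheaf.stalk (f x)) R := θR.toAlgebra
  haveI : IsLocalHom (algebraMap ((Spec (CommRingCat.of W)).presheaf.stalk x) W) := hlW
  haveI : IsLocalHom (algebraMap ((Spec (CommRingCat.of R)).presheaf.stalk (f x)) R) := hlR
  refine H x R W ?_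
  letI : Algebra R ((Spec (CommRingCat.of R)).presheaf.stalk (f x)) := StructureSheaf.stalkAlgebra _ (f x)
  haveI : IsLocalization.AtPrime ((Spec (CommRingCat.of R)).presheaf.stalk (f x)) (f x).asIdeal :=
    StructureSheaf.IsLocalization.to_stalk _ _
  refine IsLocalization.ringHom_ext (f x).asIdeal.primeCompl (RingHom.ext fun r => ?_)
  show algebraMap R W (θR (algebraMap R _ r)) = θW ((f.stalkMap x).hom (algebraMap R _ r))
  have h1 : θR (algebraMap R _ r) = r := RingHom.congr_fun hR r
  have h2 : θW ((StructureSheaf.stalkAlgebra _ x).algebraMap (algebraMap R W r)) = algebraMap R W r :=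
    RingHom.congr_fun hW _
  rw [h1]
  refine h2.symm.trans (congrArg θW ?_)
  exact (ConcreteCategory.congr_hom (AlgebraicGeometry.stalkMap_toStalk (CommRingCat.ofHom (algebraMap R W)) x) r).symm

section Line

variable (R W : Type u) [CommRing R] [CommRing W] [HenselianLocalRing R] [HenselianLocalRing W]
  [IsSepClosed (ResidueField R)] [IsSepClosed (ResidueField W)] [Algebra R W] [IsLocalHom (algebraMap R W)]
  [Algebra R[X] W] [IsScalarTower R R[X] W] [Algebra.WeaklyEtale R[X] W]

theorem isZeroAcyclic_line : EtAcyc.IsZeroAcyclic (Spec.map (CommRingCat.ofHom (algebraMap R W))) := by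
  refine of_onStrict_closedPoint (P := fun _ _ m => EtAcyc.IsZeroAcyclic m) ?_
  haveI : WeaklyEtale (Spec.map (CommRingCat.ofHom (algebraMap R[X] W))) := ProEtLib.weaklyEtale_spec R[X] W
  haveI : Smooth (Spec.map (CommRingCat.ofHom (algebraMap R R[X]))) := by
    haveI : Algebra.Smooth R R[X] := ⟨inferInstance, inferInstance⟩
    exact (HasRingHomProperty.Spec_iff (P := @Smooth)).2 (RingHom.smooth_algebraMap.2 inferInstance)
  refine onStrict_of_weaklyEtale (Spec.map (CommRingCat.ofHom (algebraMap R R[X]))) _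
    (Spec.map (CommRingCat.ofHom (algebraMap R[X] W))) (𝟙 _) ?_ (isLocZeroAcyclic_of_smooth _)
  rw [Category.comp_id, ← Spec.map_comp, ← CommRingCat.ofHom_comp, ← IsScalarTower.algebraMap_eq]

theorem connectedSpace_fibre_line {P : Scheme.{u}} (Ω : Type u) [Field Ω]
    (η : Spec (CommRingCat.of Ω) ⟶ Spec (CommRingCat.of R)) {a : P ⟶ Spec (CommRingCat.of W)}
    {b : P ⟶ Spec (CommRingCat.of Ω)}
    (hP : IsPullback a b (Spec.map (CommRingCat.ofHom (algebraMap R W))) η) : ConnectedSpace P :=
  (H0FBC.geometricallyConnected_of_isZeroAcyclic (isZeroAcyclic_line R W)).geometrically_connectedSpace η _ _ hP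

/-- Vanishing over an algebraically closed field. -/
theorem subsingleton_H_fibre_line (Ω : Type u) [Field Ω] [IsAlgClosed Ω] [Algebra R Ω] {ℓ : ℕ} (hℓ : ℓ.Prime)
    (hℓR : IsUnit (ℓ : R)) (q : ℕ) (hq : 1 ≤ q) {P : Scheme.{u}} {a : P ⟶ Spec (CommRingCat.of W)}
    {b : P ⟶ Spec (CommRingCat.of Ω)}
    (hP : IsPullback a b (Spec.map (CommRingCat.ofHom (algebraMap R W)))
      (Spec.map (CommRingCat.ofHom (algebraMap R Ω)))) :
    Subsingleton (EtCoh.H P (EtCoh.const P (ZMod ℓ)) q) := by
  obtain ⟨D⟩ : Nonempty (Model (Spec (CommRingCat.of R[X])) W (ym (𝟙 _) W)) := exists_model_weaklyEtale R[X] W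
  let f₀ := pAm (R := R) R[X] Ω
  let sX := Spec.map (CommRingCat.ofHom (algebraMap R R[X]))
  let σ := Spec.map (CommRingCat.ofHom (algebraMap R Ω))
  have hW : ym D.ι W ≫ sX = Spec.map (CommRingCat.ofHom (algebraMap R W)) := by
    rw [D.fac, H0PBC.ym, Category.comp_id, ← Spec.map_comp, ← CommRingCat.ofHom_comp, ← IsScalarTower.algebraMap_eq]
  have cW : IsPullback (pullback.fst (ym D.ι W) f₀) (pullback.snd (ym D.ι W) f₀ ≫ pBm (R := R) R[X] Ω)
      (Spec.map (CommRingCat.ofHom (algebraMap R W))) σ := by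
    have c := (IsPullback.of_hasPullback (ym D.ι W) f₀).paste_vert (isPullback_pAm (R := R) R[X] Ω)
    rwa [hW] at c
  suffices h : Subsingleton (EtCoh.H (PB f₀ D.ι W) (EtCoh.const _ (ZMod ℓ)) q) by
    exact PBCThm.subsingleton_congr (EtCore.pullConst (hP.isoIsPullback _ _ cW).hom (ZMod ℓ)) q
      (ClosedAffAcyc.subsingleton_of_isIso (hP.isoIsPullback _ _ cW).hom _ q h)
  refine subsingleton_of_forall_eq 0 fun y => ?_
  obtain ⟨N, z, hz⟩ := exists_stage_class D f₀ (ZMod ℓ) q y
  -- the stage
  let E := N.B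
  let sE : R[X] →+* E := CommRingCat.Hom.hom (Spec.preimage (ym D.ι E))
  have hsE : Spec.map (CommRingCat.ofHom sE) = ym D.ι E := Spec.map_preimage _
  letI : Algebra R[X] E := sE.toAlgebra
  letI : Algebra R E := (sE.comp (algebraMap R R[X])).toAlgebra
  haveI : IsScalarTower R R[X] E := .of_algebraMap_eq' rfl
  haveI : AlgebraicGeometry.Etale (Spec.map (CommRingCat.ofHom sE)) := by
    rw [hsE]
    exact (stageEt D.ι E).prop
  haveI : Algebra.Etale R[X] E :=
    RingHom.etale_algebraMap.1 ((HasRingHomProperty.Spec_iff (P := @AlgebraicGeometry.Etale)).1 ‹_›)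
  have eE : ym D.ι E ≫ sX = Spec.map (CommRingCat.ofHom (algebraMap R E)) := by
    rw [← hsE, ← Spec.map_comp]
    rfl
  let u : Spec (CommRingCat.of (E ⊗[R] Ω)) ⟶ Spec (CommRingCat.of (R[X] ⊗[R] Ω)) :=
    (isPullback_pAm (R := R) R[X] Ω).lift (pAm (R := R) E Ω ≫ ym D.ι E) (pBm (R := R) E Ω)
      (by rw [Category.assoc, eE]; exact (isPullback_pAm (R := R) E Ω).w)
  have cE : IsPullback (pAm (R := R) E Ω) u (ym D.ι E) f₀ := by
    refine IsPullback.of_bot (v₂₁ := pBm (R := R) R[X] Ω) (v₂₂ := sX) (h₃₁ := σ) ?_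
      (IsPullback.lift_fst _ _ _ _).symm (isPullback_pAm (R := R) R[X] Ω)
    rw [eE, show u ≫ pBm (R := R) R[X] Ω = pBm (R := R) E Ω from IsPullback.lift_snd _ _ _ _]
    exact isPullback_pAm (R := R) E Ω
  let e := cE.isoPullback
  let ξ := Kc e.hom (ZMod ℓ) q z
  let φ : PB f₀ D.ι W ⟶ Spec (CommRingCat.of (E ⊗[R] Ω)) := pmap f₀ D.ι (D.gR N) ≫ e.inv
  have hφ : φ ≫ e.hom = pmap f₀ D.ι (D.gR N) := by rw [Category.assoc, Iso.inv_hom_id, Category.comp_id]
  have hy : Kc φ (ZMod ℓ) q ξ = y := by rw [Kc_comp φ e.hom _ hφ, hz]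
  rw [← hy]
  have hker : RingHom.ker (algebraMap R Ω) ≤ maximalIdeal R := le_maximalIdeal (RingHom.ker_isPrime _).ne_top
  have hℓΩ : (ℓ : Ω) ≠ 0 := fun h => (hℓR.map (algebraMap R Ω)).ne_zero (by rw [map_natCast, h])
  rcases eq_or_lt_of_le hq with rfl | hq2
  · -- degree one
    let h := Spec.map (CommRingCat.ofHom (D.gR N).toRingHom)
    have hh : h ≫ ym D.ι E = ym D.ι W := spec_map_ym D.ι (D.gR N)
    have hQ : (h (closedPoint W)).asIdeal.comap (algebraMap R E) = maximalIdeal R := by
      have e1 : h ≫ Spec.map (CommRingCat.ofHom (algebraMap R E)) = Spec.map (CommRingCat.ofHom (algebraMap R W)) := by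
        rw [← eE, ← Category.assoc, hh, hW]
      have e2 := congrArg (fun m : Spec (CommRingCat.of W) ⟶ Spec (CommRingCat.of R) => (m (closedPoint W)).asIdeal) e1
      exact e2.trans (maximalIdeal_comap (algebraMap R W))
    have h0 := Kc_zero_of_killed h (pAm (R := R) E Ω) ξ (killed_main hker hℓ hℓR hQ)
    let m : PB f₀ D.ι W ⟶ pullback h (pAm (R := R) E Ω) :=
      pullback.lift (pullback.fst (ym D.ι W) f₀) φ (by
        rw [Category.assoc, show e.inv ≫ pAm (R := R) E Ω = pullback.fst (ym D.ι E) f₀ from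
          IsPullback.isoPullback_inv_fst _]
        exact (pmap_fst f₀ D.ι (D.gR N)).symm)
    exact Kc_eq_zero_of_fac m (pullback.snd h (pAm (R := R) E Ω)) φ (pullback.lift_snd _ _ _) 1 ξ h0
  · -- higher degrees
    letI : Algebra (Polynomial Ω) (E ⊗[R] Ω) := (lineA (R := R) E Ω).toAlgebra
    letI : Algebra Ω (E ⊗[R] Ω) := ((lineA (R := R) E Ω).comp C).toAlgebra
    haveI : IsScalarTower Ω (Polynomial Ω) (E ⊗[R] Ω) := .of_algebraMap_eq' rfl
    haveI : Algebra.Etale (Polynomial Ω) (E ⊗[R] Ω) := RingHom.etale_algebraMap.1 (etale_lineA E Ω)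
    haveI : ConnectedSpace ↥(PB f₀ D.ι W) := connectedSpace_fibre_line R W Ω σ cW
    exact Kc_eq_zero_of_connected Ω (E ⊗[R] Ω) hℓΩ q hq2 φ ξ

/-- Fibres of strict localizations of the line at geometric points are acyclic. -/
theorem isAcyclicScheme_fibre_line (L : Set ℕ) (hL : ∀ ℓ ∈ L, ℓ.Prime → IsUnit (ℓ : R)) (n : ℕ) (Ω : Type u)
    [Field Ω] [IsSepClosed Ω] (η : Spec (CommRingCat.of Ω) ⟶ Spec (CommRingCat.of R)) :
    EtAcyc.IsAcyclicSchemeN L n (pullback (Spec.map (CommRingCat.ofHom (algebraMap R W))) η) := by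
  let f := Spec.map (CommRingCat.ofHom (algebraMap R W))
  haveI hc : ConnectedSpace ↥(pullback f η) :=
    connectedSpace_fibre_line R W Ω η (IsPullback.of_hasPullback f η)
  refine ⟨inferInstance, hc, fun ℓ hℓ hℓL q hq _ => ?_⟩
  let L' := AlgebraicClosure Ω
  let j := Spec.map (CommRingCat.ofHom (algebraMap Ω L'))
  obtain ⟨σ, hσ⟩ := Spec.map_surjective (j ≫ η)
  letI : Algebra R L' := σ.hom.toAlgebra
  have c := IsPullback.of_hasPullback (pullback.snd f η) j
  have c' : IsPullback (pullback.fst (pullback.snd f η) j ≫ pullback.fst f η) (pullback.snd (pullback.snd f η) j) f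
      (Spec.map (CommRingCat.ofHom (algebraMap R L'))) := by
    rw [show Spec.map (CommRingCat.ofHom (algebraMap R L')) = j ≫ η from hσ]
    exact (c.flip.paste_vert (IsPullback.of_hasPullback f η).flip).flip
  haveI h1 := subsingleton_H_fibre_line R W L' hℓ (hL ℓ hℓL hℓ) q hq c'
  haveI := EtFound.pull_preservesFiniteLimits (pullback.fst (pullback.snd f η) j)
  have hb := PBCThm.bijective_Hpull_algClosure c (EtCoh.const (pullback f η) (ZMod ℓ)) q
  exact @Function.Injective.subsingleton _ _ _ hb.1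
    (PBCThm.subsingleton_congr (EtCore.pullConst (pullback.fst (pullback.snd f η) j) (ZMod ℓ)).symm q h1)

/-- Geometric fibres of strict localizations of the line are acyclic. -/
theorem geomFibres_line (L : Set ℕ) (hL : ∀ ℓ ∈ L, ℓ.Prime → IsUnit (ℓ : R)) (n : ℕ) :
    EtAcyc.GeomFibresAcyclicN L n (Spec.map (CommRingCat.ofHom (algebraMap R W))) :=
  fun y Ω _ _ _ _ => isAcyclicScheme_fibre_line R W L hL n Ω (EtAcyc.geomPt (Spec (CommRingCat.of R)) y Ω)

end Line

end Groth.Agent.SmoothLA
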