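import Groth.Agent.SmoothLA.Stages
import Groth.Agent.Hensel.StrictSchemes
import Groth.Agent.EtFound.ConstRpush
import Groth.Agent.ProEtLib.ClosedImm

/-!
# The universal étale neighbourhood of a geometric point of an affine scheme
-/

set_option autoImplicit false
set_option linter.unusedSectionVars false
set_option linter.style.haveILetI false
set_option backward.isDefEq.respectTransparency false
set_option backward.isDefEq.respectTransparency.types false

universe u

open CategoryTheory CategoryTheory.Limits AlgebraicGeometry Opposite Abelian IsLocalRing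

noncomputable section

namespace Groth.Agent.SmoothLA

open Groth.Agent.AcycFin Groth.Agent.RpushStalk H0PBC H0FBC
open Groth.Agent.Hensel (Henz Nbhd NbhdCat)

attribute [local instance] EtFound.pull_preservesFiniteLimits

variable (A K : Type u) [CommRing A] [Field K] [Algebra A K]

/-- `Spec` of the universal neighbourhood over `Spec A`. -/
abbrev henzHom : Spec (CommRingCat.of (Henz A K)) ⟶ Spec (CommRingCat.of A) :=
  ym (𝟙 (Spec (CommRingCat.of A))) (Henz A K)

/-- The tautological model. -/
def henzModel : Model (Spec (CommRingCat.of A)) (Henz A K) (henzHom A K) where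
  B := A
  Ω := K
  ι := 𝟙 _
  e := AlgEquiv.refl
  fac := rfl

theorem weaklyEtale_henzHom : WeaklyEtale (henzHom A K) := by
  haveI : Algebra.WeaklyEtale A (Henz A K) := S0736.result _ _ (Groth.Agent.Hensel.isIndEtale_henz A K)
  haveI : WeaklyEtale (Spec.map (CommRingCat.ofHom (algebraMap A (Henz A K)))) :=
    ProEtLib.weaklyEtale_spec A (Henz A K)
  exact MorphismProperty.comp_mem _ _ _ ‹_› inferInstance

theorem henzHom_closedPoint : (henzHom A K (closedPoint (Henz A K))).asIdeal = RingHom.ker (algebraMap A K) := by
  show (Spec.map (CommRingCat.ofHom (algebraMap A (Henz A K))) (closedPoint (Henz A K))).asIdeal = _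
  show Ideal.comap (algebraMap A (Henz A K)) (maximalIdeal (Henz A K)) = _
  rw [AlgSpDec.EtHenz.maximalIdeal_eq]
  ext a
  simp only [Ideal.mem_comap, RingHom.mem_ker, AlgHom.commutes]

variable {X T : Scheme.{u}} {M : Type} [AddCommGroup M] {q : ℕ}

/-- A class killed at the image of the closed point vanishes on a strictly henselian scheme over `X`. -/
theorem Kc_zero_of_killed {W : Type u} [CommRing W] [HenselianLocalRing W] [IsSepClosed (ResidueField W)]
    (h : Spec (CommRingCat.of W) ⟶ X) (g : T ⟶ X) (ξ : EtCoh.H T (EtCoh.const T M) q)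
    (hk : Killed g ξ (h (closedPoint W))) : Kc (pullback.snd h g) M q ξ = 0 := by
  obtain ⟨V, ⟨v, hv⟩, hV⟩ := hk
  haveI : Etale V.hom := V.prop
  obtain ⟨z, -, hz⟩ := Scheme.Pullback.exists_preimage_pullback (f := V.hom) (g := h) v (closedPoint W) hv
  haveI : Etale (pullback.snd V.hom h) := MorphismProperty.pullback_snd V.hom h V.prop
  obtain ⟨σ, hσ, -⟩ := (Groth.Agent.Hensel.strictlyHenselian_iff_exists_section W).1 ⟨inferInstance, inferInstance⟩ _
    (pullback.snd V.hom h) inferInstance z hz
  let m : pullback h g ⟶ pullback V.hom g :=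
    pullback.lift (pullback.fst h g ≫ σ ≫ pullback.fst V.hom h) (pullback.snd h g) (by
      rw [Category.assoc, Category.assoc, pullback.condition, ← Category.assoc σ, hσ, Category.id_comp,
        pullback.condition])
  exact Kc_eq_zero_of_fac m (pullback.snd V.hom g) _ (pullback.lift_snd _ _ _) q ξ hV

end Groth.Agent.SmoothLA
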