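import Groth.Agent.AcycFin.ConstPull
import Groth.Agent.EtFound.ConstAcyclic
import Groth.Agent.EtFound.LiftEtale
import Mathlib.AlgebraicGeometry.Morphisms.UniversallyOpen

/-!
# Classes on a scheme over `X` which die étale locally on `X`
-/

set_option autoImplicit false
set_option linter.unusedSectionVars false
set_option linter.style.haveILetI false
set_option backward.isDefEq.respectTransparency false
set_option backward.isDefEq.respectTransparency.types false

universe u

open CategoryTheory CategoryTheory.Limits AlgebraicGeometry Opposite Abelian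

noncomputable section

namespace Groth.Agent.SmoothLA

open Groth.Agent.AcycFin

attribute [local instance] EtFound.pull_preservesFiniteLimits

variable {X T X' T' : Scheme.{u}} {M : Type} [AddCommGroup M]

theorem Kc_zero {A B : Scheme.{u}} (f : A ⟶ B) (q : ℕ) : Kc f M q 0 = 0 := by
  rw [Kc, map_zero, Ext.zero_comp]

/-- Vanishing passes to maps which factor. -/
theorem Kc_eq_zero_of_fac {A B C : Scheme.{u}} (k : A ⟶ B) (j : B ⟶ C) (w : A ⟶ C) (e : k ≫ j = w) (q : ℕ)
    (x : EtCoh.H C (EtCoh.const C M) q) (h : Kc j M q x = 0) : Kc w M q x = 0 := by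
  rw [← Kc_comp k j w e M q x, h, Kc_zero]

/-- The class `ξ` on `g : T ⟶ X` dies on an étale neighbourhood of `x`. -/
def Killed (g : T ⟶ X) {q : ℕ} (ξ : EtCoh.H T (EtCoh.const T M) q) (x : X) : Prop :=
  ∃ V : X.Etale, x ∈ Set.range V.hom.base ∧ Kc (pullback.snd V.hom g) M q ξ = 0

variable (g : T ⟶ X) {q : ℕ} (ξ : EtCoh.H T (EtCoh.const T M) q)

/-- Killedness from any presentation of the neighbourhood. -/
theorem killed_of {V W : Scheme.{u}} (v : V ⟶ X) [Etale v] {x : X} (hx : x ∈ Set.range v.base) (a : W ⟶ T)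
    (b : W ⟶ V) (c : IsPullback b a v g) (h : Kc a M q ξ = 0) : Killed g ξ x :=
  ⟨Scheme.Etale.mk v, hx, Kc_eq_zero_of_fac c.isoPullback.inv a _ c.isoPullback_inv_snd q ξ h⟩

/-- Killedness is inherited along base change. -/
theorem killed_pull (h : X' ⟶ X) (r : T' ⟶ T) (g' : T' ⟶ X') (w : g' ≫ h = r ≫ g) (x' : X')
    (hk : Killed g ξ (h x')) : Killed g' (Kc r M q ξ) x' := by
  obtain ⟨V, ⟨v, hv⟩, hV⟩ := hk
  let b : pullback V.hom h ⟶ X' := pullback.snd _ _
  haveI : Etale V.hom := V.prop
  haveI : Etale b := MorphismProperty.pullback_snd V.hom h V.prop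
  obtain ⟨z, -, hz⟩ := Scheme.Pullback.exists_preimage_pullback (f := V.hom) (g := h) v x' hv
  refine killed_of g' _ b ⟨z, hz⟩ (pullback.snd b g') (pullback.fst b g') (IsPullback.of_hasPullback b g') ?_
  let m : pullback b g' ⟶ pullback V.hom g :=
    pullback.lift (pullback.fst b g' ≫ pullback.fst V.hom h) (pullback.snd b g' ≫ r) (by
      rw [Category.assoc, pullback.condition, ← Category.assoc, pullback.condition, Category.assoc, w, Category.assoc])
  rw [Kc_comp (pullback.snd b g') r _ rfl]
  exact Kc_eq_zero_of_fac m (pullback.snd V.hom g) _ (pullback.lift_snd _ _ _) q ξ hV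

/-- Killedness is inherited along base change, for the same source. -/
theorem killed_pull_same (h : X' ⟶ X) (g' : T ⟶ X') (w : g' ≫ h = g) (x' : X') (hk : Killed g ξ (h x')) :
    Killed g' ξ x' := by
  obtain ⟨V, hx, hV⟩ := killed_pull g ξ h (𝟙 T) g' (w.trans (Category.id_comp g).symm) x' hk
  refine ⟨V, hx, ?_⟩
  rwa [Kc_comp (pullback.snd V.hom g') (𝟙 T) (pullback.snd V.hom g') (Category.comp_id _)] at hV

/-- Killedness on an open subscheme through which `g` factors. -/
theorem killed_open (o : X' ⟶ X) [IsOpenImmersion o] (g' : T ⟶ X') (w : g' ≫ o = g) (x' : X')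
    (hk : Killed g' ξ x') : Killed g ξ (o x') := by
  obtain ⟨V, ⟨v, hv⟩, hV⟩ := hk
  haveI : Etale V.hom := V.prop
  have c0 : IsPullback g' (𝟙 T) o g := IsPullback.of_isLimit' ⟨w.trans (Category.id_comp g).symm⟩
    (PullbackCone.isLimitAux' _ fun s => ⟨s.snd,
      (cancel_mono o).1 ((Category.assoc _ _ _).trans ((congrArg (s.snd ≫ ·) w).trans s.condition.symm)),
      Category.comp_id _, fun {m} _ h2 => (Category.comp_id m).symm.trans h2⟩)
  have c : IsPullback (pullback.fst V.hom g') (pullback.snd V.hom g' ≫ 𝟙 T) (V.hom ≫ o) g :=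
    (IsPullback.of_hasPullback V.hom g').paste_vert c0
  refine killed_of g ξ (V.hom ≫ o) ⟨v, (Scheme.Hom.comp_apply _ _ _).trans (congrArg o hv)⟩ _ _ c ?_
  rwa [Category.comp_id]

/-- Killedness on a closed subscheme through which `g` factors. -/
theorem killed_closed (i : X' ⟶ X) [IsClosedImmersion i] (g' : T ⟶ X') (w : g' ≫ i = g) (x' : X')
    (hk : Killed g' ξ x') : Killed g ξ (i x') := by
  obtain ⟨V, ⟨v, hv⟩, hV⟩ := hk
  haveI : Etale V.hom := V.prop
  obtain ⟨V₁, h₀, hh₀, -, ⟨z, hz⟩⟩ := EtFound.exists_etale_lift i V.hom v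
  refine ⟨V₁, ⟨(pullback.fst V₁.hom i).base z, ?_⟩, ?_⟩
  · rw [← Scheme.Hom.comp_apply, pullback.condition, Scheme.Hom.comp_apply, ← hh₀, Scheme.Hom.comp_apply]
    exact congrArg i ((congrArg V.hom hz).trans hv)
  · let m₀ : pullback V₁.hom g ⟶ pullback V₁.hom i :=
      pullback.lift (pullback.fst _ _) (pullback.snd V₁.hom g ≫ g') (by
        rw [Category.assoc, w, pullback.condition])
    let m : pullback V₁.hom g ⟶ pullback V.hom g' :=
      pullback.lift (m₀ ≫ h₀) (pullback.snd V₁.hom g) (by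
        rw [Category.assoc, hh₀]
        exact pullback.lift_snd _ _ _)
    exact Kc_eq_zero_of_fac m (pullback.snd V.hom g') _ (pullback.lift_snd _ _ _) q ξ hV

/-- The killed points are stable under generization. -/
theorem killed_of_specializes {x y : X} (hs : x ⤳ y) (hk : Killed g ξ y) : Killed g ξ x := by
  obtain ⟨V, hy, hV⟩ := hk
  haveI : Etale V.hom := V.prop
  exact ⟨V, hs.mem_open V.hom.isOpenMap.isOpen_range hy, hV⟩

/-- Points outside the closure of the image are killed. -/
theorem killed_of_not_mem_closure {x : X} (hx : x ∉ closure (Set.range g.base)) : Killed g ξ x := by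
  let U : X.Opens := ⟨(closure (Set.range g.base))ᶜ, isClosed_closure.isOpen_compl⟩
  refine ⟨Scheme.Etale.mk U.ι, ⟨(⟨x, hx⟩ : (U : Scheme.{u})), rfl⟩, ?_⟩
  haveI : IsEmpty ↥(pullback U.ι g) := ⟨fun z => by
    have h1 : U.ι ((pullback.fst U.ι g).base z) = g ((pullback.snd U.ι g).base z) := by
      rw [← Scheme.Hom.comp_apply, pullback.condition, Scheme.Hom.comp_apply]
    exact ((pullback.fst U.ι g).base z).2 (subset_closure ⟨_, h1.symm⟩)⟩
  exact (@EtFound.ConstAcyclic.subsingleton_H_of_isEmpty (pullback (Scheme.Etale.mk U.ι).hom g) this _ q).elim _ _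

end Groth.Agent.SmoothLA
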