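import Groth.Agent.SmoothLA.Steps
import Mathlib.Order.Zorn

/-!
# Classes on the geometric fibre die along the closed fibre
-/

set_option autoImplicit false
set_option linter.unusedSectionVars false
set_option linter.style.haveILetI false
set_option backward.isDefEq.respectTransparency false
set_option backward.isDefEq.respectTransparency.types false
set_option maxHeartbeats 800000

universe u

open CategoryTheory CategoryTheory.Limits AlgebraicGeometry Opposite TensorProduct Polynomial IsLocalRing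

noncomputable section

namespace Groth.Agent.SmoothLA

variable {R : Type u} [CommRing R] [IsLocalRing R] (A : Type u) [CommRing A] [Algebra R A] [Algebra R[X] A]
  [IsScalarTower R R[X] A] [Algebra.Etale R[X] A] {Ω : Type u} [Field Ω] [IsAlgClosed Ω] [Algebra R Ω] {ℓ : ℕ}
  (ξ : EtCoh.H (Spec (CommRingCat.of (A ⊗[R] Ω))) (EtCoh.const _ (ZMod ℓ)) 1)

theorem hA_refl (B : Subalgebra R Ω) : hA A (le_refl B) = 𝟙 _ := by
  have e' : incA A (le_refl B) = AlgHom.id R (A ⊗[R] B) :=
    Algebra.TensorProduct.ext' fun x y => incA_tmul A (le_refl B) x y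
  have e : (incA A (le_refl B)).toRingHom = RingHom.id _ := congrArg AlgHom.toRingHom e'
  exact (congrArg (fun f => Spec.map (CommRingCat.ofHom f)) e).trans (Spec.map_id _)

theorem hA_hA {B B' B'' : Subalgebra R Ω} (h : B ≤ B') (h' : B' ≤ B'') :
    hA A h' ≫ hA A h = hA A (h.trans h') := by
  rw [← Spec.map_comp, ← CommRingCat.ofHom_comp]
  exact congrArg (fun f => Spec.map (CommRingCat.ofHom f)) (congrArg AlgHom.toRingHom (incA_incA A h h'))

theorem hA_apply_trans {B B' B'' : Subalgebra R Ω} (h : B ≤ B') (h' : B' ≤ B'')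
    {x : Spec (CommRingCat.of (A ⊗[R] B''))} {y : Spec (CommRingCat.of (A ⊗[R] B'))}
    {z : Spec (CommRingCat.of (A ⊗[R] B))} (e' : hA A h' x = y) (e : hA A h y = z) :
    hA A (h.trans h') x = z := by
  have c := Scheme.Hom.comp_apply (hA A h') (hA A h) x
  rw [hA_hA, e', e] at c
  exact c

theorem hA_apply_refl (B : Subalgebra R Ω) (x : Spec (CommRingCat.of (A ⊗[R] B))) : hA A (le_refl B) x = x := by
  rw [hA_refl]
  rfl

/-- The points at which the class survives. -/
structure Survivor (Q : Spec (CommRingCat.of A)) where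
  /-- the coefficients -/
  B : Subalgebra R Ω
  /-- the point -/
  q : Spec (CommRingCat.of (A ⊗[R] B))
  over' : pAm (R := R) A B q = Q
  not_killed : ¬ Killed (gA A B) ξ q

variable {A ξ} {Q : Spec (CommRingCat.of A)}

instance : Preorder (Survivor A ξ Q) where
  le a b := ∃ h : a.B ≤ b.B, hA A h b.q = a.q
  le_refl a := ⟨le_rfl, hA_apply_refl A a.B a.q⟩
  le_trans _ _ _ := fun ⟨h, e⟩ ⟨h', e'⟩ => ⟨h.trans h', hA_apply_trans A h h' e' e⟩

/-- Classes on the geometric fibre die at all points over the closed point. -/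
theorem killed_main (hker : RingHom.ker (algebraMap R Ω) ≤ maximalIdeal R) (hℓ : ℓ.Prime) (hℓR : IsUnit (ℓ : R))
    (hQ : Q.asIdeal.comap (algebraMap R A) = maximalIdeal R) : Killed (pAm (R := R) A Ω) ξ Q := by
  by_contra hnk
  haveI : Module.Flat R A := flat_of_etale A
  -- the start
  have hsurj : Function.Surjective (algebraMap R (⊥ : Subalgebra R Ω)) := fun b => by
    obtain ⟨r, hr⟩ := Algebra.mem_bot.1 b.2
    exact ⟨r, Subtype.ext hr⟩
  have hcomap : ((maximalIdeal R).map (algebraMap R (⊥ : Subalgebra R Ω))).comap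
      (algebraMap R (⊥ : Subalgebra R Ω)) = maximalIdeal R := by
    rw [Ideal.comap_map_of_surjective _ hsurj]
    refine sup_eq_left.2 fun r hr => hker ?_
    exact congrArg Subtype.val (hr : algebraMap R (⊥ : Subalgebra R Ω) r = 0)
  have hmax₀ : ((maximalIdeal R).map (algebraMap R (⊥ : Subalgebra R Ω))).IsMaximal :=
    (Ideal.map_eq_top_or_isMaximal_of_surjective _ hsurj (maximalIdeal.isMaximal R)).resolve_left fun h0 =>
      (maximalIdeal.isMaximal R).ne_top (by rw [← hcomap, h0, Ideal.comap_top])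
  obtain ⟨q₀, hq₀, -⟩ := exists_prime_over (R := R) A (⊥ : Subalgebra R Ω) Q ⟨_, hmax₀.isPrime⟩
    (hQ.trans hcomap.symm)
  have hover₀ : pAm (R := R) A (⊥ : Subalgebra R Ω) q₀ = Q := PrimeSpectrum.ext hq₀
  have hsA : Function.Surjective (Algebra.TensorProduct.includeLeftRingHom (R := R) (A := A) (B := (⊥ : Subalgebra R Ω))) := by
    intro z
    induction z using TensorProduct.induction_on with
    | zero => exact ⟨0, map_zero _⟩
    | tmul a b =>
      obtain ⟨r, rfl⟩ := hsurj b
      exact ⟨r • a, by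
        show (r • a) ⊗ₜ[R] (1 : (⊥ : Subalgebra R Ω)) = _
        rw [TensorProduct.smul_tmul, ← Algebra.algebraMap_eq_smul_one]⟩
    | add x y hx hy =>
      obtain ⟨a, rfl⟩ := hx
      obtain ⟨b, rfl⟩ := hy
      exact ⟨a + b, map_add _ _ _⟩
  haveI : IsClosedImmersion (pAm (R := R) A (⊥ : Subalgebra R Ω)) := IsClosedImmersion.spec_of_surjective _ hsA
  let s₀ : Survivor A ξ Q :=
    ⟨⊥, q₀, hover₀, fun hk => hnk (hover₀ ▸ killed_closed _ ξ (pAm (R := R) A (⊥ : Subalgebra R Ω)) (gA A ⊥)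
      (gA_pAm A ⊥) q₀ hk)⟩
  haveI : Nonempty (Survivor A ξ Q) := ⟨s₀⟩
  obtain ⟨m, hm⟩ := zorn_le_nonempty (α := Survivor A ξ Q) fun c hc hne => by
    haveI : Nonempty c := hne.to_subtype
    have hd : Directed (· ≤ ·) fun a : c => a.1.B := fun a b => by
      rcases hc.total a.2 b.2 with h | h
      · exact ⟨b, h.1, le_rfl⟩
      · exact ⟨a, le_rfl, h.1⟩
    obtain ⟨q', hq', hk'⟩ := exists_chain_bound A ξ (fun a : c => a.1.B) (fun a => a.1.q) hd (fun a b h => by
      rcases hc.total a.2 b.2 with h₁ | h₁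
      · exact h₁.2
      · obtain ⟨h', e⟩ := h₁
        exact (hA_apply_trans A h h' e rfl).symm.trans (hA_apply_refl A a.1.B a.1.q)) fun a => a.1.not_killed
    obtain ⟨a₀⟩ := ‹Nonempty c›
    refine ⟨⟨iSup fun a : c => a.1.B, q', ?_, hk'⟩, fun a ha => ⟨le_iSup (fun a : c => a.1.B) ⟨a, ha⟩, hq' ⟨a, ha⟩⟩⟩
    rw [← hA_pAm A (le_iSup (fun a : c => a.1.B) a₀), Scheme.Hom.comp_apply, hq' a₀, a₀.1.over']
  refine false_of_max (fun B' h hne q' hq' => ?_) m.not_killed hℓ hℓR
  by_contra hk
  have h2 : m ≤ ⟨B', q', by rw [← hA_pAm A h, Scheme.Hom.comp_apply, hq', m.over'], hk⟩ := ⟨h, hq'⟩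
  exact hne (le_antisymm (hm h2).1 h)

end Groth.Agent.SmoothLA
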