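import Groth.Agent.CurveAff.FiveTerm
import Groth.Agent.CurveAff.PointH0
import Groth.Agent.CurveCd.ClosedAcyclic
import Groth.Agent.CurveFin.Finite
import Groth.Agent.EtCdp5.RpushVan

/-!
# Finiteness of global sections of punctual sheaves and of the first higher direct image
-/

set_option autoImplicit false
set_option linter.style.haveILetI false
set_option linter.unusedSectionVars false
set_option backward.isDefEq.respectTransparency false
set_option backward.isDefEq.respectTransparency.types false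
set_option maxHeartbeats 1600000

universe u

open CategoryTheory CategoryTheory.Limits AlgebraicGeometry Opposite Abelian

noncomputable section

namespace Groth.Agent.SmoothLA

open Groth.Agent.BcQCalc Groth.Agent.EtFound Groth.Agent.EtFound.ClosedSupp Groth.Agent.CurveAff Groth.Agent.CurveFin.Leray
  Groth.Agent.EtAcycLib.UnitRpush

variable {U Y : Scheme.{u}}

/-- Global sections of `R¹j_*` are finite when `H¹` upstairs and `H²` of the direct image are. -/
theorem finite_H0_Rpush_one (j : U ⟶ Y) [PreservesFiniteLimits (EtCoh.pull j)] (G : EtCoh.Ab U)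
    [Finite (EtCoh.H U G 1)] [Finite (EtCoh.H Y ((EtCoh.push j).obj G) 2)] :
    Finite (EtCoh.H Y ((EtCoh.Rpush j 1).obj G) 0) := by
  haveI : (EtCoh.push j).IsRightAdjoint := (EtCoh.pullPushAdj j).isRightAdjoint
  let R₀ := (EtCoh.push j).rightDerivedZeroIsoSelf
  let S := embSES G
  have hS : S.ShortExact := embSES_shortExact G
  haveI : Injective S.X₂ := inferInstanceAs (Injective (Injective.under G))
  haveI : Mono S.f := hS.mono_f
  haveI : Injective ((EtCoh.push j).obj S.X₂) := (EtCoh.pullPushAdj j).map_injective S.X₂ inferInstance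
  let T := SESResLib.derivedLES (EtCoh.push j)
  have hI : IsZero ((EtCoh.Rpush j 1).obj S.X₂) :=
    (EtCoh.push j).isZero_rightDerived_obj_injective_succ 0 S.X₂
  let δ₀ := T.δ S hS 0 1 rfl
  let d : (EtCoh.push j).obj S.X₃ ⟶ (EtCoh.Rpush j 1).obj G := R₀.inv.app S.X₃ ≫ δ₀
  haveI : Epi δ₀ := (T.exact₁ S hS 0 1 rfl).epi_f (hI.eq_of_tgt _ _)
  haveI : Epi d := epi_comp _ _
  let Kd := ShortComplex.mk (kernel.ι d) d (kernel.condition d)
  have hKd : Kd.ShortExact := { exact := ShortComplex.exact_of_f_is_kernel _ (kernelIsKernel d) }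
  haveI : PreservesFiniteLimits (EtCoh.push j) := EtFound.push_preservesFiniteLimits j
  let P := S.map (EtCoh.push j)
  have hP : P.Exact :=
    ((((Functor.preservesFiniteLimits_tfae (EtCoh.push j)).out 3 0 rfl rfl).1 inferInstance) S hS).1
  haveI : Mono P.f := inferInstanceAs (Mono ((EtCoh.push j).map S.f))
  have hgd : (EtCoh.push j).map S.g ≫ d = 0 := by
    show _ ≫ R₀.inv.app S.X₃ ≫ δ₀ = 0
    rw [← Category.assoc, R₀.inv.naturality, Category.assoc, T.comp_δ S hS 0 1 rfl, comp_zero]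
  have hQd : (ShortComplex.mk ((EtCoh.push j).map S.g) d hgd).Exact := by
    refine (ShortComplex.exact_iff_of_iso ?_).1 (T.exact₃ S hS 0 1 rfl)
    refine ShortComplex.isoMk (R₀.app S.X₂) (R₀.app S.X₃) (Iso.refl _) (R₀.hom.naturality S.g).symm ?_
    show R₀.hom.app S.X₃ ≫ R₀.inv.app S.X₃ ≫ δ₀ = δ₀ ≫ 𝟙 _
    rw [Iso.hom_inv_id_app_assoc, Category.comp_id]
  let π : (EtCoh.push j).obj S.X₂ ⟶ kernel d := kernel.lift d ((EtCoh.push j).map S.g) hgd
  haveI : Epi π := hQd.epi_kernelLift
  have hπ0 : (EtCoh.push j).map S.f ≫ π = 0 := by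
    rw [← cancel_mono (kernel.ι d), Category.assoc, kernel.lift_ι, zero_comp, ← Functor.map_comp, S.zero,
      Functor.map_zero]
  let Q := ShortComplex.mk ((EtCoh.push j).map S.f) π hπ0
  have hQ : Q.ShortExact :=
    { exact := by
        let φ : Q ⟶ P :=
          { τ₁ := 𝟙 _, τ₂ := 𝟙 _, τ₃ := kernel.ι d,
            comm₁₂ := by simp [Q, P], comm₂₃ := by simp [Q, P, π] }
        exact (ShortComplex.exact_iff_of_epi_of_isIso_of_mono φ).2 hP
      mono_f := inferInstance
      epi_g := inferInstance }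
  -- the boundary to `H²`
  let σ : EtCoh.H Y ((EtCoh.Rpush j 1).obj G) 0 →+ EtCoh.H Y (kernel d) 1 :=
    hKd.extClass.postcomp _ (rfl : 0 + 1 = 1)
  let τ : EtCoh.H Y (kernel d) 1 →+ EtCoh.H Y ((EtCoh.push j).obj G) 2 :=
    hQ.extClass.postcomp _ (rfl : 1 + 1 = 2)
  have hτi : Function.Injective τ := (injective_iff_map_eq_zero _).2 fun c hc => by
    obtain ⟨b, rfl⟩ := Ext.covariant_sequence_exact₃ _ hQ c (rfl : 1 + 1 = 2) hc
    rw [Ext.eq_zero_of_injective b, Ext.zero_comp]
  haveI : Finite (EtCoh.H Y (kernel d) 1) := Finite.of_injective τ hτi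
  -- the image of `H¹` upstairs
  let Φ : EtCoh.H Y ((EtCoh.push j).obj S.X₃) 0 →+ EtCoh.H U G 1 :=
    (hS.extClass.postcomp _ (rfl : 0 + 1 = 1)).comp (EtLim.HofPush j S.X₃ 0)
  let D := hm d 0
  have hDΦ : Φ.ker ≤ D.ker := fun b hb => by
    obtain ⟨v, hv⟩ := Ext.covariant_sequence_exact₃ _ hS (EtLim.HofPush j S.X₃ 0 b) (rfl : 0 + 1 = 1) hb
    obtain ⟨x, rfl⟩ := (HofPush_bijective_zero j S.X₂).2 v
    have hx : hm ((EtCoh.push j).map S.g) 0 x = b := by
      refine (HofPush_bijective_zero j S.X₃).1 ?_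
      refine Eq.trans ?_ hv
      exact HofPush_natural j S.g 0 x
    rw [AddMonoidHom.mem_ker, ← hx]
    show hm d 0 (hm ((EtCoh.push j).map S.g) 0 x) = 0
    rw [hm_comp, hgd]
    show x.comp (Ext.mk₀ 0) (add_zero 0) = 0
    rw [Ext.mk₀_zero, Ext.comp_zero]
  haveI : Finite (EtCoh.H Y ((EtCoh.push j).obj S.X₃) 0 ⧸ Φ.ker) :=
    Finite.of_injective _ (QuotientAddGroup.kerLift_injective Φ)
  haveI : Finite D.range := by
    refine Finite.of_surjective (QuotientAddGroup.lift Φ.ker D.rangeRestrict (fun b hb => by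
      exact Subtype.ext (AddMonoidHom.mem_ker.1 (hDΦ hb)))) fun ⟨_, b, rfl⟩ => ⟨QuotientAddGroup.mk b, rfl⟩
  haveI : Finite σ.ker := by
    refine Finite.of_surjective (fun r : D.range => (⟨r.1, ?_⟩ : σ.ker)) fun ⟨r, hr⟩ => ?_
    · obtain ⟨b, hb⟩ := r.2
      rw [AddMonoidHom.mem_ker, ← hb]
      show (b.comp (Ext.mk₀ Kd.g) (add_zero 0)).comp hKd.extClass rfl = 0
      rw [Ext.comp_assoc_of_second_deg_zero]
      erw [hKd.comp_extClass]
      exact Ext.comp_zero ..
    · obtain ⟨b, hb⟩ := Ext.covariant_sequence_exact₃ _ hKd r (rfl : 0 + 1 = 1) hr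
      exact ⟨⟨r, b, hb⟩, rfl⟩
  exact CurveFin.finite_of_ker_range σ

variable {X : Scheme.{u}}

/-- A sheaf supported at closed points with finitely many sections has few nonzero stalks. -/
theorem card_lt_of_stalks_ne_zero [IsNoetherian X]
    (hsep : ∀ x : X, IsClosed ({x} : Set X) → IsSepClosed (X.residueField x)) :
    ∀ (S : Finset X), (∀ x ∈ S, IsClosed ({x} : Set X)) →
    ∀ (F : EtCoh.Ab X), (∀ x ∈ EtPBC.supp F, IsClosed ({x} : Set X)) →
    (∀ x ∈ S, ∃ (Ω : Type u) (_ : Field Ω) (_ : IsSepClosed Ω) (ξ : Spec (CommRingCat.of Ω) ⟶ X),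
      ξ.base (default : Spec (CommRingCat.of Ω)) = x ∧ ¬ IsZero ((EtCoh.stalk ξ).obj F)) →
    Finite (EtCoh.H X F 0) → S.card < Nat.card (EtCoh.H X F 0) := by
  classical
  intro S
  induction S using Finset.induction with
  | empty =>
    intro _ F _ _ hfin
    haveI := hfin
    rw [Finset.card_empty]
    exact Nat.card_pos
  | insert x S hx ih =>
    intro hcl F hF hne hfin
    haveI := hfin
    have hxc : IsClosed ({x} : Set X) := hcl x (Finset.mem_insert_self x S)
    let i := X.fromSpecResidueField x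
    haveI : IsClosedImmersion i := AlgSpDec.isClosedImmersion_fromSpecResidueField hxc
    haveI : IsSepClosed (X.residueField x) := hsep x hxc
    let V : X.Opens := ⟨{x}ᶜ, hxc.isOpen_compl⟩
    haveI : EtShriek.JCont V.ι := EtFound.jCont V.ι
    have hV : Set.range V.ι.base = (Set.range i.base)ᶜ := by
      rw [Scheme.range_fromSpecResidueField]
      exact Scheme.Opens.range_ι V
    obtain ⟨w, hw⟩ := recollement_shortExact i V.ι hV F
    let F' := (EtShriek.extZero V.ι).obj ((EtShriek.restrAlong V.ι).obj F)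
    let a : F' ⟶ F := (EtShriek.extZeroAdj V.ι).counit.app F
    haveI : Mono a := hw.mono_f
    have hF' : ∀ y ∈ EtPBC.supp F', IsClosed ({y} : Set X) := fun y hy => hF y (supp_subset_of_mono' a hy)
    have hne' : ∀ y ∈ S, ∃ (Ω : Type u) (_ : Field Ω) (_ : IsSepClosed Ω) (ξ : Spec (CommRingCat.of Ω) ⟶ X),
        ξ.base (default : Spec (CommRingCat.of Ω)) = y ∧ ¬ IsZero ((EtCoh.stalk ξ).obj F') := by
      intro y hy
      obtain ⟨Ω, _, _, ξ, hξ, hξne⟩ := hne y (Finset.mem_insert_of_mem hy)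
      refine ⟨Ω, inferInstance, inferInstance, ξ, hξ, fun h0 => hξne ?_⟩
      have hT := hw.map_of_exact (EtCoh.stalk ξ)
      have hz : IsZero ((EtCoh.stalk ξ).obj ((EtCoh.push i).obj ((EtCoh.pull i).obj F))) :=
        isZero_stalk_push_closed i _ ξ (by
          rw [Scheme.range_fromSpecResidueField, hξ]
          exact fun h => hx (Set.mem_singleton_iff.1 h ▸ hy))
      haveI : Epi ((EtCoh.stalk ξ).map a) := hT.exact.epi_f (hz.eq_of_tgt _ _)
      exact IsZero.of_epi ((EtCoh.stalk ξ).map a) h0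
    have hinj : Function.Injective (hm a 0) := CurveAff.hm_injective_zero a
    haveI : Finite (EtCoh.H X F' 0) := Finite.of_injective _ hinj
    have h1 := ih (fun z hz => hcl z (Finset.mem_insert_of_mem hz)) F' hF' hne' inferInstance
    have hnsurj : ¬ Function.Surjective (hm a 0) := fun hs => by
      obtain ⟨Ω, _, _, ξ, hξ, hξne⟩ := hne x (Finset.mem_insert_self x S)
      obtain ⟨eP⟩ := @nonempty_H0_push_point X (X.residueField x) _ ‹IsSepClosed (X.residueField x)› i _ F
      let g := (EtCoh.pullPushAdj i).unit.app F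
      haveI : Subsingleton (EtCoh.H X ((EtCoh.push i).obj ((EtCoh.pull i).obj F)) 0) := by
        refine subsingleton_of_forall_eq 0 fun c => ?_
        obtain ⟨b, rfl⟩ := Ext.covariant_sequence_exact₃ _ hw c (rfl : 0 + 1 = 1)
          (@Subsingleton.elim _ (CurveCd.ClosedAcyclic.subsingleton_H (F := F') hsep hF' 0) _ _)
        obtain ⟨b, rfl⟩ := hs b
        show (b.comp (Ext.mk₀ a) (add_zero 0)).comp (Ext.mk₀ g) (add_zero 0) = 0
        rw [Ext.comp_assoc_of_second_deg_zero, Ext.mk₀_comp_mk₀]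
        erw [w]
        rw [Ext.mk₀_zero, Ext.comp_zero]
      haveI hst := eP.symm.toEquiv.subsingleton
      refine hξne (@EtCdp5.isZero_stalk_of_eq X F (X.residueField x) Ω _ (hsep x hxc) _ ‹IsSepClosed Ω› i ξ ?_
        (@AddCommGrpCat.isZero_of_subsingleton _ hst))
      rw [hξ]
      exact Set.mem_singleton_iff.1 (Scheme.range_fromSpecResidueField (X := X) x ▸ Set.mem_range_self _)
    have h2 : Nat.card (EtCoh.H X F' 0) < Nat.card (EtCoh.H X F 0) := by
      haveI := Fintype.ofFinite (EtCoh.H X F' 0)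
      haveI := Fintype.ofFinite (EtCoh.H X F 0)
      rw [Nat.card_eq_fintype_card, Nat.card_eq_fintype_card]
      exact Fintype.card_lt_of_injective_not_surjective _ hinj hnsurj
    rw [Finset.card_insert_of_notMem hx]
    omega

end Groth.Agent.SmoothLA
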