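import Groth.Agent.SmoothLA.Henz
import Groth.Agent.H0FBC.StrictAlg
import Groth.Agent.EtFound.IntegralCore
import Groth.Agent.WEtLib.Olivier

/-!
# Translations of strict localizations of the affine line
-/

set_option autoImplicit false
set_option linter.style.haveILetI false
set_option linter.unusedSectionVars false
set_option backward.isDefEq.respectTransparency false
set_option backward.isDefEq.respectTransparency.types false

universe u

open Polynomial IsLocalRing CategoryTheory CategoryTheory.Limits AlgebraicGeometry

noncomputable section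

namespace Groth.Agent.SmoothLA

open Groth.Agent.Hensel (Henz Nbhd)

/-- A field seen as an algebra through a point. -/
def PtField {A K : Type u} [CommRing A] [Field K] (_φ : A →+* K) : Type u := K

instance {A K : Type u} [CommRing A] [Field K] (φ : A →+* K) : Field (PtField φ) := inferInstanceAs (Field K)

instance {A K : Type u} [CommRing A] [Field K] [IsAlgClosed K] (φ : A →+* K) : IsAlgClosed (PtField φ) :=
  inferInstanceAs (IsAlgClosed K)

instance {A K : Type u} [CommRing A] [Field K] (φ : A →+* K) : Algebra A (PtField φ) := φ.toAlgebra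

/-- A copy of the base, receiving the base through an automorphism. -/
def PtBase {A : Type u} [CommRing A] (_τ : A ≃+* A) : Type u := A

instance {A : Type u} [CommRing A] (τ : A ≃+* A) : CommRing (PtBase τ) := inferInstanceAs (CommRing A)

instance {A : Type u} [CommRing A] (τ : A ≃+* A) : Algebra A (PtBase τ) := τ.toRingHom.toAlgebra

/-- Universal étale neighbourhoods do not change along étale algebras. -/
theorem bijective_henzMap {B A K : Type u} [CommRing B] [CommRing A] [Field K] [IsAlgClosed K] [Algebra B A]
    [Algebra.Etale B A] [Algebra A K] [Algebra B K] [IsScalarTower B A K] :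
    ∃ ψ : Henz B K ≃+* Henz A K,
      ψ.toRingHom.comp (algebraMap B (Henz B K)) = (algebraMap A (Henz A K)).comp (algebraMap B A) := by
  obtain ⟨ψ, hψ₁, hψ₂⟩ := H0FBC.exists_henzMap B A K
  let H' := Henz A K
  haveI hl : IsLocalHom ψ := ⟨fun z hz => by
    rw [Hensel.Henz.isUnit_iff, ← hψ₂]
    exact Hensel.Henz.isUnit_iff.1 hz⟩
  letI : Algebra B H' := ((algebraMap A H').comp (algebraMap B A)).toAlgebra
  haveI : IsScalarTower B A H' := .of_algebraMap_eq' rfl
  haveI : Algebra.WeaklyEtale A H' := S0736.result _ _ (Hensel.isIndEtale_henz A K)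
  haveI : Algebra.WeaklyEtale B H' := Algebra.WeaklyEtale.trans B A H'
  letI : Algebra (Henz B K) H' := ψ.toAlgebra
  haveI : IsLocalHom (algebraMap (Henz B K) H') := hl
  haveI : IsScalarTower B (Henz B K) H' := .of_algebraMap_eq' hψ₁.symm
  haveI : Algebra.WeaklyEtale B (Henz B K) := S0736.result _ _ (Hensel.isIndEtale_henz B K)
  haveI : Algebra.WeaklyEtale (Henz B K) H' := WEtLib.cancel (A := B) (B := Henz B K) H'
  haveI : IsSepClosed (ResidueField (Henz B K)) := EtFound.isSepClosed_residue_henz' B K
  exact ⟨RingEquiv.ofBijective ψ (WEtLib.bijective_algebraMap (A := Henz B K) (B := H')), hψ₁⟩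

/-- An automorphism of the base carries a strict localization to the strict localization at the moved point. -/
theorem exists_henz_equiv {A K : Type u} [CommRing A] [Field K] [IsAlgClosed K] (τ : A ≃+* A)
    (φ φ' : A →+* K) (h : φ' = φ.comp τ.toRingHom) :
    ∃ ψ : Henz A (PtField φ') ≃+* Henz A (PtField φ),
      ψ.toRingHom.comp (algebraMap A (Henz A (PtField φ'))) =
        (algebraMap A (Henz A (PtField φ))).comp τ.toRingHom := by
  -- the target seen over a copy of the base
  let A' : Type u := PtBase τ
  letI : Algebra A' (PtField φ') := φ.toAlgebra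
  haveI : IsScalarTower A A' (PtField φ') := .of_algebraMap_eq' h
  haveI : Algebra.Etale A A' := Algebra.Etale.of_equiv (AlgEquiv.ofBijective (Algebra.ofId A A') τ.bijective)
  exact bijective_henzMap (B := A) (A := A') (K := PtField φ')

end Groth.Agent.SmoothLA
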