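import Groth.Agent.SmoothLA.ValRing
import Groth.Agent.SmoothLA.FieldH1
import Groth.Agent.SmoothLA.Henz
import Groth.Agent.PBCThm.FibreAcyclic

/-!
# Vanishing at the generic point of the closed fibre of the affine line over a valuation ring
-/

set_option autoImplicit false
set_option linter.style.haveILetI false
set_option linter.unusedSectionVars false
set_option backward.isDefEq.respectTransparency false
set_option backward.isDefEq.respectTransparency.types false

universe u

open Polynomial IsLocalRing TensorProduct CategoryTheory CategoryTheory.Limits AlgebraicGeometry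

noncomputable section

namespace Groth.Agent.SmoothLA

open Groth.Agent.Hensel (Henz Nbhd)

section Decomp

variable {V : Type u} [CommRing V] [IsDomain V] [ValuationRing V] {Ω : Type u} [Field Ω] [IsAlgClosed Ω]
  [Algebra V Ω] [IsFractionRing V Ω] {K : Type u} [Field K] [Algebra V[X] K]
  [IsDomain (Henz V[X] K)] [IsIntegrallyClosed (Henz V[X] K)] {F : Type u} [Field F]
  [Algebra (Henz V[X] K) F] [IsFractionRing (Henz V[X] K) F] (ψ : Ω →+* F)
  (hψ : ∀ c : V, ψ (algebraMap V Ω c) = algebraMap (Henz V[X] K) F (algebraMap V[X] (Henz V[X] K) (C c)))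

local notation "W" => Henz V[X] K

/-- Constants times units. -/
def IsCU (x : F) : Prop := ∃ (d : Ω) (e : Wˣ), d ≠ 0 ∧ x = ψ d * algebraMap W F e

variable {ψ}

local notation "CU" => IsCU (V := V) (K := K)

theorem IsCU.mul {x y : F} (hx : CU ψ x) (hy : CU ψ y) : CU ψ (x * y) := by
  obtain ⟨d, e, hd, rfl⟩ := hx
  obtain ⟨d', e', hd', rfl⟩ := hy
  exact ⟨d * d', e * e', mul_ne_zero hd hd', by rw [map_mul, Units.val_mul, map_mul]; ring⟩

theorem IsCU.inv {x : F} (hx : CU ψ x) : CU ψ x⁻¹ := by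
  obtain ⟨d, e, hd, rfl⟩ := hx
  exact ⟨d⁻¹, e⁻¹, inv_ne_zero hd, by rw [mul_inv, map_inv₀, map_units_inv]⟩

theorem IsCU.ne_zero {x : F} (hx : CU ψ x) : x ≠ 0 := by
  obtain ⟨d, e, hd, rfl⟩ := hx
  exact mul_ne_zero ((map_ne_zero ψ).2 hd) (e.isUnit.map (algebraMap W F)).ne_zero

theorem IsCU.root {x : F} {m : ℕ} (hm : m ≠ 0) (hx : CU ψ (x ^ m)) : CU ψ x := by
  obtain ⟨d, e, hd, h⟩ := hx
  obtain ⟨d', hd'⟩ := IsAlgClosed.exists_pow_nat_eq d (Nat.pos_of_ne_zero hm)
  have hd0 : d' ≠ 0 := fun h0 => hd (by rw [← hd', h0, zero_pow hm])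
  have hψ0 : ψ d' ≠ 0 := (map_ne_zero ψ).2 hd0
  have hr : (x / ψ d') ^ m = algebraMap W F e := by
    rw [div_pow, h, ← map_pow, hd', mul_div_assoc, mul_comm, div_mul_cancel₀]
    exact (map_ne_zero ψ).2 hd
  obtain ⟨w, hw⟩ := IsIntegrallyClosed.isIntegral_iff.1 (IsIntegral.of_pow (R := W) (Nat.pos_of_ne_zero hm)
    (by rw [hr]; exact isIntegral_algebraMap))
  have hwu : IsUnit w := (isUnit_pow_iff hm).1 (by
    rw [show w ^ m = (e : W) from IsFractionRing.injective W F (by rw [map_pow, hw, hr])]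
    exact e.isUnit)
  exact ⟨d', hwu.unit, hd0, by rw [IsUnit.unit_spec, hw, mul_div_cancel₀ _ hψ0]⟩

variable (hker : RingHom.ker (algebraMap V[X] K) = (maximalIdeal V).map (C : V →+* V[X]))

include hψ hker in
theorem isCU_base (p : V[X]) (hp : p ≠ 0) : CU ψ (algebraMap W F (algebraMap V[X] W p)) := by
  obtain ⟨c, q, hc, rfl, hq⟩ := exists_content V p hp
  refine ⟨algebraMap V Ω c, (isUnit_henz V K hker hq).unit, fun h => hc (IsFractionRing.injective V Ω
    (h.trans (map_zero _).symm)), ?_⟩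
  rw [hψ, IsUnit.unit_spec, map_mul, map_mul]

include hker in
theorem exists_max_term {ι : Type*} (s : Finset ι) (t : ι → F) (hs : s.Nonempty) (ht : ∀ i ∈ s, t i ≠ 0) :
    ∃ k ∈ s, ∀ i ∈ s, ∃ w : W, t i = algebraMap W F w * t k := by
  classical
  induction hs using Finset.Nonempty.cons_induction with
  | singleton a => exact ⟨a, Finset.mem_singleton_self a, fun i hi => ⟨1, by
      rw [Finset.mem_singleton.1 hi, map_one, one_mul]⟩⟩
  | cons a s has hs ih =>
    obtain ⟨k, hk, hall⟩ := ih fun i hi => ht i (Finset.mem_cons.2 (Or.inr hi))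
    have ha0 := ht a (Finset.mem_cons_self a s)
    have hk0 := ht k (Finset.mem_cons.2 (Or.inr hk))
    rcases mem_or_inv_mem_henz V K hker (t a / t k) with ⟨w, hw⟩ | ⟨w, hw⟩
    · refine ⟨k, Finset.mem_cons.2 (Or.inr hk), fun i hi => ?_⟩
      rcases Finset.mem_cons.1 hi with rfl | hi
      · exact ⟨w, by rw [hw, div_mul_cancel₀ _ hk0]⟩
      · exact hall i hi
    · refine ⟨a, Finset.mem_cons_self a s, fun i hi => ?_⟩
      rcases Finset.mem_cons.1 hi with rfl | hi
      · exact ⟨1, by rw [map_one, one_mul]⟩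
      · obtain ⟨v, hv⟩ := hall i hi
        exact ⟨v * w, by rw [hv, map_mul, hw, inv_div, mul_assoc, div_mul_cancel₀ _ ha0]⟩

include hψ hker in
theorem isCU_of_ne_zero {x : F} (hx : x ≠ 0) : CU ψ x := by
  classical
  obtain ⟨f, hf, hf0⟩ := exists_root_poly V K x
  have hcu : ∀ i ∈ f.support, CU ψ (algebraMap W F (algebraMap V[X] W (f.coeff i))) := fun i hi =>
    isCU_base hψ hker _ (mem_support_iff.1 hi)
  let t : ℕ → F := fun i => algebraMap W F (algebraMap V[X] W (f.coeff i)) * x ^ i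
  have ht : ∀ i ∈ f.support, t i ≠ 0 := fun i hi => mul_ne_zero (hcu i hi).ne_zero (pow_ne_zero _ hx)
  obtain ⟨k, hk, hall⟩ := exists_max_term hker f.support t (support_nonempty.2 hf) ht
  choose w hw using hall
  have hsum : ∑ i ∈ f.support.attach, w i.1 i.2 = 0 := by
    apply IsFractionRing.injective W F
    rw [map_zero, map_sum]
    apply mul_right_cancel₀ (ht k hk)
    rw [zero_mul, Finset.sum_mul, Finset.sum_congr rfl fun i _ => (hw i.1 i.2).symm, Finset.sum_attach _ t]
    rw [eval₂_eq_sum, sum_def] at hf0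
    exact hf0
  have hwk : w k hk = 1 := IsFractionRing.injective W F (mul_right_cancel₀ (ht k hk)
    ((hw k hk).symm.trans (by rw [map_one, one_mul])))
  obtain ⟨i, hik, hiu⟩ : ∃ i : f.support, i.1 ≠ k ∧ IsUnit (w i.1 i.2) := by
    by_contra hne
    push Not at hne
    have hm : ∑ i ∈ f.support.attach.erase ⟨k, hk⟩, w i.1 i.2 ∈ maximalIdeal W :=
      Submodule.sum_mem _ fun i hi => (mem_maximalIdeal _).2 (hne i fun e => (Finset.mem_erase.1 hi).1 (Subtype.ext e))
    rw [← Finset.add_sum_erase _ _ (Finset.mem_attach _ ⟨k, hk⟩), hwk] at hsum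
    have h1 : (1 : W) ∈ maximalIdeal W := by
      rw [eq_neg_of_add_eq_zero_left hsum]
      exact neg_mem hm
    exact (maximalIdeal.isMaximal W).ne_top ((Ideal.eq_top_iff_one _).2 h1)
  have key : ∀ (a b : ℕ) (A B : F), a < b → CU ψ A → CU ψ B → A * x ^ a = B * x ^ b → CU ψ x := by
    intro a b A B hab hA hB h
    refine IsCU.root (m := b - a) (by omega) ?_
    have hB0 := hB.ne_zero
    have : x ^ (b - a) = A * B⁻¹ := by
      rw [pow_sub₀ x hx hab.le, eq_comm]
      field_simp
      linear_combination h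
    rw [this]
    exact hA.mul hB.inv
  have hrel := hw i.1 i.2
  have hW : CU ψ (algebraMap W F (w i.1 i.2)) := ⟨1, hiu.unit, one_ne_zero, by rw [map_one, one_mul]; rfl⟩
  simp only [t, ← mul_assoc] at hrel
  rcases lt_or_gt_of_ne hik with h | h
  · exact key i.1 k _ _ h (hcu _ i.2) (hW.mul (hcu _ hk)) hrel
  · exact key k i.1 _ _ h (hW.mul (hcu _ hk)) (hcu _ i.2) hrel.symm

end Decomp

attribute [local instance] EtFound.pull_preservesFiniteLimits

/-- The fibre of the strict localization at the generic point of the closed fibre has no `H¹`. -/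
theorem subsingleton_H_one_generic (V : Type u) [CommRing V] [IsDomain V] [ValuationRing V] (Ω : Type u) [Field Ω]
    [IsAlgClosed Ω] [Algebra V Ω] [IsFractionRing V Ω] (K : Type u) [Field K] [IsAlgClosed K] [Algebra V[X] K]
    (hker : RingHom.ker (algebraMap V[X] K) = (maximalIdeal V).map (C : V →+* V[X])) (ℓ : ℕ) (hℓ : ℓ.Prime)
    (hℓV : IsUnit (ℓ : V)) :
    Subsingleton (EtCoh.H (pullback (henzHom V[X] K ≫ Spec.map (CommRingCat.ofHom (C : V →+* V[X])))
        (Spec.map (CommRingCat.ofHom (algebraMap V Ω))))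
      (EtCoh.const _ (ZMod ℓ)) 1) := by
  obtain ⟨hdom, hnor, hinj⟩ := henz_facts V K
  haveI := hdom
  haveI := hnor
  let W := Henz V[X] K
  let F := FractionRing W
  letI : Algebra V W := ((algebraMap V[X] W).comp C).toAlgebra
  haveI : IsScalarTower V W F := inferInstance
  have hVF : Function.Injective (algebraMap V F) :=
    (IsFractionRing.injective W F).comp (hinj.comp C_injective)
  let ψ : Ω →+* F := IsFractionRing.lift hVF
  have hψ : ∀ c : V, ψ (algebraMap V Ω c) = algebraMap W F (algebraMap V[X] W (C c)) := fun c =>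
    IsFractionRing.lift_algebraMap hVF c
  let ψₐ : Ω →ₐ[V] F := { ψ with commutes' := fun c => IsFractionRing.lift_algebraMap hVF c }
  let Φ : W ⊗[V] Ω →ₐ[V] F :=
    Algebra.TensorProduct.lift (IsScalarTower.toAlgHom V W F) ψₐ fun _ _ => .all _ _
  have hden : ∀ z : W ⊗[V] Ω, ∃ (w : W) (c : V), c ≠ 0 ∧ z = w ⊗ₜ (algebraMap V Ω c)⁻¹ := by
    intro z
    induction z with
    | zero => exact ⟨0, 1, one_ne_zero, by rw [zero_tmul]⟩
    | tmul w k =>
      obtain ⟨a, b, hb, rfl⟩ := IsFractionRing.div_surjective (A := V) k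
      refine ⟨a • w, b, nonZeroDivisors.ne_zero hb, ?_⟩
      rw [smul_tmul, Algebra.smul_def, div_eq_mul_inv]
    | add z₁ z₂ h₁ h₂ =>
      obtain ⟨w₁, c₁, hc₁, rfl⟩ := h₁
      obtain ⟨w₂, c₂, hc₂, rfl⟩ := h₂
      refine ⟨c₂ • w₁ + c₁ • w₂, c₁ * c₂, mul_ne_zero hc₁ hc₂, ?_⟩
      have e₁ : algebraMap V Ω c₁ ≠ 0 := fun h => hc₁ (IsFractionRing.injective V Ω (h.trans (map_zero _).symm))
      have e₂ : algebraMap V Ω c₂ ≠ 0 := fun h => hc₂ (IsFractionRing.injective V Ω (h.trans (map_zero _).symm))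
      rw [add_tmul, smul_tmul, smul_tmul, Algebra.smul_def, Algebra.smul_def, map_mul]
      congr 2 <;> field_simp
  have hΦ : Function.Bijective Φ := by
    refine ⟨(injective_iff_map_eq_zero _).2 fun z hz => ?_, fun x => ?_⟩
    · obtain ⟨w, c, hc, rfl⟩ := hden z
      rw [Algebra.TensorProduct.lift_tmul, mul_eq_zero] at hz
      rcases hz with hz | hz
      · rw [IsFractionRing.injective W F (hz.trans (map_zero _).symm), zero_tmul]
      · exact absurd ((map_eq_zero ψ).1 hz) (inv_ne_zero fun h =>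
          hc (IsFractionRing.injective V Ω (h.trans (map_zero _).symm)))
    · by_cases hx : x = 0
      · exact ⟨0, by rw [map_zero, hx]⟩
      · obtain ⟨d, e, -, rfl⟩ := isCU_of_ne_zero hψ hker hx
        refine ⟨(e : W) ⊗ₜ d, ?_⟩
        rw [Algebra.TensorProduct.lift_tmul, mul_comm]
        rfl
  have hℓW : IsUnit (ℓ : W) := by
    have := hℓV.map (algebraMap V W)
    rwa [map_natCast] at this
  haveI : IsSepClosed (ResidueField W) := EtFound.isSepClosed_residue_henz' V[X] K
  have hpow : ∀ x : F, ∃ y, y ^ ℓ = x := by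
    intro x
    by_cases hx : x = 0
    · exact ⟨0, by rw [hx, zero_pow hℓ.ne_zero]⟩
    obtain ⟨d, e, -, rfl⟩ := isCU_of_ne_zero hψ hker hx
    obtain ⟨d', hd'⟩ := IsAlgClosed.exists_pow_nat_eq d hℓ.pos
    have hℓκ : (ℓ : ResidueField W) ≠ 0 := by
      rw [← map_natCast (residue W)]
      exact (hℓW.map (residue W)).ne_zero
    haveI : NeZero (ℓ : ResidueField W) := ⟨hℓκ⟩
    obtain ⟨b, hb⟩ := IsSepClosed.exists_pow_nat_eq (residue W (e : W)) ℓ
    obtain ⟨b, rfl⟩ := residue_surjective b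
    obtain ⟨y, hy, -⟩ := HenselianLocalRing.is_henselian (X ^ ℓ - C (e : W)) (monic_X_pow_sub_C _ hℓ.ne_zero) b
      (by rw [← residue_eq_zero_iff, eval_sub, eval_pow, eval_X, eval_C, map_sub, map_pow, hb, sub_self])
      (by
        rw [← residue_ne_zero_iff_isUnit, derivative_sub, derivative_X_pow, derivative_C, sub_zero, eval_mul, eval_C, eval_pow,
          eval_X, map_mul, map_pow, map_natCast]
        refine mul_ne_zero hℓκ (pow_ne_zero _ fun h0 => ?_)
        rw [h0, zero_pow hℓ.ne_zero] at hb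
        exact (e.isUnit.map (residue W)).ne_zero hb.symm)
    refine ⟨ψ d' * algebraMap W F y, ?_⟩
    rw [IsRoot, eval_sub, eval_pow, eval_X, eval_C, sub_eq_zero] at hy
    rw [mul_pow, ← map_pow, hd', ← map_pow, hy]
  have hℓΩ : (ℓ : Ω) ≠ 0 := by
    have := (hℓV.map (algebraMap V Ω)).ne_zero
    rwa [map_natCast] at this
  have h1 := subsingleton_H_one_field ψ hℓΩ hpow
  have eC : henzHom V[X] K ≫ Spec.map (CommRingCat.ofHom (C : V →+* V[X])) =
      Spec.map (CommRingCat.ofHom (algebraMap V W)) := by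
    rw [henzHom, H0PBC.ym, Category.comp_id, ← Spec.map_comp]
    rfl
  let i := (pullback.congrHom eC (rfl : Spec.map (CommRingCat.ofHom (algebraMap V Ω)) = _) ≪≫
    pullbackSpecIso V W Ω ≪≫ Scheme.Spec.mapIso
      ((RingEquiv.ofBijective Φ hΦ).toCommRingCatIso.symm.op : Opposite.op (CommRingCat.of (W ⊗[V] Ω)) ≅ Opposite.op (CommRingCat.of F)))
  exact PBCThm.subsingleton_congr (EtCore.pullConst i.hom (ZMod ℓ)) 1
    (ClosedAffAcyc.subsingleton_of_isIso i.hom _ 1 h1)

end Groth.Agent.SmoothLA
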