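import Groth.Agent.SmoothLA.P1Geom
import Groth.Agent.SmoothLA.Punctual
import Groth.Agent.SmoothLA.Translate
import Groth.Agent.SmoothLA.AIC
import Groth.Agent.SmoothLA.ValGen
import Groth.Agent.EtFound.PullStalk

/-!
# Vanishing at the closed points of the closed fibre of the projective line over a valuation ring
-/

set_option autoImplicit false
set_option linter.style.haveILetI false
set_option linter.unusedSectionVars false
set_option backward.isDefEq.respectTransparency false
set_option backward.isDefEq.respectTransparency.types false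
set_option maxHeartbeats 1600000

universe u

open CategoryTheory CategoryTheory.Limits AlgebraicGeometry Polynomial IsLocalRing Opposite

noncomputable section

namespace Groth.Agent.SmoothLA

open Groth.Agent.H23.P1Charts Groth.Agent.RpushStalk H0PBC
open Groth.Agent.Hensel (Henz Nbhd)

attribute [local instance] EtFound.pull_preservesFiniteLimits

theorem isAlgClosed_residueField_val {V : Type u} [CommRing V] [IsDomain V] [IsLocalRing V] [IsIntegrallyClosed V]
    (Ω : Type u) [Field Ω] [IsAlgClosed Ω] [Algebra V Ω] [IsFractionRing V Ω] : IsAlgClosed (ResidueField V) :=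
  isAlgClosed_residueField_of_closed Ω (IsFractionRing.injective V Ω) fun _ h => IsIntegrallyClosed.isIntegral_iff.1 h

/-- A local integrally closed domain with algebraically closed fraction field is henselian. -/
theorem henselianLocalRing_val (V : Type u) [CommRing V] [IsDomain V] [IsLocalRing V] [IsIntegrallyClosed V]
    (Ω : Type u) [Field Ω] [IsAlgClosed Ω] [Algebra V Ω] [IsFractionRing V Ω] : HenselianLocalRing V :=
  henselianLocalRing_of_closed V Ω (IsFractionRing.injective V Ω) fun _ h => IsIntegrallyClosed.isIntegral_iff.1 h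

variable (V : Type u) [CommRing V] [IsDomain V] [ValuationRing V] (Ω : Type u) [Field Ω] [IsAlgClosed Ω]
  [Algebra V Ω] [IsFractionRing V Ω]

/-- The map from a strict localization of the line to the spectrum of the base. -/
abbrev lineHom {K : Type u} [Field K] (φ : V[X] →+* K) :
    Spec (CommRingCat.of (Henz V[X] (PtField φ))) ⟶ Spec (CommRingCat.of V) :=
  henzHom V[X] (PtField φ) ≫ Spec.map (CommRingCat.ofHom (C : V →+* V[X]))

/-- The vanishing in question. -/
def Vanishes (ℓ : ℕ) {K : Type u} [Field K] (φ : V[X] →+* K) : Prop :=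
  Subsingleton (EtCoh.H (pullback (lineHom V φ) (Spec.map (CommRingCat.ofHom (algebraMap V Ω))))
    (EtCoh.const _ (ZMod ℓ)) 1)

/-- Translations do not change the vanishing. -/
theorem vanishes_translate {ℓ : ℕ} {K : Type u} [Field K] [IsAlgClosed K] (ρ : V →+* K) (a b : V)
    (h : Vanishes V Ω ℓ ((evalRingHom (ρ a)).comp (mapRingHom ρ))) :
    Vanishes V Ω ℓ ((evalRingHom (ρ b)).comp (mapRingHom ρ)) := by
  let τ : V[X] ≃+* V[X] := (algEquivAevalXAddC (b - a)).toRingEquiv
  have hτ : ((evalRingHom (ρ b)).comp (mapRingHom ρ)) =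
      ((evalRingHom (ρ a)).comp (mapRingHom ρ)).comp τ.toRingHom := by
    refine Polynomial.ringHom_ext (fun c => ?_) ?_
    · simp [τ]
    · simp [τ]
  obtain ⟨ψ, hψ⟩ := exists_henz_equiv τ ((evalRingHom (ρ a)).comp (mapRingHom ρ))
    ((evalRingHom (ρ b)).comp (mapRingHom ρ)) hτ
  let i := Spec.map (CommRingCat.ofHom ψ.toRingHom)
  haveI : IsIso i := by
    show IsIso (Spec.map ψ.toCommRingCatIso.hom)
    infer_instance
  have e : i ≫ lineHom V ((evalRingHom (ρ b)).comp (mapRingHom ρ)) =
      lineHom V ((evalRingHom (ρ a)).comp (mapRingHom ρ)) := by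
    have hC : τ.toRingHom.comp (C : V →+* V[X]) = C := RingHom.ext fun c => by simp [τ]
    simp only [lineHom, henzHom, H0PBC.ym, Category.comp_id, i]
    rw [← Spec.map_comp, ← Spec.map_comp, ← Spec.map_comp, ← CommRingCat.ofHom_comp, ← CommRingCat.ofHom_comp,
      ← CommRingCat.ofHom_comp, ← RingHom.comp_assoc, hψ, RingHom.comp_assoc, hC]
  let σ := Spec.map (CommRingCat.ofHom (algebraMap V Ω))
  let j : pullback (lineHom V ((evalRingHom (ρ b)).comp (mapRingHom ρ))) σ ⟶
      pullback (lineHom V ((evalRingHom (ρ a)).comp (mapRingHom ρ))) σ :=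
    pullback.map _ _ _ _ (inv i) (𝟙 _) (𝟙 _) (by rw [Category.comp_id, ← e, IsIso.inv_hom_id_assoc]) (by simp)
  exact PBCThm.subsingleton_congr (EtCore.pullConst j (ZMod ℓ)) 1 (ClosedAffAcyc.subsingleton_of_isIso j _ 1 h)

/-- The strict localization of the projective line at a point of the first chart. -/
def lineModel {K : Type u} [Field K] (φ : V[X] →+* K) :
    Model (PP V) (Henz V[X] (PtField φ)) (ym (chart V 0) (Henz V[X] (PtField φ))) where
  B := V[X]
  Ω := PtField φ
  ι := chart V 0
  e := AlgEquiv.refl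
  fac := rfl

/-- The stalk of the first direct image from the generic fibre vanishes exactly when the fibre is acyclic. -/
theorem isZero_stalk_iff (ℓ : ℕ) {K : Type u} [Field K] [IsAlgClosed K] (φ : V[X] →+* K)
    {κ : Type u} [Field κ] [IsSepClosed κ] (η : Spec (CommRingCat.of κ) ⟶ PP V)
    (hη : η.base (default : Spec (CommRingCat.of κ)) = chart V 0 ⟨RingHom.ker φ, RingHom.ker_isPrime φ⟩) :
    IsZero ((EtCoh.stalk η).obj ((EtCoh.Rpush (ppMap (algebraMap V Ω)) 1).obj (EtCoh.const (PP Ω) (ZMod ℓ)))) ↔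
      Vanishes V Ω ℓ φ := by
  let L := PtField φ
  let R := Henz V[X] L
  haveI : IsSepClosed (ResidueField R) := EtFound.isSepClosed_residue_henz' V[X] L
  let j := ppMap (algebraMap V Ω)
  haveI : IsAffineHom j := MorphismProperty.of_isPullback (P := @IsAffineHom)
    (isPullback_ppMap (algebraMap V Ω)).flip inferInstance
  let h := ym (chart V 0) R
  have hpt : (EtFound.cpt R ≫ h).base (default : Spec (CommRingCat.of (ResidueField R))) =
      η.base (default : Spec (CommRingCat.of κ)) := by
    rw [hη, Scheme.Hom.comp_apply, EtFound.cpt_base, Scheme.Hom.comp_apply]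
    refine congrArg (chart V 0) (PrimeSpectrum.ext ?_)
    show Ideal.comap (algebraMap V[X] R) (maximalIdeal R) = RingHom.ker φ
    rw [AlgSpDec.EtHenz.maximalIdeal_eq]
    ext p
    rw [Ideal.mem_comap, RingHom.mem_ker, RingHom.mem_ker, AlgHom.commutes]
    rfl
  have hP : ∃ e : pullback (lineHom V φ) (Spec.map (CommRingCat.ofHom (algebraMap V Ω))) ⟶ pullback h j, IsIso e := by
    have c := ((IsPullback.of_hasPullback h j).paste_vert (isPullback_ppMap (algebraMap V Ω)))
    have e : h ≫ CohB1.ProjSpaceOver.toBase 1 _ = lineHom V φ := by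
      show (_ ≫ chart V 0) ≫ _ = _
      rw [Category.assoc, chart_toBase, lineHom, henzHom, H0PBC.ym, Category.comp_id]
    rw [e] at c
    exact ⟨c.isoPullback.inv, inferInstance⟩
  obtain ⟨e, he⟩ := hP
  haveI := he
  have hchi := BcQStalk5.bijective_chi j (lineModel V φ) (EtCoh.const (PP Ω) (ZMod ℓ)) 1
  constructor
  · intro h0
    haveI : Subsingleton ((EtCoh.stalk (EtFound.cpt R ≫ h)).obj ((EtCoh.Rpush j 1).obj
        (EtCoh.const (PP Ω) (ZMod ℓ)))) :=
      AddCommGrpCat.subsingleton_of_isZero (EtCdp5.isZero_stalk_of_eq η _ hpt.symm h0)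
    have h1 := (hchi.2.subsingleton : Subsingleton (EtCoh.H (pullback h j) _ 1))
    have h2 := PBCThm.subsingleton_congr (EtCore.pullConst (pullback.snd h j) (ZMod ℓ)) 1 h1
    exact PBCThm.subsingleton_congr (EtCore.pullConst e (ZMod ℓ)) 1 (ClosedAffAcyc.subsingleton_of_isIso e _ 1 h2)
  · intro h0
    have h2 := PBCThm.subsingleton_congr (EtCore.pullConst (inv e) (ZMod ℓ)) 1
      (ClosedAffAcyc.subsingleton_of_isIso (inv e) _ 1 h0)
    haveI h1 := PBCThm.subsingleton_congr (EtCore.pullConst (pullback.snd h j) (ZMod ℓ)).symm 1 h2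
    haveI := Function.Injective.subsingleton hchi.1
    exact EtCdp5.isZero_stalk_of_eq _ η hpt (AddCommGrpCat.isZero_of_subsingleton _)

/-- Vanishing at all closed points of the line. -/
theorem vanishes_closed (ℓ : ℕ) (hℓ : ℓ.Prime) (hℓV : IsUnit (ℓ : V)) {K : Type u} [Field K] [IsAlgClosed K]
    (ρ : V →+* K) (hρ : RingHom.ker ρ = maximalIdeal V) (a : V) :
    Vanishes V Ω ℓ ((evalRingHom (ρ a)).comp (mapRingHom ρ)) := by
  classical
  by_contra hna
  haveI : NeZero ℓ := ⟨hℓ.ne_zero⟩
  haveI := isIntegrallyClosed_valuationRing V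
  haveI := isAlgClosed_residueField_val (V := V) Ω
  let k := ResidueField V
  let res := residue V
  let j := ppMap (algebraMap V Ω)
  haveI : IsAffineHom j := MorphismProperty.of_isPullback (P := @IsAffineHom)
    (isPullback_ppMap (algebraMap V Ω)).flip inferInstance
  let M := EtCoh.const (PP Ω) (ZMod ℓ)
  let G := (EtCoh.Rpush j 1).obj M
  let i := ppMap res
  let sk := CohB1.ProjSpaceOver.toBase 1 (Spec (CommRingCat.of k))
  let sΩ := CohB1.ProjSpaceOver.toBase 1 (Spec (CommRingCat.of Ω))
  have hdim : topologicalKrullDim (PP k) = 1 := H9Diag.P1Geom.topologicalKrullDim_line k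
  haveI : IsLocallyNoetherian (PP k) := LocallyOfFiniteType.isLocallyNoetherian sk
  haveI : CompactSpace (PP k) := QuasiCompact.compactSpace_of_compactSpace sk
  haveI : IsNoetherian (PP k) := {}
  haveI : IsLocallyNoetherian (PP Ω) := LocallyOfFiniteType.isLocallyNoetherian sΩ
  -- restriction to the closed fibre
  have hbij : ∀ (F : EtCoh.Ab (PP V)), EtCoh.IsTorsion F → ∀ q, Function.Bijective (EtCore.Hpull i F q) := by
    intro F hF q
    let pV := CohB1.ProjSpaceOver.toBase 1 (Spec (CommRingCat.of V))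
    haveI : HenselianLocalRing V := henselianLocalRing_val V Ω
    haveI : EtCoh.BCCont (pullback.fst pV (Spec.map (CommRingCat.ofHom (residue V)))) := inferInstance
    exact ((EtAcycLib.bijective_Hpull_comp_iff (isPullback_ppMap res).isoPullback.hom (pullback.fst pV _) i
      (isPullback_ppMap res).isoPullback_hom_fst F q).1).2
      ((EtAcycLib.bijective_Hpull_of_isIso _ _ q).comp (S3095.result V _ pV F hF q))
  have hkill : ℓ • 𝟙 M = 0 := GalCd5.killed_const _ ℓ fun x => by rw [nsmul_eq_mul, ZMod.natCast_self, zero_mul]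
  haveI : (EtCoh.push j).IsRightAdjoint := (EtCoh.pullPushAdj j).isRightAdjoint
  haveI : (EtCoh.Rpush j 1).Additive := inferInstanceAs (((EtCoh.push j).rightDerived 1).Additive)
  have hGtor : EtCoh.IsTorsion G := AcycFin.isTorsion_of_isLTorsion
    (AcycFin.isLTorsion_of_killed (L := Set.univ) (m := ℓ) ⟨hℓ.pos, fun _ _ _ => trivial⟩
      (GalCd5.killed_map (EtCoh.Rpush j 1) M ℓ hkill))
  obtain ⟨e0⟩ := nonempty_const_iso_push V Ω (ZMod ℓ)
  have hCtor : EtCoh.IsTorsion (EtCoh.const (PP V) (ZMod ℓ)) := AcycFin.isTorsion_of_isLTorsion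
    (AcycFin.isLTorsion_of_killed (L := Set.univ) (m := ℓ) ⟨hℓ.pos, fun _ _ _ => trivial⟩
      (GalCd5.killed_const _ ℓ fun x => by rw [nsmul_eq_mul, ZMod.natCast_self, zero_mul]))
  haveI : Finite (EtCoh.H (PP V) ((EtCoh.push j).obj M) 2) := by
    haveI := CurveFin.finite_H_constructible k (PP k) sk hdim.le 2 (EtCoh.const (PP k) (ZMod ℓ))
      (CurveFin.isConstructible_const (ZMod ℓ))
    haveI := CurveFin.finite_H_of_iso (EtCore.pullConst i (ZMod ℓ)).symm 2
    haveI : Finite (EtCoh.H (PP V) (EtCoh.const (PP V) (ZMod ℓ)) 2) :=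
      Finite.of_injective _ (hbij _ hCtor 2).1
    exact CurveFin.finite_H_of_iso e0 2
  haveI : Finite (EtCoh.H (PP Ω) M 1) :=
    CurveFin.finite_H_constructible Ω (PP Ω) sΩ (H9Diag.P1Geom.topologicalKrullDim_line Ω).le 1 M
      (CurveFin.isConstructible_const (ZMod ℓ))
  haveI := finite_H0_Rpush_one j M
  let F := (EtCoh.pull i).obj G
  haveI : Finite (EtCoh.H (PP k) F 0) := Finite.of_surjective _ (hbij G hGtor 0).2
  -- points of the closed fibre
  have hchart : ∀ y : Spec (CommRingCat.of k[X]),
      i (chart k 0 y) = chart V 0 ⟨y.asIdeal.comap (mapRingHom res), inferInstance⟩ := fun y => by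
    rw [← Scheme.Hom.comp_apply, ppMap_chart, Scheme.Hom.comp_apply]
    rfl
  have hstalk : ∀ {L : Type u} [Field L] [IsAlgClosed L] (φ : V[X] →+* L) (y : Spec (CommRingCat.of k[X]))
      {κ : Type u} [Field κ] [IsSepClosed κ] (ξ : Spec (CommRingCat.of κ) ⟶ PP k),
      y.asIdeal.comap (mapRingHom res) = RingHom.ker φ →
      ξ.base (default : Spec (CommRingCat.of κ)) = chart k 0 y →
      (IsZero ((EtCoh.stalk ξ).obj F) ↔ Vanishes V Ω ℓ φ) := by
    intro L _ _ φ y κ _ _ ξ hy hξ
    refine Iff.trans (Iso.isZero_iff ((EtFound.stalkPullIso i ξ).app G)) (isZero_stalk_iff V Ω ℓ φ (ξ ≫ i) ?_)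
    rw [Scheme.Hom.comp_apply, hξ, hchart]
    exact congrArg (chart V 0) (PrimeSpectrum.ext hy)
  -- the generic point
  let y₀ : Spec (CommRingCat.of k[X]) := ⟨⊥, Ideal.isPrime_bot⟩
  have hgen : genericPoint (PP k) = chart k 0 y₀ := by
    refine (genericPoint_eq_of_isOpenImmersion (chart k 0)).symm.trans (congrArg (chart k 0) ?_)
    exact genericPoint_eq_bot_of_affine (CommRingCat.of k[X])
  have hF : ∀ x ∈ EtPBC.supp F, IsClosed ({x} : Set (PP k)) := by
    intro x hx
    refine CDiv6.isClosed_singleton hdim.le fun hxg => ?_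
    obtain ⟨κ, _, _, ξ, hξ, hne⟩ := hx
    have hξ' : ξ.base (default : Spec (CommRingCat.of κ)) = chart k 0 y₀ := by
      rw [← hgen, ← hxg]
      exact Set.mem_singleton_iff.1 (hξ ▸ Set.mem_range_self _)
    let ι : k[X] →+* AlgebraicClosure (FractionRing k[X]) :=
      (algebraMap (FractionRing k[X]) _).comp (algebraMap k[X] (FractionRing k[X]))
    have hι : Function.Injective ι :=
      (RingHom.injective (algebraMap (FractionRing k[X]) (AlgebraicClosure (FractionRing k[X])))).comp
        (IsFractionRing.injective k[X] (FractionRing k[X]))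
    let ψ : V[X] →+* AlgebraicClosure (FractionRing k[X]) := ι.comp (mapRingHom res)
    have hker : RingHom.ker ψ = (maximalIdeal V).map (C : V →+* V[X]) := by
      rw [RingHom.ker_comp_of_injective _ hι, ker_mapRingHom, ker_residue]
    refine hne ((hstalk ψ y₀ ξ ?_ hξ').2 (subsingleton_H_one_generic V Ω (PtField ψ) hker ℓ hℓ hℓV))
    show Ideal.comap (mapRingHom res) ⊥ = RingHom.ker ψ
    rw [hker, ← RingHom.ker_eq_comap_bot, ker_mapRingHom, ker_residue]
  -- too many points
  let N := Nat.card (EtCoh.H (PP k) F 0)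
  obtain ⟨s, hs⟩ := Infinite.exists_subset_card_eq k N
  let pt : k → PP k := fun c => chart k 0 ⟨RingHom.ker (evalRingHom c), RingHom.ker_isPrime _⟩
  have hptinj : Function.Injective pt := fun c d h => by
    have h1 : RingHom.ker (evalRingHom c) = RingHom.ker (evalRingHom d) :=
      congrArg PrimeSpectrum.asIdeal ((chart k 0).isOpenEmbedding.injective h)
    have h2 : (X - C c : k[X]) ∈ RingHom.ker (evalRingHom d) := h1 ▸ RingHom.mem_ker.2 (by simp)
    rw [RingHom.mem_ker, coe_evalRingHom, eval_sub, eval_X, eval_C, sub_eq_zero] at h2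
    exact h2.symm
  have hclosed : ∀ c, IsClosed ({pt c} : Set (PP k)) := fun c => CDiv6.isClosed_singleton hdim.le fun h => by
    have h1 : RingHom.ker (evalRingHom c) = ⊥ :=
      congrArg PrimeSpectrum.asIdeal ((chart k 0).isOpenEmbedding.injective (h.trans hgen))
    exact X_sub_C_ne_zero c ((Ideal.mem_bot).1 (h1 ▸ RingHom.mem_ker.2 (by simp)))
  have hsep : ∀ x : PP k, IsClosed ({x} : Set (PP k)) → IsSepClosed ((PP k).residueField x) := fun x hx =>
    CurveCd.isSepClosed_residueField_of_isClosed k sk hx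
  refine absurd (card_lt_of_stalks_ne_zero hsep (s.image pt) (fun x hx => ?_) F hF (fun x hx => ?_) inferInstance)
    (not_lt.2 (le_of_eq ?_))
  · obtain ⟨c, -, rfl⟩ := Finset.mem_image.1 hx
    exact hclosed c
  · obtain ⟨c, -, rfl⟩ := Finset.mem_image.1 hx
    haveI := hsep (pt c) (hclosed c)
    refine ⟨(PP k).residueField (pt c), inferInstance, inferInstance, (PP k).fromSpecResidueField (pt c),
      Set.mem_singleton_iff.1 (Scheme.range_fromSpecResidueField (X := PP k) (pt c) ▸ Set.mem_range_self _), fun h0 => ?_⟩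
    obtain ⟨b, rfl⟩ := residue_surjective c
    refine hna (vanishes_translate V Ω ρ b a ((hstalk _ _ _ ?_
      (Set.mem_singleton_iff.1 (Scheme.range_fromSpecResidueField (X := PP k) _ ▸ Set.mem_range_self _))).1 h0))
    let ρ' : k →+* K := Ideal.Quotient.lift (maximalIdeal V) ρ fun v hv => RingHom.mem_ker.1 (hρ ▸ hv)
    have e : (evalRingHom (ρ b)).comp (mapRingHom ρ) = ρ'.comp ((evalRingHom (residue V b)).comp (mapRingHom res)) := by
      refine Polynomial.ringHom_ext (fun v => ?_) ?_
      · show eval (ρ b) ((C v).map ρ) = ρ' (eval (residue V b) ((C v).map (residue V)))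
        rw [Polynomial.map_C, Polynomial.map_C, eval_C, eval_C]
        rfl
      · show eval (ρ b) (Polynomial.map ρ X) = ρ' (eval (residue V b) (Polynomial.map (residue V) X))
        rw [Polynomial.map_X, Polynomial.map_X, eval_X, eval_X]
        rfl
    rw [e, RingHom.ker_comp_of_injective _ ρ'.injective, ← RingHom.comap_ker]
  · rw [Finset.card_image_of_injective _ hptinj, hs]

end Groth.Agent.SmoothLA
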