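import Groth.Agent.P1Rigid.Translate
import Groth.Agent.H23.P1Conn
import Groth.Agent.H9Diag.P1Geom
import Groth.Agent.EtFound.ConstExtend
import Groth.Agent.EtFound.ConstGeneric
import Groth.Agent.CurveFin.Finite
import Groth.Agent.S3095
import Groth.Agent.CDiv6.Basic

/-!
# The projective line over a valuation ring
-/

set_option autoImplicit false
set_option linter.style.haveILetI false
set_option linter.unusedSectionVars false
set_option backward.isDefEq.respectTransparency false
set_option backward.isDefEq.respectTransparency.types false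

universe u

open CategoryTheory CategoryTheory.Limits AlgebraicGeometry Polynomial

noncomputable section

namespace Groth.Agent.SmoothLA

open Groth.Agent.H23.P1Charts Groth.Agent.P1Rigid

attribute [local instance] EtFound.pull_preservesFiniteLimits

/-- The projective line over a ring. -/
abbrev PP (R : Type u) [CommRing R] : Scheme.{u} := CohB1.ProjSpaceOver 1 (Spec (CommRingCat.of R))

/-- The map of projective lines along a ring map. -/
abbrev ppMap {R S : Type u} [CommRing R] [CommRing S] (g : R →+* S) : PP S ⟶ PP R :=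
  P1.toP1 (Spec.map (CommRingCat.ofHom g))

theorem isPullback_ppMap {R S : Type u} [CommRing R] [CommRing S] (g : R →+* S) :
    IsPullback (ppMap g) (CohB1.ProjSpaceOver.toBase 1 _) (CohB1.ProjSpaceOver.toBase 1 _)
      (Spec.map (CommRingCat.ofHom g)) :=
  H23.P1Conn.isPullback_toP1 _

theorem ppMap_chart {R S : Type u} [CommRing R] [CommRing S] (g : R →+* S) (i : Fin (1 + 1)) :
    chart S i ≫ ppMap g = Spec.map (CommRingCat.ofHom (mapRingHom g)) ≫ chart R i := by
  rw [chart_eq (R := R) i, spec_comp_ptOver,
    show (mapRingHom g).comp (C : R →+* R[X]) = (C : S →+* S[X]).comp g from RingHom.ext fun r => map_C g,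
    show mapRingHom g (X : R[X]) = (X : S[X]) from map_X g]
  refine eq_ptOver (T := CommRingCat.of S[X]) ?_ ?_
  · rw [Category.assoc]
    refine (congrArg (chart S i ≫ ·) ((pullback.lift_fst _ _ _).trans (Category.comp_id _))).trans ?_
    rw [chart_eq (R := S) i, ptOver_fst]
  · rw [Category.assoc, (isPullback_ppMap g).w, ← Category.assoc, chart_toBase]
    exact (Spec.map_comp _ _).symm

theorem isNormalScheme_PP (V : Type u) [CommRing V] [IsDomain V] [IsIntegrallyClosed V] :
    Pi1.IsNormalScheme (PP V) :=
  EtFound.ConstVal.isNormalScheme (PP V) fun x => by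
    obtain ⟨i, y, rfl⟩ := exists_chart V x
    letI : Algebra V[X] ((Spec (CommRingCat.of V[X])).presheaf.stalk y) := StructureSheaf.stalkAlgebra _ _
    haveI : IsLocalization.AtPrime ((Spec (CommRingCat.of V[X])).presheaf.stalk y) y.asIdeal :=
      StructureSheaf.IsLocalization.to_stalk _ _
    haveI : IsIntegrallyClosed ((Spec (CommRingCat.of V[X])).presheaf.stalk y) :=
      isIntegrallyClosed_of_isLocalization _ y.asIdeal.primeCompl y.asIdeal.primeCompl_le_nonZeroDivisors
    exact IsIntegrallyClosed.of_equiv (asIso ((chart V i).stalkMap y)).commRingCatIsoToRingEquiv.symm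

variable (V : Type u) [CommRing V] [IsDomain V] (Ω : Type u) [Field Ω] [Algebra V Ω] [IsFractionRing V Ω]

theorem isPreimmersion_ppMap : IsPreimmersion (ppMap (algebraMap V Ω)) :=
  haveI : IsPreimmersion (Spec.map (CommRingCat.ofHom (algebraMap V Ω))) :=
    IsPreimmersion.of_isLocalization (nonZeroDivisors V)
  MorphismProperty.of_isPullback (P := @IsPreimmersion) (isPullback_ppMap (algebraMap V Ω)).flip ‹_›

theorem genericPoint_mem_range_ppMap : genericPoint (PP V) ∈ Set.range (ppMap (algebraMap V Ω)).base := by
  let b := CohB1.ProjSpaceOver.toBase 1 (Spec (CommRingCat.of V))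
  obtain ⟨w⟩ : Nonempty (Spec (CommRingCat.of Ω)) := inferInstanceAs (Nonempty (PrimeSpectrum Ω))
  let η := Spec.map (CommRingCat.ofHom (algebraMap V Ω)) w
  have hη : η.asIdeal = ⊥ := by
    show Ideal.comap (algebraMap V Ω) w.asIdeal = ⊥
    rw [(Ideal.eq_bot_or_top w.asIdeal).resolve_right w.2.ne_top, Ideal.comap_bot_of_injective _
      (IsFractionRing.injective V Ω)]
  let z := P1.sect (Spec (CommRingCat.of V)) 0 η
  have hbz : b z = η := by
    rw [← Scheme.Hom.comp_apply, H23.P1Conn.sect_toBase]
    rfl
  have hspec : b (genericPoint (PP V)) ⤳ η :=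
    hbz ▸ ((genericPoint_spec (PP V)).specializes (Set.mem_univ z)).map b.continuous
  have e : b (genericPoint (PP V)) = η := by
    refine PrimeSpectrum.ext (le_antisymm ?_ (hη ▸ bot_le))
    exact (PrimeSpectrum.le_iff_specializes _ _).2 hspec
  obtain ⟨p, hp, -⟩ := Scheme.Pullback.exists_preimage_pullback (f := b)
    (g := Spec.map (CommRingCat.ofHom (algebraMap V Ω))) (genericPoint (PP V)) w e
  refine ⟨(isPullback_ppMap (algebraMap V Ω)).isoPullback.inv p, ?_⟩
  rw [← Scheme.Hom.comp_apply, IsPullback.isoPullback_inv_fst]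
  exact hp

variable [IsIntegrallyClosed V]

/-- The constant sheaf is the direct image from the generic fibre. -/
theorem nonempty_const_iso_push (M : Type) [AddCommGroup M] :
    Nonempty (EtCoh.const (PP V) M ≅ (EtCoh.push (ppMap (algebraMap V Ω))).obj (EtCoh.const (PP Ω) M)) := by
  let j := ppMap (algebraMap V Ω)
  haveI : IsPreimmersion j := isPreimmersion_ppMap V Ω
  haveI : IsAffineHom j := MorphismProperty.of_isPullback (P := @IsAffineHom)
    (isPullback_ppMap (algebraMap V Ω)).flip inferInstance
  haveI : IsPreimmersion (𝟙 (PP Ω) ≫ j) := by rw [Category.id_comp]; infer_instance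
  haveI : QuasiCompact (𝟙 (PP Ω) ≫ j) := by rw [Category.id_comp]; infer_instance
  haveI : IsIso ((EtCoh.pullPushAdj j).unit.app (EtCoh.const (PP V) M)) := by
    refine EtFound.ConstVal.isIso_unit_const_normal j (isNormalScheme_PP V) (𝟙 _) ?_ M
    rw [Category.id_comp]
    exact EtFound.ConstVal.maxInRange_generic (PP V) _ (genericPoint_mem_range_ppMap V Ω)
  exact ⟨asIso ((EtCoh.pullPushAdj j).unit.app (EtCoh.const (PP V) M)) ≪≫
    (EtCoh.push j).mapIso (EtCore.pullConst j M)⟩

end Groth.Agent.SmoothLA
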