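import Groth.Agent.SmoothLA.P1Closed

/-!
# Classes on curves over a valuation ring die along the closed fibre
-/

set_option autoImplicit false
set_option linter.style.haveILetI false
set_option linter.unusedSectionVars false
set_option backward.isDefEq.respectTransparency false
set_option backward.isDefEq.respectTransparency.types false
set_option maxHeartbeats 1600000

universe u

open CategoryTheory CategoryTheory.Limits AlgebraicGeometry Polynomial IsLocalRing

noncomputable section

namespace Groth.Agent.SmoothLA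

open Groth.Agent.RpushStalk H0PBC Groth.Agent.AcycFin
open Groth.Agent.Hensel (Henz Nbhd)

attribute [local instance] EtFound.pull_preservesFiniteLimits

variable (V : Type u) [CommRing V] [IsDomain V] [ValuationRing V] (Ω : Type u) [Field Ω] [IsAlgClosed Ω]
  [Algebra V Ω] [IsFractionRing V Ω]

/-- Every point of the line over the closed point has vanishing. -/
theorem vanishes_of_over (ℓ : ℕ) (hℓ : ℓ.Prime) (hℓV : IsUnit (ℓ : V)) {K : Type u} [Field K] [IsAlgClosed K]
    (φ : V[X] →+* K) (hφ : RingHom.ker (φ.comp C) = maximalIdeal V) : Vanishes V Ω ℓ φ := by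
  let ρ : V →+* K := φ.comp C
  haveI := isIntegrallyClosed_valuationRing V
  haveI := isAlgClosed_residueField_val (V := V) Ω
  by_cases hP : RingHom.ker φ = (maximalIdeal V).map (C : V →+* V[X])
  · exact subsingleton_H_one_generic V Ω (PtField φ) hP ℓ hℓ hℓV
  have hle : (maximalIdeal V).map (C : V →+* V[X]) ≤ RingHom.ker φ :=
    Ideal.map_le_iff_le_comap.2 fun v hv => RingHom.mem_ker.2 (RingHom.mem_ker.1 (hφ.ge hv))
  obtain ⟨f, hf, hfn⟩ := SetLike.exists_of_lt (lt_of_le_of_ne hle (Ne.symm hP))
  let ρ' : ResidueField V →+* K :=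
    Ideal.Quotient.lift (maximalIdeal V) ρ fun v hv => RingHom.mem_ker.1 (hφ.ge hv)
  have hres : ρ'.comp (residue V) = ρ := RingHom.ext fun _ => rfl
  have hfne : f.map (residue V) ≠ 0 := fun h0 => hfn (by
    show f ∈ (maximalIdeal V).map (C : V →+* V[X])
    rw [Ideal.mem_map_C_iff]
    intro n
    rw [← residue_eq_zero_iff, ← coeff_map, h0, coeff_zero])
  have hroot : ((f.map (residue V)).map ρ').IsRoot (φ X) := by
    rw [IsRoot, Polynomial.map_map, hres, Polynomial.eval_map, ← RingHom.mem_ker.1 hf]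
    exact (congrArg (fun r : V[X] →+* K => r f) (Polynomial.ringHom_ext (f := eval₂RingHom ρ (φ X)) (g := φ)
      (fun v => eval₂_C _ _) (eval₂_X _ _)) : _)
  obtain ⟨r, hr⟩ := Polynomial.Splits.mem_range_of_isRoot (IsAlgClosed.splits (f.map (residue V)))
    hfne (i := ρ') hroot
  obtain ⟨a, rfl⟩ := residue_surjective r
  have e : φ = (evalRingHom (ρ a)).comp (mapRingHom ρ) := by
    refine Polynomial.ringHom_ext (fun v => ?_) ?_
    · show φ (C v) = eval (ρ a) ((C v).map ρ)
      rw [Polynomial.map_C, eval_C]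
      rfl
    · show φ X = eval (ρ a) (Polynomial.map ρ X)
      rw [Polynomial.map_X, eval_X, ← hr]
      rfl
  rw [e]
  exact vanishes_closed V Ω ℓ hℓ hℓV ρ hφ a

/-- Classes on étale schemes over the line die at all points of the closed fibre. -/
theorem killed_valuation (ℓ : ℕ) (hℓ : ℓ.Prime) (hℓV : IsUnit (ℓ : V)) (E : Type u) [CommRing E] [Algebra V[X] E]
    [Algebra.Etale V[X] E] {T : Scheme.{u}} (g : T ⟶ Spec (CommRingCat.of E)) (t : T ⟶ Spec (CommRingCat.of Ω))
    (hT : IsPullback g t (Spec.map (CommRingCat.ofHom ((algebraMap V[X] E).comp C)))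
      (Spec.map (CommRingCat.ofHom (algebraMap V Ω))))
    (ξ : EtCoh.H T (EtCoh.const T (ZMod ℓ)) 1) (q : Spec (CommRingCat.of E))
    (hq : q.asIdeal.comap ((algebraMap V[X] E).comp C) = maximalIdeal V) : Killed g ξ q := by
  haveI : IsAffineHom g := MorphismProperty.of_isPullback (P := @IsAffineHom) hT.flip inferInstance
  let κ := q.asIdeal.ResidueField
  let K := AlgebraicClosure κ
  let π : E →+* K := (algebraMap κ K).comp (algebraMap E κ)
  have hπ : RingHom.ker π = q.asIdeal := by
    rw [RingHom.ker_comp_of_injective _ (RingHom.injective _)]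
    exact Ideal.ker_algebraMap_residueField _
  let φ : V[X] →+* K := π.comp (algebraMap V[X] E)
  have hv := vanishes_of_over V Ω ℓ hℓ hℓV φ (by
    rw [show φ.comp C = π.comp ((algebraMap V[X] E).comp C) from RingHom.comp_assoc _ _ _, ← RingHom.comap_ker, hπ]
    exact hq)
  let F := PtField φ
  letI : Algebra E F := π.toAlgebra
  haveI : IsScalarTower V[X] E F := .of_algebraMap_eq' rfl
  let W := Henz E F
  haveI : IsSepClosed (ResidueField W) := EtFound.isSepClosed_residue_henz' E F
  let h := henzHom E F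
  have hx : h (closedPoint W) = q := PrimeSpectrum.ext ((henzHom_closedPoint E F).trans hπ)
  rw [← hx]
  refine killed_of_Kc_zero (henzModel E F) g (ZMod ℓ) 1 ξ ?_
  obtain ⟨ψ, hψ⟩ := bijective_henzMap (B := V[X]) (A := E) (K := F)
  let i := Spec.map (CommRingCat.ofHom ψ.toRingHom)
  haveI : IsIso i := by
    show IsIso (Spec.map ψ.toCommRingCatIso.hom)
    infer_instance
  let σ := Spec.map (CommRingCat.ofHom (algebraMap V Ω))
  let pE := Spec.map (CommRingCat.ofHom ((algebraMap V[X] E).comp C))
  have e : i ≫ lineHom V φ = ym (𝟙 _) W ≫ pE := by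
    simp only [lineHom, henzHom, H0PBC.ym, Category.comp_id, i, pE]
    rw [← Spec.map_comp, ← Spec.map_comp, ← Spec.map_comp, ← CommRingCat.ofHom_comp, ← CommRingCat.ofHom_comp,
      ← CommRingCat.ofHom_comp, ← RingHom.comp_assoc, hψ, RingHom.comp_assoc]
  let j : pullback (ym (𝟙 (Spec (CommRingCat.of E))) W ≫ pE) σ ⟶ pullback (lineHom V φ) σ :=
    pullback.map _ _ _ _ i (𝟙 _) (𝟙 _) (by rw [Category.comp_id, e]) (by simp)
  have h1 := PBCThm.subsingleton_congr (EtCore.pullConst j (ZMod ℓ)) 1
    (ClosedAffAcyc.subsingleton_of_isIso j _ 1 hv)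
  have c := (IsPullback.of_hasPullback (ym (𝟙 (Spec (CommRingCat.of E))) W) g).paste_vert hT
  have h2 := PBCThm.subsingleton_congr (EtCore.pullConst c.isoPullback.hom (ZMod ℓ)) 1
    (ClosedAffAcyc.subsingleton_of_isIso c.isoPullback.hom _ 1 h1)
  exact h2.elim _ _

end Groth.Agent.SmoothLA
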