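import Groth.Agent.SmoothLA.Stagewise
import Groth.Agent.SmoothLA.ValCase
import Groth.Agent.SmoothLA.CoreProper

/-!
# Squares for extended algebras over the affine line
-/

set_option autoImplicit false
set_option linter.unusedSectionVars false
set_option linter.style.haveILetI false
set_option backward.isDefEq.respectTransparency false
set_option backward.isDefEq.respectTransparency.types false
set_option maxHeartbeats 800000

universe u

open CategoryTheory CategoryTheory.Limits AlgebraicGeometry Opposite TensorProduct Polynomial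

noncomputable section

namespace Groth.Agent.SmoothLA

open Groth.Agent.H23.P1Charts Groth.Agent.P1Rigid

variable {R : Type u} [CommRing R] (A : Type u) [CommRing A] [Algebra R A] {Ω : Type u} [CommRing Ω] [Algebra R Ω]

/-- The projection to the coefficients. -/
abbrev pBm (B : Type u) [CommRing B] [Algebra R B] : Spec (CommRingCat.of (A ⊗[R] B)) ⟶ Spec (CommRingCat.of B) :=
  Spec.map (CommRingCat.ofHom (Algebra.TensorProduct.includeRight (R := R) (A := A) (B := B)).toRingHom)

/-- The projection to the algebra. -/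
abbrev pAm (B : Type u) [CommRing B] [Algebra R B] : Spec (CommRingCat.of (A ⊗[R] B)) ⟶ Spec (CommRingCat.of A) :=
  Spec.map (CommRingCat.ofHom (Algebra.TensorProduct.includeLeftRingHom (R := R) (A := A) (B := B)))

theorem isPullback_pAm (B : Type u) [CommRing B] [Algebra R B] :
    IsPullback (pAm (R := R) A B) (pBm (R := R) A B) (Spec.map (CommRingCat.ofHom (algebraMap R A)))
      (Spec.map (CommRingCat.ofHom (algebraMap R B))) :=
  isPullback_SpecMap_of_isPushout _ _ _ _ (CommRingCat.isPushout_tensorProduct R A B)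

theorem gA_pAm (B : Subalgebra R Ω) : gA A B ≫ pAm (R := R) A B = pAm (R := R) A Ω := by
  rw [← Spec.map_comp, ← CommRingCat.ofHom_comp]
  refine congrArg Spec.map (CommRingCat.hom_ext (RingHom.ext fun a => ?_))
  show valA A B (a ⊗ₜ (1 : B)) = a ⊗ₜ (1 : Ω)
  rw [Algebra.TensorProduct.map_tmul]
  rfl

theorem hA_pAm {B B' : Subalgebra R Ω} (h : B ≤ B') : hA A h ≫ pAm (R := R) A B = pAm (R := R) A B' := by
  rw [← Spec.map_comp, ← CommRingCat.ofHom_comp]
  refine congrArg Spec.map (CommRingCat.hom_ext (RingHom.ext fun a => ?_))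
  show incA A h (a ⊗ₜ (1 : B)) = a ⊗ₜ (1 : B')
  rw [Algebra.TensorProduct.map_tmul]
  rfl

theorem valA_includeRight (B : Subalgebra R Ω) :
    (valA A B).toRingHom.comp (Algebra.TensorProduct.includeRight (R := R) (A := A) (B := B)).toRingHom =
      (Algebra.TensorProduct.includeRight (R := R) (A := A) (B := Ω)).toRingHom.comp B.val.toRingHom :=
  RingHom.ext fun b => by
    show valA A B ((1 : A) ⊗ₜ b) = (1 : A) ⊗ₜ (b : Ω)
    rw [Algebra.TensorProduct.map_tmul]
    rfl

theorem gA_pBm (B : Subalgebra R Ω) :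
    gA A B ≫ pBm (R := R) A B = pBm (R := R) A Ω ≫ Spec.map (CommRingCat.ofHom B.val.toRingHom) := by
  rw [← Spec.map_comp, ← Spec.map_comp, ← CommRingCat.ofHom_comp, ← CommRingCat.ofHom_comp, valA_includeRight]

theorem isPullback_gA (B : Subalgebra R Ω) :
    IsPullback (gA A B) (pBm (R := R) A Ω) (pBm (R := R) A B) (Spec.map (CommRingCat.ofHom B.val.toRingHom)) := by
  refine IsPullback.of_right (h₁₂ := pAm (R := R) A B) (h₂₂ := Spec.map (CommRingCat.ofHom (algebraMap R B)))
    (v₁₃ := Spec.map (CommRingCat.ofHom (algebraMap R A))) ?_ (gA_pBm A B) (isPullback_pAm (R := R) A B)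
  rw [gA_pAm, show Spec.map (CommRingCat.ofHom B.val.toRingHom) ≫ Spec.map (CommRingCat.ofHom (algebraMap R B)) =
    Spec.map (CommRingCat.ofHom (algebraMap R Ω)) by
      rw [← Spec.map_comp, ← CommRingCat.ofHom_comp]
      exact congrArg Spec.map (CommRingCat.hom_ext B.val.comp_algebraMap)]
  exact isPullback_pAm (R := R) A Ω

theorem incA_tmul {B B' : Subalgebra R Ω} (h : B ≤ B') (a : A) (b : B) :
    incA A h (a ⊗ₜ b) = a ⊗ₜ Subalgebra.inclusion h b := Algebra.TensorProduct.map_tmul _ _ _ _

/-- A map to an extended algebra is surjective as soon as it hits the generators. -/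
theorem surjective_of_gens {L : Type u} [CommRing L] (B' : Subalgebra R Ω) (f : L →+* A ⊗[R] B') (s : Set Ω)
    (hs : B' = Algebra.adjoin R s) (hA' : ∀ a : A, ∃ l, f l = a ⊗ₜ 1)
    (hB : ∀ y (hy : y ∈ s), ∃ l, f l = (1 : A) ⊗ₜ ⟨y, hs ▸ Algebra.subset_adjoin hy⟩) : Function.Surjective f := by
  have key : ∀ y (hy : y ∈ B'), ∃ l, f l = (1 : A) ⊗ₜ (⟨y, hy⟩ : B') := by
    subst hs
    intro y hy
    induction hy using Algebra.adjoin_induction with
    | mem x hx => exact hB x hx
    | algebraMap r =>
      obtain ⟨l, hl⟩ := hA' (algebraMap R A r)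
      refine ⟨l, hl.trans ?_⟩
      rw [Algebra.algebraMap_eq_smul_one, TensorProduct.smul_tmul]
      refine congrArg _ (Subtype.ext ?_)
      exact (Algebra.algebraMap_eq_smul_one r).symm
    | add x y hx hy ihx ihy =>
      obtain ⟨l, hl⟩ := ihx
      obtain ⟨m, hm⟩ := ihy
      exact ⟨l + m, by rw [map_add, hl, hm, ← TensorProduct.tmul_add]; rfl⟩
    | mul x y hx hy ihx ihy =>
      obtain ⟨l, hl⟩ := ihx
      obtain ⟨m, hm⟩ := ihy
      exact ⟨l * m, by rw [map_mul, hl, hm, Algebra.TensorProduct.tmul_mul_tmul, mul_one]; rfl⟩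
  intro z
  induction z using TensorProduct.induction_on with
  | zero => exact ⟨0, map_zero _⟩
  | tmul a b =>
    obtain ⟨l, hl⟩ := hA' a
    obtain ⟨m, hm⟩ := key b b.2
    exact ⟨l * m, by rw [map_mul, hl, hm, Algebra.TensorProduct.tmul_mul_tmul, mul_one, one_mul]⟩
  | add x y hx hy =>
    obtain ⟨l, hl⟩ := hx
    obtain ⟨m, hm⟩ := hy
    exact ⟨l + m, by rw [map_add, hl, hm]⟩

variable [Algebra R[X] A] [IsScalarTower R R[X] A] [Algebra.Etale R[X] A]

theorem flat_of_etale : Module.Flat R A := Module.Flat.trans R R[X] A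

theorem smooth_pBm (B : Type u) [CommRing B] [Algebra R B] : Smooth (pBm (R := R) A B) := by
  refine MorphismProperty.of_isPullback (P := @Smooth) (isPullback_pAm (R := R) A B) ?_
  refine (HasRingHomProperty.Spec_iff (P := @Smooth)).2 ?_
  haveI : Algebra.Smooth R R[X] := ⟨inferInstance, inferInstance⟩
  exact RingHom.smooth_algebraMap.2 (Algebra.Smooth.comp R R[X] A)

/-- The structure map from the line over the coefficients. -/
abbrev lineA (B : Type u) [CommRing B] [Algebra R B] : B[X] →+* A ⊗[R] B :=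
  eval₂RingHom (Algebra.TensorProduct.includeRight (R := R) (A := A) (B := B)).toRingHom
    (algebraMap R[X] A Polynomial.X ⊗ₜ 1)

theorem etale_lineA (B : Type u) [CommRing B] [Algebra R B] : (lineA (R := R) A B).Etale := by
  let g := algebraMap R B
  have w : (lineA (R := R) A B).comp (mapRingHom g) =
      (Algebra.TensorProduct.includeLeftRingHom (R := R) (A := A) (B := B)).comp (algebraMap R[X] A) := by
    refine Polynomial.ringHom_ext (fun r => ?_) ?_
    · show eval₂ _ _ ((C r).map g) = algebraMap R[X] A (C r) ⊗ₜ (1 : B)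
      rw [Polynomial.map_C, eval₂_C, ← Polynomial.algebraMap_eq, ← IsScalarTower.algebraMap_apply]
      exact (AlgHom.commutes _ r).trans (Algebra.TensorProduct.algebraMap_apply r)
    · show eval₂ _ _ (Polynomial.map g Polynomial.X) = algebraMap R[X] A Polynomial.X ⊗ₜ (1 : B)
      rw [Polynomial.map_X, eval₂_X]
  have sq : IsPullback (pAm (R := R) A B) (Spec.map (CommRingCat.ofHom (lineA (R := R) A B)))
      (Spec.map (CommRingCat.ofHom (algebraMap R[X] A))) (Spec.map (CommRingCat.ofHom (mapRingHom g))) := by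
    refine IsPullback.of_bot (v₂₁ := Spec.map (CommRingCat.ofHom (C : B →+* B[X])))
      (v₂₂ := Spec.map (CommRingCat.ofHom (C : R →+* R[X]))) (h₃₁ := Spec.map (CommRingCat.ofHom g)) ?_ ?_
      (isPullback_SpecMap_of_isPushout _ _ _ _ (isPushout_map R B g)).flip
    · have e1 : Spec.map (CommRingCat.ofHom (lineA (R := R) A B)) ≫ Spec.map (CommRingCat.ofHom (C : B →+* B[X])) = pBm (R := R) A B := by
        rw [← Spec.map_comp, ← CommRingCat.ofHom_comp]
        exact congrArg Spec.map (CommRingCat.hom_ext (RingHom.ext fun b => eval₂_C _ _))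
      have e2 : Spec.map (CommRingCat.ofHom (algebraMap R[X] A)) ≫ Spec.map (CommRingCat.ofHom (C : R →+* R[X])) =
          Spec.map (CommRingCat.ofHom (algebraMap R A)) := by
        rw [← Spec.map_comp, ← CommRingCat.ofHom_comp, IsScalarTower.algebraMap_eq R R[X] A]
        rfl
      rw [e1, e2]
      exact isPullback_pAm (R := R) A B
    · rw [← Spec.map_comp, ← Spec.map_comp, ← CommRingCat.ofHom_comp, ← CommRingCat.ofHom_comp, w]
  haveI : Etale (Spec.map (CommRingCat.ofHom (algebraMap R[X] A))) :=
    (HasRingHomProperty.Spec_iff (P := @Etale)).2 (RingHom.etale_algebraMap.2 ‹_›)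
  exact (HasRingHomProperty.Spec_iff (P := @Etale)).1 (MorphismProperty.of_isPullback (P := @Etale) sq ‹_›)

end Groth.Agent.SmoothLA
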