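import Groth.Agent.SmoothLA.SpecMaps
import Groth.Agent.SmoothLA.Special
import Groth.Agent.S0754

/-!
# Specialization maps for proper locally acyclic morphisms
-/

set_option autoImplicit false
set_option linter.unusedSectionVars false
set_option linter.style.haveILetI false
set_option backward.isDefEq.respectTransparency false
set_option backward.isDefEq.respectTransparency.types false

universe u

open CategoryTheory CategoryTheory.Limits AlgebraicGeometry IsLocalRing

noncomputable section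

namespace Groth.Agent.SmoothLA

open Groth.Agent.AcycFin RpushStalk BcQCalc

attribute [local instance] EtFound.pull_preservesFiniteLimits

variable {S X : Scheme.{u}} (f : X ⟶ S) [IsProper f]

/-- Pullback between the fibres over two strict localizations. -/
theorem bijective_Hpull_specFib {R₁ R₂ : Type u} [CommRing R₁] [HenselianLocalRing R₁] [IsSepClosed (ResidueField R₁)]
    [CommRing R₂] [HenselianLocalRing R₂] [IsSepClosed (ResidueField R₂)]
    (h₁ : Spec (CommRingCat.of R₁) ⟶ S) (h₂ : Spec (CommRingCat.of R₂) ⟶ S)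
    (ρ : Spec (CommRingCat.of R₂) ⟶ Spec (CommRingCat.of R₁)) (hρ : ρ ≫ h₁ = h₂)
    (L : Set ℕ) (n : ℕ) (hf : EtAcyc.IsLocAcyclicN (pullback.fst h₁ f) L n)
    (F : EtCoh.Ab X) (hF : EtAcyc.IsLTorsion L F) (hlc : EtRest.IsLocallyConstant F) :
    (∀ q, q ≤ n → Function.Bijective
      (EtCore.Hpull (specFib f ρ hρ) ((EtCoh.pull (pullback.snd h₁ f)).obj F) q)) ∧
    Function.Injective (EtCore.Hpull (specFib f ρ hρ) ((EtCoh.pull (pullback.snd h₁ f)).obj F) (n + 1)) := by
  let G := (EtCoh.pull (pullback.snd h₁ f)).obj F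
  have hG : EtAcyc.IsLTorsion L G := EtAcycLib.isLTorsion_pull _ hF
  have hGlc : EtRest.IsLocallyConstant G := (S6642.result _).1 F hlc
  let K := AlgebraicClosure (ResidueField R₂)
  let ψ : R₂ →+* K := (algebraMap (ResidueField R₂) K).comp (residue R₂)
  haveI : IsLocalHom ψ := ⟨fun a ha => by
    by_contra hn
    refine ha.ne_zero ?_
    show algebraMap (ResidueField R₂) K (residue R₂ a) = 0
    rw [(residue_eq_zero_iff a).2 hn, map_zero]⟩
  haveI : IsSepClosed (ResidueField K) :=
    isSepClosed_of_equiv (RingEquiv.ofBijective (residue K) ⟨RingHom.injective _, residue_surjective⟩)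
  let f₁ := pullback.fst h₁ f
  let pt : Spec (CommRingCat.of K) ⟶ Spec (CommRingCat.of R₁) := Spec.map (CommRingCat.ofHom ψ) ≫ ρ
  let y : Spec (CommRingCat.of R₁) := pt (closedPoint K)
  let j : (Spec (CommRingCat.of R₁)).residueField y →+* K :=
    ((Spec (CommRingCat.of R₁)).descResidueField (Scheme.stalkClosedPointTo pt)).hom
  let Ω := AlgebraicClosure ((Spec (CommRingCat.of R₁)).residueField y)
  letI : Algebra ((Spec (CommRingCat.of R₁)).residueField y) K := j.toAlgebra
  let i : Ω →ₐ[(Spec (CommRingCat.of R₁)).residueField y] K := IsAlgClosed.lift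
  let g := EtAcyc.geomPt (Spec (CommRingCat.of R₁)) y Ω
  have hi : Spec.map (CommRingCat.ofHom i.toRingHom) ≫ g = pt := by
    show _ ≫ Spec.map _ ≫ _ = _
    rw [← Category.assoc, ← Spec.map_comp, ← CommRingCat.ofHom_comp,
      show i.toRingHom.comp (algebraMap _ Ω) = j from i.comp_algebraMap]
    exact Scheme.descResidueField_stalkClosedPointTo_fromSpecResidueField K _ pt
  let a := pullback.fst f₁ pt
  -- through the algebraic geometric fibre
  let e : pullback f₁ pt ⟶ pullback f₁ g :=
    pullback.lift a (pullback.snd f₁ pt ≫ Spec.map (CommRingCat.ofHom i.toRingHom))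
      (by rw [Category.assoc, hi]; exact pullback.condition)
  have he : e ≫ pullback.fst f₁ g = a := pullback.lift_fst _ _ _
  have ce : IsPullback e (pullback.snd f₁ pt) (pullback.snd f₁ g) (Spec.map (CommRingCat.ofHom i.toRingHom)) := by
    refine IsPullback.of_right ?_ (pullback.lift_snd _ _ _) (IsPullback.of_hasPullback f₁ g)
    rw [he, hi]
    exact IsPullback.of_hasPullback f₁ pt
  -- through the second strict localization
  let m := specFib f ρ hρ
  have cm : IsPullback m (pullback.fst h₂ f) f₁ ρ := by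
    refine IsPullback.of_right ?_ (specFib_fst f ρ hρ) (IsPullback.of_hasPullback h₁ f).flip
    rw [specFib_snd, hρ]
    exact (IsPullback.of_hasPullback h₂ f).flip
  let b : pullback f₁ pt ⟶ pullback h₂ f :=
    pullback.lift (pullback.snd f₁ pt ≫ Spec.map (CommRingCat.ofHom ψ)) (a ≫ pullback.snd h₁ f) (by
      rw [Category.assoc, Category.assoc, ← pullback.condition (f := h₁) (g := f), ← hρ, ← Category.assoc a,
        pullback.condition (f := f₁) (g := pt)]
      simp only [pt, Category.assoc])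
  have hb : b ≫ m = a := by
    refine pullback.hom_ext ?_ ?_
    · rw [Category.assoc, specFib_fst, ← Category.assoc, pullback.lift_fst, Category.assoc]
      exact (pullback.condition (f := f₁) (g := pt)).symm
    · rw [Category.assoc, specFib_snd, pullback.lift_snd]
  have cb : IsPullback b (pullback.snd f₁ pt) (pullback.fst h₂ f) (Spec.map (CommRingCat.ofHom ψ)) := by
    refine IsPullback.of_right ?_ (pullback.lift_fst _ _ _) cm
    rw [hb]
    exact IsPullback.of_hasPullback f₁ pt
  obtain ⟨s1, s2⟩ := bijective_Hpull_geomFibre R₁ f₁ L n hf G hG hGlc y Ω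
  have hbb := fun q => PBCThm.bijective_Hpull_henselian ψ (pullback.fst h₂ f) (pullback.snd f₁ pt) b cb
    ((EtCoh.pull m).obj G) (isTorsion_of_isLTorsion (EtAcycLib.isLTorsion_pull m hG)) q
  have hee := fun q => PBCThm.bijective_Hpull_sepClosed' i.toRingHom ce ((EtCoh.pull (pullback.fst f₁ g)).obj G)
    (isTorsion_of_isLTorsion (EtAcycLib.isLTorsion_pull _ hG)) q
  have c1 := fun q => EtAcycLib.bijective_Hpull_comp_iff e (pullback.fst f₁ g) a he G q
  have c2 := fun q => EtAcycLib.bijective_Hpull_comp_iff b m a hb G q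
  exact ⟨fun q hq => (Function.Bijective.of_comp_iff' (hbb q) _).1
      ((c2 q).1.1 ((c1 q).1.2 ((hee q).comp (s1 q hq)))),
    ((c2 (n + 1)).2.1 ((c1 (n + 1)).2.2 ((hee (n + 1)).1.comp s2))).of_comp⟩

omit [IsProper f] in
/-- The fibre over a strict localization is locally acyclic. -/
theorem isLocAcyclicN_strictBase (s : S) (R : Type u) [CommRing R] [IsLocalRing R] [Algebra (S.presheaf.stalk s) R]
    [IsLocalHom (algebraMap (S.presheaf.stalk s) R)] [_root_.Hensel.IsStrictHenselization (S.presheaf.stalk s) R]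
    {L : Set ℕ} {n : ℕ} (hf : EtAcyc.IsLocAcyclicN f L n) :
    EtAcyc.IsLocAcyclicN (pullback.fst (Hens2.specOf S s R) f) L n := by
  haveI : WeaklyEtale (Hens2.specOf S s R) := S0754.result _ s R
  haveI : WeaklyEtale (pullback.snd (Hens2.specOf S s R) f) :=
    MorphismProperty.pullback_snd (P := @WeaklyEtale) _ _ ‹_›
  exact onStrict_of_weaklyEtale f _ (pullback.snd (Hens2.specOf S s R) f) (Hens2.specOf S s R)
    pullback.condition.symm hf

/-- Specialization maps of higher direct images along proper locally acyclic morphisms. -/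
theorem bijective_specialization (L : Set ℕ) (n : ℕ) (hf : EtAcyc.IsLocAcyclicN f L n)
    (F : EtCoh.Ab X) (hF : EtAcyc.IsLTorsion L F) (hlc : EtRest.IsLocallyConstant F)
    (Ω Ω' : Type u) [Field Ω] [IsSepClosed Ω] [Field Ω'] [IsSepClosed Ω']
    (ξ : Spec (CommRingCat.of Ω) ⟶ S) (ξ' : Spec (CommRingCat.of Ω') ⟶ S)
    (φ : Scheme.pointSmallEtale ξ' ⟶ Scheme.pointSmallEtale ξ) :
    (∀ q, q ≤ n → Function.Bijective
      ((GrothendieckTopology.Point.Hom.sheafFiber (A := AddCommGrpCat.{u + 1}) φ).app ((EtCoh.Rpush f q).obj F))) ∧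
    Function.Injective
      ((GrothendieckTopology.Point.Hom.sheafFiber (A := AddCommGrpCat.{u + 1}) φ).app ((EtCoh.Rpush f (n + 1)).obj F)) := by
  let x₁ := ξ (closedPoint Ω)
  let x₂ := ξ' (closedPoint Ω')
  obtain ⟨R₁, _, _, _, _, hR₁⟩ := exists_strictHens (S.presheaf.stalk x₁)
  obtain ⟨R₂, _, _, _, _, hR₂⟩ := exists_strictHens (S.presheaf.stalk x₂)
  haveI := hR₁
  haveI := hR₂
  haveI : HenselianLocalRing R₁ := _root_.Hensel.IsStrictHenselization.henselian (R := S.presheaf.stalk x₁)
  haveI : HenselianLocalRing R₂ := _root_.Hensel.IsStrictHenselization.henselian (R := S.presheaf.stalk x₂)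
  haveI : IsSepClosed (ResidueField R₁) :=
    (_root_.Hensel.IsStrictHenselization.isSepClosure (R := S.presheaf.stalk x₁) (S := R₁)).sep_closed
  haveI : IsSepClosed (ResidueField R₂) :=
    (_root_.Hensel.IsStrictHenselization.isSepClosure (R := S.presheaf.stalk x₂) (S := R₂)).sep_closed
  obtain ⟨D₁⟩ := exists_model S x₁ R₁
  obtain ⟨D₂⟩ := exists_model S x₂ R₂
  obtain ⟨l₁, hl₁⟩ := exists_fac_geomPt ξ R₁
  obtain ⟨l₂, hl₂⟩ := exists_fac_geomPt ξ' R₂
  let h₁ := Hens2.specOf S x₁ R₁
  let h₂ := Hens2.specOf S x₂ R₂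
  let θ₁ : Scheme.pointSmallEtale ξ ≅ Scheme.pointSmallEtale (EtFound.cpt R₁ ≫ h₁) :=
    eqToIso (congrArg (fun p => Scheme.pointSmallEtale p) hl₁.symm) ≪≫ EtFound.pointExtIso _ l₁
  let θ₂ : Scheme.pointSmallEtale ξ' ≅ Scheme.pointSmallEtale (EtFound.cpt R₂ ≫ h₂) :=
    eqToIso (congrArg (fun p => Scheme.pointSmallEtale p) hl₂.symm) ≪≫ EtFound.pointExtIso _ l₂
  let φ' := θ₂.inv ≫ φ ≫ θ₁.hom
  obtain ⟨ρ, hρ, hφ⟩ := exists_specialization_lift D₁ φ'
  obtain ⟨b1, b2⟩ := bijective_Hpull_specFib f h₁ h₂ ρ hρ L n (isLocAcyclicN_strictBase f x₁ R₁ hf) F hF hlc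
  have hcomp : ∀ G : EtCoh.Ab S,
      (GrothendieckTopology.Point.Hom.sheafFiber (A := AddCommGrpCat.{u + 1}) φ).app G =
        (GrothendieckTopology.Point.Hom.sheafFiber (A := AddCommGrpCat.{u + 1}) θ₁.inv).app G ≫
        (GrothendieckTopology.Point.Hom.sheafFiber (A := AddCommGrpCat.{u + 1}) φ').app G ≫
        (GrothendieckTopology.Point.Hom.sheafFiber (A := AddCommGrpCat.{u + 1}) θ₂.hom).app G := fun G => by
    rw [← NatTrans.comp_app, ← NatTrans.comp_app, ← GrothendieckTopology.Point.Hom.sheafFiber_comp,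
      ← GrothendieckTopology.Point.Hom.sheafFiber_comp]
    simp [φ']
  haveI : ∀ G, IsIso ((GrothendieckTopology.Point.Hom.sheafFiber (A := AddCommGrpCat.{u + 1}) θ₁.inv).app G) :=
    fun G => ⟨(GrothendieckTopology.Point.Hom.sheafFiber (A := AddCommGrpCat.{u + 1}) θ₁.hom).app G,
      by rw [← NatTrans.comp_app, ← GrothendieckTopology.Point.Hom.sheafFiber_comp, θ₁.hom_inv_id,
        GrothendieckTopology.Point.Hom.sheafFiber_id]; rfl,
      by rw [← NatTrans.comp_app, ← GrothendieckTopology.Point.Hom.sheafFiber_comp, θ₁.inv_hom_id,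
        GrothendieckTopology.Point.Hom.sheafFiber_id]; rfl⟩
  haveI : ∀ G, IsIso ((GrothendieckTopology.Point.Hom.sheafFiber (A := AddCommGrpCat.{u + 1}) θ₂.hom).app G) :=
    fun G => ⟨(GrothendieckTopology.Point.Hom.sheafFiber (A := AddCommGrpCat.{u + 1}) θ₂.inv).app G,
      by rw [← NatTrans.comp_app, ← GrothendieckTopology.Point.Hom.sheafFiber_comp, θ₂.inv_hom_id,
        GrothendieckTopology.Point.Hom.sheafFiber_id]; rfl,
      by rw [← NatTrans.comp_app, ← GrothendieckTopology.Point.Hom.sheafFiber_comp, θ₂.hom_inv_id,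
        GrothendieckTopology.Point.Hom.sheafFiber_id]; rfl⟩
  have hcrit := fun q => bijective_sheafFiber_iff f ρ hρ φ' hφ D₁ D₂ F q
  refine ⟨fun q hq => ?_, ?_⟩
  · rw [hcomp]
    show Function.Bijective (⇑((GrothendieckTopology.Point.Hom.sheafFiber (A := AddCommGrpCat.{u + 1}) θ₂.hom).app _) ∘
      ⇑((GrothendieckTopology.Point.Hom.sheafFiber (A := AddCommGrpCat.{u + 1}) φ').app _) ∘
      ⇑((GrothendieckTopology.Point.Hom.sheafFiber (A := AddCommGrpCat.{u + 1}) θ₁.inv).app _))
    exact (ConcreteCategory.bijective_of_isIso _).comp (((hcrit q).1.2 (b1 q hq)).comp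
      (ConcreteCategory.bijective_of_isIso _))
  · rw [hcomp]
    show Function.Injective (⇑((GrothendieckTopology.Point.Hom.sheafFiber (A := AddCommGrpCat.{u + 1}) θ₂.hom).app _) ∘
      ⇑((GrothendieckTopology.Point.Hom.sheafFiber (A := AddCommGrpCat.{u + 1}) φ').app _) ∘
      ⇑((GrothendieckTopology.Point.Hom.sheafFiber (A := AddCommGrpCat.{u + 1}) θ₁.inv).app _))
    exact (ConcreteCategory.bijective_of_isIso _).1.comp (((hcrit (n + 1)).2.2 b2).comp
      (ConcreteCategory.bijective_of_isIso _).1)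

end Groth.Agent.SmoothLA
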