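import Groth.Agent.BcQStalk5.Chi
import Groth.Agent.EtFound.PointHom

/-!
# Specialization maps of higher direct images
-/

set_option autoImplicit false
set_option linter.unusedSectionVars false
set_option linter.unusedVariables false
set_option linter.style.haveILetI false
set_option backward.isDefEq.respectTransparency false
set_option backward.isDefEq.respectTransparency.types false

universe u

open CategoryTheory CategoryTheory.Limits AlgebraicGeometry Opposite Abelian IsLocalRing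

noncomputable section

namespace Groth.Agent.SmoothLA

open RpushStalk BcQCalc H0PBC H0FBC EtLim8
open Groth.Agent.Hensel (Henz Nbhd NbhdCat)

attribute [local instance] EtFound.pull_preservesFiniteLimits

/-- A compatible family of maps on the stages descends to the colimit. -/
theorem exists_ringHom_of_isColim {ι : Type*} {A : Type u} [CommRing A] {G : ι → Type u} [∀ i, CommRing (G i)]
    [∀ i, Algebra A (G i)] {R : Type u} [CommRing R] [Algebra A R] {g : ∀ i, G i →ₐ[A] R}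
    (hG : DirColim.IsColim g) {C : Type u} [CommRing C] (θ : ∀ i, G i →+* C)
    (hθ : ∀ i j (φ : DirColim.Trans g i j) x, θ j (φ.1 x) = θ i x) :
    ∃ χ : R →+* C, ∀ i x, χ (g i x) = θ i x := by
  choose i x hx using hG.surj
  have key : ∀ a b (y : G a) (z : G b), g a y = g b z → θ a y = θ b z := fun a b y z hyz => by
    obtain ⟨k, ⟨α⟩, ⟨β⟩⟩ := hG.directed a b
    obtain ⟨l, γ, hγ⟩ := hG.ker k (α.1 y - β.1 z) (by rw [map_sub, α.apply, β.apply, hyz, sub_self])
    rw [← hθ a k α, ← hθ b k β, ← hθ k l γ, ← hθ k l γ (β.1 z), ← sub_eq_zero, ← map_sub, ← map_sub, hγ, map_zero]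
  let χ : R → C := fun r => θ (i r) (x r)
  have hχ : ∀ a y, χ (g a y) = θ a y := fun a y => key _ _ _ _ (hx _)
  have hop : ∀ r s, ∃ a y z, g a y = r ∧ g a z = s := fun r s => by
    obtain ⟨k, ⟨α⟩, ⟨β⟩⟩ := hG.directed (i r) (i s)
    exact ⟨k, α.1 (x r), β.1 (x s), by rw [α.apply, hx], by rw [β.apply, hx]⟩
  refine ⟨{ toFun := χ
            map_one' := (congrArg χ (map_one (g (i 1))).symm).trans ((hχ _ 1).trans (map_one _))
            map_zero' := (congrArg χ (map_zero (g (i 0))).symm).trans ((hχ _ 0).trans (map_zero _))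
            map_mul' := fun r s => ?_
            map_add' := fun r s => ?_ }, hχ⟩
  · obtain ⟨a, y, z, rfl, rfl⟩ := hop r s
    rw [← map_mul (g a), hχ, hχ, hχ, map_mul]
  · obtain ⟨a, y, z, rfl, rfl⟩ := hop r s
    rw [← map_add (g a), hχ, hχ, hχ, map_add]

/-- Restriction along a composite, through the unit. -/
theorem res_via {T P Q : Scheme.{u}} (r : P ⟶ T) (m : Q ⟶ P) (r' : Q ⟶ T) (hw : m ≫ r = r') (G : EtCoh.Ab T)
    (V : T.Etale) (W : P.Etale) (W₂ : Q.Etale) (a : W.left ⟶ V.left) (wa : a ≫ V.hom = W.hom ≫ r)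
    (b : W₂.left ⟶ W.left) (wb : b ≫ W.hom = W₂.hom ≫ m) (e : W₂.left ⟶ V.left)
    (we : e ≫ V.hom = W₂.hom ≫ r') (he : b ≫ a = e) (s : G.obj.obj (op V)) :
    res m ((EtCoh.pullPushAdj m).homEquiv _ _ (viaK m hw G (𝟙 ((EtCoh.pull r').obj G)))) b wb
        (res r ((EtCoh.pullPushAdj r).unit.app G) a wa s) =
      res r' ((EtCoh.pullPushAdj r').unit.app G) e we s := by
  refine (compat_aux m hw G (𝟙 _) V W W₂ a wa b wb e we he s).trans ?_
  exact congrArg (fun l => res r' l e we s) ((EtCoh.pullPushAdj r').homEquiv_id G)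

variable {S : Scheme.{u}} {R₁ : Type u} [CommRing R₁] [HenselianLocalRing R₁] [IsSepClosed (ResidueField R₁)]
  {h₁ : Spec (CommRingCat.of R₁) ⟶ S} {R₂ : Type u} [CommRing R₂] [HenselianLocalRing R₂]
  [IsSepClosed (ResidueField R₂)] {h₂ : Spec (CommRingCat.of R₂) ⟶ S}

/-- Morphisms of points come from morphisms of strict localizations. -/
theorem exists_specialization_lift (D : Model S R₁ h₁)
    (φ : Scheme.pointSmallEtale (EtFound.cpt R₂ ≫ h₂) ⟶ Scheme.pointSmallEtale (EtFound.cpt R₁ ≫ h₁)) :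
    ∃ ρ : Spec (CommRingCat.of R₂) ⟶ Spec (CommRingCat.of R₁), ρ ≫ h₁ = h₂ ∧
      ∀ (U : S.Etale) (v : (Scheme.pointSmallEtale (EtFound.cpt R₁ ≫ h₁)).fiber.obj U),
        lift h₂ U (φ.hom.app U v) = ρ ≫ lift h₁ U v := by
  obtain ⟨B, Ω, ι, e', fac⟩ := D
  subst fac
  let D : Model S R₁ (ym ι R₁) := ⟨B, Ω, ι, e', rfl⟩
  let P := Scheme.pointSmallEtale (EtFound.cpt R₁ ≫ ym ι R₁)
  let q : ∀ N : Nbhd B Ω, Spec (CommRingCat.of R₂) ⟶ Spec (CommRingCat.of N.B) := fun N =>
    lift h₂ (stageEt ι N.B) (φ.hom.app _ (D.pt N))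
  obtain ⟨χ, hχ⟩ := exists_ringHom_of_isColim D.isColim (fun N => (Spec.preimage (q N)).hom) (fun N M α y => by
    have hpt : P.fiber.map (stageMap ι α.1) (D.pt M) = D.pt N := by
      apply CategoryTheory.Over.OverMorphism.ext
      show (EtFound.cpt R₁ ≫ Spec.map (CommRingCat.ofHom (D.gR M).toRingHom)) ≫
        Spec.map (CommRingCat.ofHom α.1.toRingHom) = EtFound.cpt R₁ ≫ Spec.map (CommRingCat.ofHom (D.gR N).toRingHom)
      rw [Category.assoc, ← Spec.map_comp, ← CommRingCat.ofHom_comp]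
      have e1 : (D.gR M).toRingHom.comp α.1.toRingHom = (D.gR N).toRingHom := RingHom.ext fun b => α.apply b
      rw [e1]
    have hq : q N = q M ≫ (stageMap ι α.1).left := by
      show lift h₂ _ (φ.hom.app _ (D.pt N)) = _
      rw [← hpt, NatTrans.naturality_apply φ.hom (stageMap ι α.1) (D.pt M)]
      exact lift_map h₂ _ _ _
    have h3 : Spec.preimage (q N) = CommRingCat.ofHom α.1.toRingHom ≫ Spec.preimage (q M) := by
      apply Spec.map_injective
      rw [Spec.map_comp, Spec.map_preimage, Spec.map_preimage]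
      exact hq
    rw [h3]
    rfl)
  let ρ := Spec.map (CommRingCat.ofHom χ)
  have hρ : ∀ N : Nbhd B Ω, ρ ≫ Spec.map (CommRingCat.ofHom (D.gR N).toRingHom) = q N := fun N => by
    rw [← Spec.map_comp, ← Spec.map_preimage (q N)]
    exact congrArg Spec.map (CommRingCat.hom_ext (RingHom.ext fun y => hχ N y))
  obtain ⟨N₀, -, -⟩ := D.isColim.surj 0
  refine ⟨ρ, ?_, fun U v => ?_⟩
  · rw [show ym ι R₁ = Spec.map (CommRingCat.ofHom (D.gR N₀).toRingHom) ≫ ym ι N₀.B from (spec_map_ym ι _).symm,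
      ← Category.assoc, hρ]
    exact lift_w h₂ _ _
  · obtain ⟨N, k, rfl⟩ := D.exists_stage U v
    rw [NatTrans.naturality_apply φ.hom k (D.pt N)]
    refine (lift_map h₂ _ _ k).trans ?_
    refine Eq.trans ?_ (congrArg (ρ ≫ ·) (lift_map (ym ι R₁) _ (D.pt N) k)).symm
    refine (congrArg (· ≫ k.left) (hρ N).symm).trans ((Category.assoc _ _ _).trans ?_)
    exact congrArg (fun r => ρ ≫ r ≫ k.left) (D.lift_pt N).symm

section square

variable {T : Scheme.{u}} (f : T ⟶ S) (ρ : Spec (CommRingCat.of R₂) ⟶ Spec (CommRingCat.of R₁)) (hρ : ρ ≫ h₁ = h₂)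

/-- The morphism between the fibres over two strict localizations. -/
def specFib : pullback h₂ f ⟶ pullback h₁ f :=
  pullback.lift (pullback.fst h₂ f ≫ ρ) (pullback.snd h₂ f) (by rw [Category.assoc, hρ, pullback.condition])

theorem specFib_fst : specFib f ρ hρ ≫ pullback.fst h₁ f = pullback.fst h₂ f ≫ ρ := pullback.lift_fst _ _ _

theorem specFib_snd : specFib f ρ hρ ≫ pullback.snd h₁ f = pullback.snd h₂ f := pullback.lift_snd _ _ _

/-- Comparison of the two restrictions. -/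
def specK (G : EtCoh.Ab T) :
    (EtCoh.pull (specFib f ρ hρ)).obj ((EtCoh.pull (pullback.snd h₁ f)).obj G) ⟶
      (EtCoh.pull (pullback.snd h₂ f)).obj G :=
  viaK (specFib f ρ hρ) (specFib_snd f ρ hρ) G (𝟙 _)

instance (G : EtCoh.Ab T) : IsIso (specK f ρ hρ G) := isIso_viaK _ _ G _

/-- Comparison of the restricted towers. -/
def specTower (U : Tower (EtCoh.Ab T)) :
    Tower.Hom ((U.map (EtCoh.pull (pullback.snd h₁ f))).map (EtCoh.pull (specFib f ρ hρ)))
      (U.map (EtCoh.pull (pullback.snd h₂ f))) where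
  z j := specK f ρ hρ (U.Z j)
  x j := specK f ρ hρ (U.X j)
  comm_i j := viaK_naturality _ _ (U.i j) (𝟙 _) (𝟙 _) _ (by simp)
  comm_p j := viaK_naturality _ _ (U.p j) (𝟙 _) (𝟙 _) _ (by simp)

variable (φ : Scheme.pointSmallEtale (EtFound.cpt R₂ ≫ h₂) ⟶ Scheme.pointSmallEtale (EtFound.cpt R₁ ≫ h₁))
  (hφ : ∀ (U : S.Etale) (v : (Scheme.pointSmallEtale (EtFound.cpt R₁ ≫ h₁)).fiber.obj U),
        lift h₂ U (φ.hom.app U v) = ρ ≫ lift h₁ U v)

include hφ in
theorem toBcLift_spec (U : S.Etale) (v : (Scheme.pointSmallEtale (EtFound.cpt R₁ ≫ h₁)).fiber.obj U) :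
    toBcLift h₂ U (φ.hom.app U v) f = specFib f ρ hρ ≫ toBcLift h₁ U v f := by
  refine pullback.hom_ext ?_ ?_
  · rw [Category.assoc]
    refine (pullback.lift_fst _ _ _).trans (Eq.trans ?_ (congrArg (specFib f ρ hρ ≫ ·) (pullback.lift_fst _ _ _)).symm)
    rw [hφ, ← Category.assoc, ← Category.assoc, specFib_fst]
  · rw [Category.assoc]
    exact (pullback.lift_snd _ _ _).trans (Eq.trans (specFib_snd f ρ hρ).symm
      (congrArg (specFib f ρ hρ ≫ ·) (pullback.lift_snd _ _ _)).symm)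

theorem specK_eq (G : EtCoh.Ab T) : specK f ρ hρ G = viaK (specFib f ρ hρ) (specFib_snd f ρ hρ) G (𝟙 _) := rfl

theorem H_spec (G : EtCoh.Ab T) (V : T.Etale) (W : (pullback h₁ f).Etale) (W₂ : (pullback h₂ f).Etale)
      (a : W.left ⟶ V.left) (wa : a ≫ V.hom = W.hom ≫ pullback.snd h₁ f)
      (b : W₂.left ⟶ W.left) (wb : b ≫ W.hom = W₂.hom ≫ specFib f ρ hρ) (e : W₂.left ⟶ V.left)
      (we : e ≫ V.hom = W₂.hom ≫ pullback.snd h₂ f) (he : b ≫ a = e) (s : G.obj.obj (op V)) :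
      res (specFib f ρ hρ) ((EtCoh.pullPushAdj (specFib f ρ hρ)).homEquiv _ _ (specK f ρ hρ G)) b wb
          (res (pullback.snd h₁ f) ((EtCoh.pullPushAdj (pullback.snd h₁ f)).unit.app G) a wa s) =
        res (pullback.snd h₂ f) ((EtCoh.pullPushAdj (pullback.snd h₂ f)).unit.app G) e we s := by
  rw [specK_eq]
  exact res_via (pullback.snd h₁ f) (specFib f ρ hρ) (pullback.snd h₂ f) (specFib_snd f ρ hρ) G V W W₂ a wa b wb e we he s

theorem phiHom_spec_aux {G : EtCoh.Ab T} (m : pullback h₂ f ⟶ pullback h₁ f)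
    (L : (EtCoh.pull (pullback.snd h₁ f)).obj G ⟶ (EtCoh.push m).obj ((EtCoh.pull (pullback.snd h₂ f)).obj G))
    (H : ∀ (V : T.Etale) (W : (pullback h₁ f).Etale) (W₂ : (pullback h₂ f).Etale)
      (a : W.left ⟶ V.left) (wa : a ≫ V.hom = W.hom ≫ pullback.snd h₁ f)
      (b : W₂.left ⟶ W.left) (wb : b ≫ W.hom = W₂.hom ≫ m) (e : W₂.left ⟶ V.left)
      (we : e ≫ V.hom = W₂.hom ≫ pullback.snd h₂ f), b ≫ a = e → ∀ s : G.obj.obj (op V),
      res m L b wb (res (pullback.snd h₁ f) ((EtCoh.pullPushAdj (pullback.snd h₁ f)).unit.app G) a wa s) =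
        res (pullback.snd h₂ f) ((EtCoh.pullPushAdj (pullback.snd h₂ f)).unit.app G) e we s)
    (U : S.Etale) (v : (Scheme.pointSmallEtale (EtFound.cpt R₁ ≫ h₁)).fiber.obj U)
    (t : (Scheme.pointSmallEtale (EtFound.cpt R₂ ≫ h₂)).fiber.obj U)
    (hd : m ≫ toBcLift h₁ U v f = toBcLift h₂ U t f) (s : G.obj.obj (op ((EtCoh.bc f).obj U))) :
    phiHom h₂ f G U t s =
      res m L (V := EtCoh.top (pullback h₁ f)) (W := EtCoh.top (pullback h₂ f)) m (top_w m)
        (phiHom h₁ f G U v s) :=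
  (H _ (EtCoh.top (pullback h₁ f)) (EtCoh.top (pullback h₂ f)) (toBcLift h₁ U v f) (toBcLift_w h₁ U v f)
    m (top_w m) (toBcLift h₂ U t f) (toBcLift_w h₂ U t f) hd s).symm

include hφ in
theorem phiHom_spec (G : EtCoh.Ab T) (U : S.Etale)
    (v : (Scheme.pointSmallEtale (EtFound.cpt R₁ ≫ h₁)).fiber.obj U) (s : G.obj.obj (op ((EtCoh.bc f).obj U))) :
    phiHom h₂ f G U (φ.hom.app U v) s =
      res (specFib f ρ hρ) ((EtCoh.pullPushAdj (specFib f ρ hρ)).homEquiv _ _ (specK f ρ hρ G))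
        (V := EtCoh.top (pullback h₁ f)) (W := EtCoh.top (pullback h₂ f)) (specFib f ρ hρ) (top_w _)
        (phiHom h₁ f G U v s) :=
  phiHom_spec_aux f (specFib f ρ hρ) _ (H_spec f ρ hρ G) U v (φ.hom.app U v) (toBcLift_spec f ρ hρ φ hφ U v).symm s

include hφ in
theorem phiApp_spec (G : EtCoh.Ab T) (z : (EtCoh.stalk (EtFound.cpt R₁ ≫ h₁)).obj ((EtCoh.push f).obj G)) :
    phiApp h₂ f G ((GrothendieckTopology.Point.Hom.sheafFiber (A := AddCommGrpCat.{u + 1}) φ).app
        ((EtCoh.push f).obj G) z) =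
      res (specFib f ρ hρ) ((EtCoh.pullPushAdj (specFib f ρ hρ)).homEquiv _ _ (specK f ρ hρ G))
        (V := EtCoh.top (pullback h₁ f)) (W := EtCoh.top (pullback h₂ f)) (specFib f ρ hρ) (top_w _)
        (phiApp h₁ f G z) := by
  obtain ⟨U, v, s, rfl⟩ := (Scheme.pointSmallEtale (EtFound.cpt R₁ ≫ h₁)).toPresheafFiber_jointly_surjective
    (P := ((EtCoh.push f).obj G).obj) z
  exact ((congrArg (phiApp h₂ f G) (EtFound.sheafFiber_germ φ ((EtCoh.push f).obj G) v s)).trans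
    (phiApp_germ h₂ f G U _ s)).trans ((phiHom_spec f ρ hρ φ hφ G U v s).trans
      (congrArg _ (phiApp_germ h₁ f G U v s).symm))

include hφ in
/-- The cycle-level specialization square. -/
theorem sigma_spec (F : EtCoh.Ab T) (q : ℕ)
    (z : (EtCoh.stalk (EtFound.cpt R₁ ≫ h₁)).obj ((EtCoh.push f).obj ((tw F).Z q))) :
    sigma h₂ f F q ((GrothendieckTopology.Point.Hom.sheafFiber (A := AddCommGrpCat.{u + 1}) φ).app _ z) =
      EtLim.HpullThen (specFib f ρ hρ) ((twPull h₁ f F).Z 0) (specK f ρ hρ ((tw F).Z 0)) q (sigma h₁ f F q z) := by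
  refine Eq.trans ?_ (HpullThen_cl (specFib f ρ hρ) q (twPull h₁ f F) (twPull_isExact h₁ f F)
    (twPull h₂ f F) (twPull_isExact h₂ f F) (specTower f ρ hρ (tw F))
    (gm _ (phiApp h₁ f ((tw F).Z q) z))).symm
  refine congrArg (cl q (twPull h₂ f F) (twPull_isExact h₂ f F)) ?_
  exact ((HpullThen_gm (specFib f ρ hρ) _ _).trans
    (congrArg (gm _) (phiApp_spec f ρ hρ φ hφ ((tw F).Z q) z).symm)).symm

include hφ in
/-- The specialization map is pullback between strict localizations. -/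
theorem bijective_sheafFiber_iff (D₁ : Model S R₁ h₁) (D₂ : Model S R₂ h₂) [QuasiCompact f] [QuasiSeparated f]
    (F : EtCoh.Ab T) (q : ℕ) :
    (Function.Bijective ((GrothendieckTopology.Point.Hom.sheafFiber (A := AddCommGrpCat.{u + 1}) φ).app
        ((EtCoh.Rpush f q).obj F)) ↔
      Function.Bijective (EtCore.Hpull (specFib f ρ hρ) ((EtCoh.pull (pullback.snd h₁ f)).obj F) q)) ∧
    (Function.Injective ((GrothendieckTopology.Point.Hom.sheafFiber (A := AddCommGrpCat.{u + 1}) φ).app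
        ((EtCoh.Rpush f q).obj F)) ↔
      Function.Injective (EtCore.Hpull (specFib f ρ hρ) ((EtCoh.pull (pullback.snd h₁ f)).obj F) q)) := by
  let sp := (GrothendieckTopology.Point.Hom.sheafFiber (A := AddCommGrpCat.{u + 1}) φ)
  let c₁ := BcQStalk5.chi f D₁ F q
  let c₂ := BcQStalk5.chi f D₂ F q
  let k := specK f ρ hρ F
  let κ := fun x : EtCoh.H (pullback h₂ f)
      ((EtCoh.pull (specFib f ρ hρ)).obj ((EtCoh.pull (pullback.snd h₁ f)).obj F)) q =>
    x.comp (Ext.mk₀ k) (add_zero q)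
  have hκ : Function.Bijective κ := EtAcycLib.bijective_comp_mk₀ (asIso k)
  have hsq : c₂ ∘ ⇑(sp.app ((EtCoh.Rpush f q).obj F)) =
      κ ∘ ⇑(EtCore.Hpull (specFib f ρ hρ) ((EtCoh.pull (pullback.snd h₁ f)).obj F) q) ∘ c₁ := by
    funext y
    obtain ⟨z, rfl⟩ := piStalk_surjective h₁ f F q y
    have n1 : sp.app ((EtCoh.Rpush f q).obj F) (piStalk h₁ f F q z) = piStalk h₂ f F q (sp.app _ z) :=
      ConcreteCategory.congr_hom (sp.naturality (pic (EtCoh.push f) F q)) z
    have n2 : (EtCoh.pull (specFib f ρ hρ)).map ((EtCoh.pull (pullback.snd h₁ f)).map (inv (aug F))) ≫ k =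
        specK f ρ hρ ((tw F).Z 0) ≫ (EtCoh.pull (pullback.snd h₂ f)).map (inv (aug F)) :=
      viaK_naturality _ _ (inv (aug F)) (𝟙 _) (𝟙 _) _ (by simp)
    show c₂ _ = κ (EtCore.Hpull _ _ q (c₁ _))
    rw [n1]
    refine (BcQStalk5.chi_pi f D₂ F q _).trans ?_
    show _ = (EtCore.Hpull _ _ q (c₁ _)).comp (Ext.mk₀ k) (add_zero q)
    rw [show c₁ _ = _ from BcQStalk5.chi_pi f D₁ F q z, sigma_spec f ρ hρ φ hφ, EtLim8.HpullThen_apply,
      S8536.Hpull_comp_mk₀, Ext.comp_assoc_of_third_deg_zero, Ext.comp_assoc_of_third_deg_zero, Ext.mk₀_comp_mk₀,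
      Ext.mk₀_comp_mk₀, n2]
  have hc₁ := BcQStalk5.bijective_chi f D₁ F q
  have hc₂ := BcQStalk5.bijective_chi f D₂ F q
  constructor
  · rw [← Function.Bijective.of_comp_iff' hc₂, hsq, Function.Bijective.of_comp_iff' hκ,
      Function.Bijective.of_comp_iff _ hc₁]
  · refine (⟨fun H => hc₂.1.comp H, fun H => H.of_comp⟩ :
      Function.Injective (sp.app ((EtCoh.Rpush f q).obj F)) ↔ Function.Injective (c₂ ∘ ⇑(sp.app ((EtCoh.Rpush f q).obj F)))).trans ?_
    rw [hsq]
    exact ⟨fun H => (Function.Injective.of_comp H).of_comp_right hc₁.2, fun H => hκ.1.comp (H.comp hc₁.1)⟩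

end square

end Groth.Agent.SmoothLA
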