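import Groth.Agent.SmoothLA.KillDef
import Groth.Agent.RpushStalk.Main
import Groth.Agent.S0646

/-!
# Classes at a strict localization come from étale neighbourhoods
-/

set_option autoImplicit false
set_option linter.unusedSectionVars false
set_option linter.style.haveILetI false
set_option backward.isDefEq.respectTransparency false
set_option backward.isDefEq.respectTransparency.types false

universe u

open CategoryTheory CategoryTheory.Limits AlgebraicGeometry Opposite Abelian IsLocalRing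

noncomputable section

namespace Groth.Agent.SmoothLA

open Groth.Agent.AcycFin Groth.Agent.RpushStalk H0PBC H0FBC
open Groth.Agent.Hensel (Henz Nbhd NbhdCat)

attribute [local instance] EtFound.pull_preservesFiniteLimits

variable {S T : Scheme.{u}} {W : Type u} [CommRing W] {h : Spec (CommRingCat.of W) ⟶ S} (D : Model S W h)
  (f : T ⟶ S) [QuasiCompact f] [QuasiSeparated f] (M : Type) [AddCommGroup M] (q : ℕ)

/-- Every class over the strict localization comes from a neighbourhood. -/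
theorem exists_stage_class (y : EtCoh.H (PB f D.ι W) (EtCoh.const (PB f D.ι W) M) q) :
    ∃ (N : Nbhd D.B D.Ω) (z : EtCoh.H (PB f D.ι N.B) (EtCoh.const (PB f D.ι N.B) M) q),
      Kc (pmap f D.ι (D.gR N)) M q z = y := by
  obtain ⟨α, _, _, _, F, _⟩ := IsFiltered.exists_directed (NbhdCat D.B D.Ω)
  haveI : Nonempty α := IsFiltered.nonempty
  let Xs := D.stages f F
  let c := D.cone f F
  have haff : ∀ ⦃a b : αᵒᵖ⦄ (g : a ⟶ b), IsAffineHom (Xs.map g) := fun a b g => D.isAffineHom_stages f F g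
  haveI : ∀ a, PreservesFiniteLimits (EtCoh.pull (c.π.app a)) := fun a => EtFound.pull_preservesFiniteLimits _
  haveI : ∀ ⦃a b : αᵒᵖ⦄ (g : a ⟶ b), PreservesFiniteLimits (EtCoh.pull (Xs.map g)) :=
    fun a b g => EtFound.pull_preservesFiniteLimits _
  let i₀ := Classical.arbitrary α
  obtain ⟨j, hj, ξj, hξj⟩ := (S0646.result Xs haff
    (fun a => QuasiCompact.compactSpace_of_compactSpace (pullback.fst (ym D.ι (F.obj a.unop).N.B) f))
    (fun a => quasiSeparatedSpace_of_quasiSeparated (pullback.fst (ym D.ι (F.obj a.unop).N.B) f))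
    c (D.isLimitCone f F) i₀ (EtCoh.const _ M) q).1
    (y.comp (Ext.mk₀ (EtCore.pullConst (c.π.app (op i₀)) M).inv) (add_zero q))
  have hz := congrArg (fun r => Ext.comp r (Ext.mk₀ (EtCore.pullConst (c.π.app (op i₀)) M).hom) (add_zero q)) hξj
  simp only [Ext.comp_assoc_of_third_deg_zero, Ext.mk₀_comp_mk₀, Iso.inv_hom_id, Ext.comp_mk₀_id] at hz
  rw [Kc_HpullVia] at hz
  exact ⟨(F.obj j).N, _, hz⟩

/-- A class dying over the strict localization dies on a neighbourhood. -/
theorem killed_of_Kc_zero [IsLocalRing W] (ξ : EtCoh.H T (EtCoh.const T M) q)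
    (h0 : Kc (pullback.snd (ym D.ι W) f) M q ξ = 0) : Killed f ξ (h (closedPoint W)) := by
  obtain ⟨α, _, _, _, F, _⟩ := IsFiltered.exists_directed (NbhdCat D.B D.Ω)
  haveI : Nonempty α := IsFiltered.nonempty
  let Xs := D.stages f F
  let c := D.cone f F
  have haff : ∀ ⦃a b : αᵒᵖ⦄ (g : a ⟶ b), IsAffineHom (Xs.map g) := fun a b g => D.isAffineHom_stages f F g
  haveI : ∀ a, PreservesFiniteLimits (EtCoh.pull (c.π.app a)) := fun a => EtFound.pull_preservesFiniteLimits _
  haveI : ∀ ⦃a b : αᵒᵖ⦄ (g : a ⟶ b), PreservesFiniteLimits (EtCoh.pull (Xs.map g)) :=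
    fun a b g => EtFound.pull_preservesFiniteLimits _
  let i₀ := Classical.arbitrary α
  let s : ∀ a : α, Xs.obj (op a) ⟶ T := fun a => pullback.snd (ym D.ι (F.obj a).N.B) f
  let m₀ := Xs.map (homOfLE (le_refl i₀)).op
  let ξj := (Kc (s i₀) M q ξ).comp (Ext.mk₀ (EtCore.pullConst m₀ M).inv) (add_zero q)
  have e0 : ξj.comp (Ext.mk₀ (EtCore.pullConst m₀ M).hom) (add_zero q) = Kc (s i₀) M q ξ := by
    simp only [ξj, Ext.comp_assoc_of_third_deg_zero, Ext.mk₀_comp_mk₀, Iso.inv_hom_id, Ext.comp_mk₀_id]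
  have hvia : EtCore.HpullVia (c.π.app (op i₀)) m₀ (c.π.app (op i₀)) (c.w (homOfLE (le_refl i₀)).op)
      (EtCoh.const _ M) q ξj = 0 := by
    refine (EtAcycLib.bijective_comp_mk₀ (n := q) (EtCore.pullConst (c.π.app (op i₀)) M)).1 ?_
    refine Eq.trans ?_ (Ext.zero_comp ..).symm
    dsimp only
    rw [Kc_HpullVia, e0, Kc_comp (c.π.app (op i₀)) (s i₀) (pullback.snd (ym D.ι W) f) (pmap_snd f D.ι _), h0]
  obtain ⟨k, hk, hkz⟩ := (S0646.result Xs haff
    (fun a => QuasiCompact.compactSpace_of_compactSpace (pullback.fst (ym D.ι (F.obj a.unop).N.B) f))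
    (fun a => quasiSeparatedSpace_of_quasiSeparated (pullback.fst (ym D.ι (F.obj a.unop).N.B) f))
    c (D.isLimitCone f F) i₀ (EtCoh.const _ M) q).2 i₀ (le_refl i₀) ξj hvia
  have hk0 : Kc (s k) M q ξ = 0 := by
    rw [← Kc_comp (Xs.map (homOfLE hk).op) (s i₀) (s k) (pmap_snd f D.ι _), ← e0, Kc, S8536.Hpull_comp_mk₀, hkz,
      Ext.zero_comp, Ext.zero_comp]
  let N := (F.obj k).N
  haveI : AlgebraicGeometry.Etale (ym D.ι N.B) := (stageEt D.ι N.B).prop
  refine killed_of f ξ (ym D.ι N.B) ⟨Spec.map (CommRingCat.ofHom (D.gR N).toRingHom) (closedPoint W), ?_⟩ (s k)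
    (pullback.fst _ _) (IsPullback.of_hasPullback _ _) hk0
  rw [← Scheme.Hom.comp_apply, spec_map_ym, D.fac]

end Groth.Agent.SmoothLA
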