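import Groth.Agent.SmoothLA.KillDef
import Mathlib.RingTheory.Smooth.NoetherianDescent
import Mathlib.RingTheory.Flat.Basic
import Mathlib.Algebra.Algebra.Subalgebra.Directed

/-!
# Killedness along directed unions of coefficient rings
-/

set_option autoImplicit false
set_option linter.unusedSectionVars false
set_option linter.style.haveILetI false
set_option backward.isDefEq.respectTransparency false
set_option backward.isDefEq.respectTransparency.types false

set_option maxHeartbeats 800000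

universe u

open CategoryTheory CategoryTheory.Limits AlgebraicGeometry Opposite Abelian TensorProduct

noncomputable section

namespace Groth.Agent.SmoothLA

open Groth.Agent.AcycFin

attribute [local instance] EtFound.pull_preservesFiniteLimits

/-- A neighbourhood which is a base change kills downstairs. -/
theorem killed_push {X X' T V₀ V' : Scheme.{u}} {M : Type} [AddCommGroup M] {q : ℕ} (g : T ⟶ X) (h : X' ⟶ X)
    (g' : T ⟶ X') (w : g' ≫ h = g) (ξ : EtCoh.H T (EtCoh.const T M) q) (v₀ : V₀ ⟶ X) [Etale v₀] (v' : V' ⟶ X')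
    (k : V' ⟶ V₀) (sq : IsPullback k v' v₀ h) (x' : X') (hx : x' ∈ Set.range v'.base)
    (hz : Kc (pullback.snd v' g') M q ξ = 0) : Killed g ξ (h x') := by
  obtain ⟨z, rfl⟩ := hx
  refine killed_of g ξ v₀ ⟨k z, ?_⟩ (pullback.snd v' g') (pullback.fst v' g' ≫ k) ?_ hz
  · rw [← Scheme.Hom.comp_apply, sq.w, Scheme.Hom.comp_apply]
  · have := (IsPullback.of_hasPullback v' g').paste_horiz sq
    rwa [w] at this

/-- An étale algebra defined over a subring gives a neighbourhood over every intermediate ring. -/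
theorem killed_descend {C C₁ A₀ E E₀ D : Type u} [CommRing C] [CommRing C₁] [CommRing A₀] [CommRing E] [CommRing E₀]
    [CommRing D] [Algebra A₀ C] [Algebra A₀ E₀] [Algebra.Etale A₀ E₀] [Algebra C E] (e : E ≃ₐ[C] C ⊗[A₀] E₀)
    (ι₀ : A₀ →+* C₁) (ψ : C₁ →+* C) (hψ : ψ.comp ι₀ = algebraMap A₀ C) (γ : C →+* D) (γ₁ : C₁ →+* D)
    (hγ : γ.comp ψ = γ₁) {M : Type} [AddCommGroup M] {n : ℕ}
    (ξ : EtCoh.H (Spec (CommRingCat.of D)) (EtCoh.const _ M) n) (x : Spec (CommRingCat.of C))
    (hx : x ∈ Set.range (Spec.map (CommRingCat.ofHom (algebraMap C E))).base)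
    (hz : Kc (pullback.snd (Spec.map (CommRingCat.ofHom (algebraMap C E))) (Spec.map (CommRingCat.ofHom γ))) M n ξ = 0) :
    Killed (Spec.map (CommRingCat.ofHom γ₁)) ξ (Spec.map (CommRingCat.ofHom ψ) x) := by
  subst hγ
  let v₀ := Spec.map (CommRingCat.ofHom (algebraMap A₀ E₀))
  haveI : Etale v₀ := (HasRingHomProperty.Spec_iff (P := @Etale)).2 (RingHom.etale_algebraMap.2 ‹_›)
  let εr : C ⊗[A₀] E₀ ≃+* E := e.symm.toRingEquiv
  let k₀ : Spec (CommRingCat.of E) ⟶ Spec (CommRingCat.of E₀) :=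
    Spec.map (CommRingCat.ofHom (εr.toRingHom.comp
      (Algebra.TensorProduct.includeRight (R := A₀) (A := C) (B := E₀)).toRingHom))
  let v' := Spec.map (CommRingCat.ofHom (algebraMap C E))
  have sqE : IsPullback k₀ v' v₀ (Spec.map (CommRingCat.ofHom (algebraMap A₀ C))) := by
    refine (isPullback_SpecMap_of_isPushout _ _ _ _ (CommRingCat.isPushout_tensorProduct A₀ C E₀)).flip.of_iso
      (asIso (Spec.map εr.toCommRingCatIso.hom)).symm (Iso.refl _) (Iso.refl _) (Iso.refl _)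
      ?_ ?_ (by simp [v₀]) (by simp)
    · simp only [Iso.refl_hom, Category.comp_id, Iso.symm_hom, asIso_inv, IsIso.eq_inv_comp, k₀]
      rw [← Spec.map_comp]
      rfl
    · simp only [Iso.refl_hom, Category.comp_id, Iso.symm_hom, asIso_inv, IsIso.eq_inv_comp, v']
      rw [← Spec.map_comp]
      refine congrArg Spec.map (CommRingCat.hom_ext (RingHom.ext fun z => ?_))
      exact e.symm.commutes z
  let sι := Spec.map (CommRingCat.ofHom ι₀)
  let h := Spec.map (CommRingCat.ofHom ψ)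
  have eB : h ≫ sι = Spec.map (CommRingCat.ofHom (algebraMap A₀ C)) := by
    rw [← Spec.map_comp, ← CommRingCat.ofHom_comp, hψ]
  let k₁ : Spec (CommRingCat.of E) ⟶ pullback v₀ sι :=
    pullback.lift k₀ (v' ≫ h) (by rw [sqE.w, Category.assoc, eB])
  have sq₁ : IsPullback k₁ v' (pullback.snd v₀ sι) h := by
    refine IsPullback.of_right ?_ (pullback.lift_snd _ _ _) (IsPullback.of_hasPullback v₀ sι)
    rw [pullback.lift_fst, eB]
    exact sqE
  haveI : Etale (pullback.snd v₀ sι) := MorphismProperty.pullback_snd (P := @Etale) _ _ ‹_›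
  exact killed_push _ h (Spec.map (CommRingCat.ofHom γ)) (by rw [← Spec.map_comp, ← CommRingCat.ofHom_comp]) ξ
    (pullback.snd v₀ sι) v' k₁ sq₁ x hx hz

variable {R : Type u} [CommRing R]

/-- Primes of a tensor product over given primes. -/
theorem exists_prime_over (A B : Type u) [CommRing A] [CommRing B] [Algebra R A] [Algebra R B]
    (p : PrimeSpectrum A) (p' : PrimeSpectrum B)
    (h : p.asIdeal.comap (algebraMap R A) = p'.asIdeal.comap (algebraMap R B)) :
    ∃ q : PrimeSpectrum (A ⊗[R] B),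
      q.asIdeal.comap (Algebra.TensorProduct.includeLeftRingHom (R := R) (A := A) (B := B)) = p.asIdeal ∧
      q.asIdeal.comap (Algebra.TensorProduct.includeRight (R := R) (A := A) (B := B)).toRingHom = p'.asIdeal := by
  obtain ⟨q, h₁, h₂⟩ := Scheme.exists_preimage_of_isPullback
    (isPullback_SpecMap_of_isPushout _ _ _ _ (CommRingCat.isPushout_tensorProduct R A B)) p p' (PrimeSpectrum.ext h)
  exact ⟨q, congrArg PrimeSpectrum.asIdeal h₁, congrArg PrimeSpectrum.asIdeal h₂⟩

variable (A : Type u) [CommRing A] [Algebra R A] {Ω : Type u} [CommRing Ω] [Algebra R Ω]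

/-- The map of extended algebras. -/
abbrev incA {B B' : Subalgebra R Ω} (h : B ≤ B') : A ⊗[R] B →ₐ[R] A ⊗[R] B' :=
  Algebra.TensorProduct.map (AlgHom.id R A) (Subalgebra.inclusion h)

/-- The map to the big algebra. -/
abbrev valA (B : Subalgebra R Ω) : A ⊗[R] B →ₐ[R] A ⊗[R] Ω :=
  Algebra.TensorProduct.map (AlgHom.id R A) B.val

theorem valA_incA {B B' : Subalgebra R Ω} (h : B ≤ B') : (valA A B').comp (incA A h) = valA A B :=
  Algebra.TensorProduct.ext' fun a b => by simp [valA, incA]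

theorem incA_incA {B B' B'' : Subalgebra R Ω} (h : B ≤ B') (h' : B' ≤ B'') :
    (incA A h').comp (incA A h) = incA A (h.trans h') :=
  Algebra.TensorProduct.ext' fun a b => by
    simp only [incA, AlgHom.comp_apply, Algebra.TensorProduct.map_tmul, Subalgebra.inclusion_inclusion, AlgHom.id_apply]

theorem valA_injective [Module.Flat R A] (B : Subalgebra R Ω) : Function.Injective (valA A B) :=
  by
  have e : ∀ x : A ⊗[R] B, valA A B x = LinearMap.lTensor A B.val.toLinearMap x := fun x => by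
    induction x using TensorProduct.induction_on with
    | zero => rw [map_zero, map_zero]
    | tmul a b => rw [Algebra.TensorProduct.map_tmul, LinearMap.lTensor_tmul]; rfl
    | add x y hx hy => rw [map_add, map_add, hx, hy]
  have h := Module.Flat.lTensor_preserves_injective_linearMap (M := A) B.val.toLinearMap Subtype.val_injective
  intro x y hxy
  refine h ?_
  rw [← e, ← e, hxy]

/-- The comparison on spectra. -/
abbrev gA (B : Subalgebra R Ω) : Spec (CommRingCat.of (A ⊗[R] Ω)) ⟶ Spec (CommRingCat.of (A ⊗[R] B)) :=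
  Spec.map (CommRingCat.ofHom (valA A B).toRingHom)

/-- The transition maps on spectra. -/
abbrev hA {B B' : Subalgebra R Ω} (h : B ≤ B') : Spec (CommRingCat.of (A ⊗[R] B')) ⟶ Spec (CommRingCat.of (A ⊗[R] B)) :=
  Spec.map (CommRingCat.ofHom (incA A h).toRingHom)

theorem gA_hA {B B' : Subalgebra R Ω} (h : B ≤ B') : gA A B' ≫ hA A h = gA A B := by
  rw [← Spec.map_comp, ← CommRingCat.ofHom_comp]
  exact congrArg (fun f : A ⊗[R] B →ₐ[R] A ⊗[R] Ω => Spec.map (CommRingCat.ofHom f.toRingHom)) (valA_incA A h)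

/-- An increasing family of primes which do not kill has a bound which does not kill. -/
theorem exists_chain_bound [Module.Flat R A] {M : Type} [AddCommGroup M] {n : ℕ}
    (ξ : EtCoh.H (Spec (CommRingCat.of (A ⊗[R] Ω))) (EtCoh.const _ M) n) {ι : Type u} [Nonempty ι]
    (B : ι → Subalgebra R Ω) (q : ∀ i, Spec (CommRingCat.of (A ⊗[R] B i))) (hd : Directed (· ≤ ·) B)
    (hq : ∀ i j (h : B i ≤ B j), hA A h (q j) = q i) (hk : ∀ i, ¬ Killed (gA A (B i)) ξ (q i)) :
    ∃ q' : Spec (CommRingCat.of (A ⊗[R] ↥(iSup B))),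
      (∀ i, hA A (le_iSup B i) q' = q i) ∧ ¬ Killed (gA A (iSup B)) ξ q' := by
  let Bs := iSup B
  let ψ : ∀ i, A ⊗[R] B i →ₐ[R] A ⊗[R] Bs := fun i => incA A (le_iSup B i)
  have hψ : ∀ i, Function.Injective (ψ i) := fun i x y e => valA_injective A (B i) (by
    rw [← valA_incA A (le_iSup B i), AlgHom.comp_apply, AlgHom.comp_apply]
    exact congrArg _ e)
  have hcomp : ∀ i j (h : B i ≤ B j) (z : A ⊗[R] B i), ψ j (incA A h z) = ψ i z := fun i j h z =>
    DFunLike.congr_fun (incA_incA A h (le_iSup B j)) z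
  have hmem : ∀ b : Bs, ∃ i, (b : Ω) ∈ B i := fun b => by
    have hb : (b : Ω) ∈ ((iSup B : Subalgebra R Ω) : Set Ω) := b.2
    rw [Subalgebra.coe_iSup_of_directed hd] at hb
    exact Set.mem_iUnion.1 hb
  have hsurj : ∀ z : A ⊗[R] Bs, ∃ i w, ψ i w = z := by
    intro z
    induction z using TensorProduct.induction_on with
    | zero => exact ⟨Classical.arbitrary ι, 0, map_zero _⟩
    | tmul a b =>
      obtain ⟨i, hi⟩ := hmem b
      exact ⟨i, a ⊗ₜ ⟨b, hi⟩, Algebra.TensorProduct.map_tmul _ _ _ _⟩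
    | add x y hx hy =>
      obtain ⟨i, x', rfl⟩ := hx
      obtain ⟨j, y', rfl⟩ := hy
      obtain ⟨k, hik, hjk⟩ := hd i j
      exact ⟨k, incA A hik x' + incA A hjk y', by rw [map_add, hcomp, hcomp]⟩
  have hqm : ∀ i j (h : B i ≤ B j) (z : A ⊗[R] B i), incA A h z ∈ (q j).asIdeal ↔ z ∈ (q i).asIdeal := by
    intro i j h z
    rw [← hq i j h]
    rfl
  have hwd : ∀ i j (x : A ⊗[R] B i) (y : A ⊗[R] B j), ψ i x = ψ j y → x ∈ (q i).asIdeal → y ∈ (q j).asIdeal := by
    intro i j x y e hx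
    obtain ⟨k, hik, hjk⟩ := hd i j
    have e' : incA A hik x = incA A hjk y := hψ k (by rw [hcomp, hcomp, e])
    rw [← hqm j k hjk, ← e', hqm]
    exact hx
  let P : Ideal (A ⊗[R] Bs) :=
    { carrier := {z | ∃ i w, ψ i w = z ∧ w ∈ (q i).asIdeal}
      zero_mem' := ⟨Classical.arbitrary ι, 0, map_zero _, zero_mem _⟩
      add_mem' := by
        rintro _ _ ⟨i, x, rfl, hx⟩ ⟨j, y, rfl, hy⟩
        obtain ⟨k, hik, hjk⟩ := hd i j
        exact ⟨k, incA A hik x + incA A hjk y, by rw [map_add, hcomp, hcomp],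
          add_mem ((hqm i k hik x).2 hx) ((hqm j k hjk y).2 hy)⟩
      smul_mem' := by
        rintro c _ ⟨i, x, rfl, hx⟩
        obtain ⟨j, c', rfl⟩ := hsurj c
        obtain ⟨k, hjk, hik⟩ := hd j i
        exact ⟨k, incA A hjk c' * incA A hik x, by rw [map_mul, hcomp, hcomp, smul_eq_mul],
          Ideal.mul_mem_left _ _ ((hqm i k hik x).2 hx)⟩ }
  have hPm : ∀ i (w : A ⊗[R] B i), ψ i w ∈ P ↔ w ∈ (q i).asIdeal := fun i w =>
    ⟨fun ⟨j, y, e, hy⟩ => hwd j i y w e hy, fun hw => ⟨i, w, rfl, hw⟩⟩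
  have hP : P.IsPrime := by
    refine ⟨fun h => ?_, fun {x y} hxy => ?_⟩
    · obtain ⟨i⟩ := ‹Nonempty ι›
      refine (q i).2.ne_top ((Ideal.eq_top_iff_one _).2 ((hPm i 1).1 ?_))
      rw [h]
      exact Submodule.mem_top
    · obtain ⟨i, x', rfl⟩ := hsurj x
      obtain ⟨j, y', rfl⟩ := hsurj y
      obtain ⟨k, hik, hjk⟩ := hd i j
      rw [← hcomp i k hik x', ← hcomp j k hjk y', ← map_mul, hPm] at hxy
      rcases (q k).2.mem_or_mem hxy with h | h
      · exact .inl (by rw [← hcomp i k hik x', hPm]; exact h)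
      · exact .inr (by rw [← hcomp j k hjk y', hPm]; exact h)
  let q' : Spec (CommRingCat.of (A ⊗[R] Bs)) := ⟨P, hP⟩
  have hq' : ∀ i, hA A (le_iSup B i) q' = q i := fun i => PrimeSpectrum.ext (Ideal.ext fun w => hPm i w)
  refine ⟨q', hq', ?_⟩
  rintro ⟨V, ⟨v, hv⟩, hV⟩
  haveI : Etale V.hom := V.prop
  obtain ⟨O, hO, hvO, -⟩ :=
    exists_isAffineOpen_mem_and_subset (U := (⊤ : V.left.Opens)) (x := v) trivial
  let E := Γ(V.left, O)
  let o : Spec (CommRingCat.of E) ⟶ V.left := hO.fromSpec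
  obtain ⟨φ, hφ⟩ := Spec.map_surjective (o ≫ V.hom)
  haveI : Etale (Spec.map φ) := by rw [hφ]; infer_instance
  letI : Algebra (A ⊗[R] Bs) E := φ.hom.toAlgebra
  haveI : Algebra.Etale (A ⊗[R] Bs) E := RingHom.etale_algebraMap.1 ((HasRingHomProperty.Spec_iff (P := @Etale)).1 ‹_›)
  obtain ⟨A₀, E₀, _, _, hfg, hE₀, ⟨e⟩⟩ := Algebra.Etale.exists_subalgebra_fg R (A ⊗[R] Bs) E
  obtain ⟨s, hs⟩ := hfg
  obtain ⟨i, hi⟩ : ∃ i, (s : Set (A ⊗[R] Bs)) ⊆ (ψ i).range := by
    classical
    clear hs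
    induction s using Finset.induction_on with
    | empty => exact ⟨Classical.arbitrary ι, by simp⟩
    | insert a s _ ih =>
      obtain ⟨i, hi⟩ := ih
      obtain ⟨j, w, hw⟩ := hsurj a
      obtain ⟨k, hik, hjk⟩ := hd i j
      refine ⟨k, ?_⟩
      rw [Finset.coe_insert, Set.insert_subset_iff]
      refine ⟨⟨incA A hjk w, (hcomp j k hjk w).trans hw⟩, fun z hz => ?_⟩
      obtain ⟨z', hz'⟩ := hi hz
      exact ⟨incA A hik z', (hcomp i k hik z').trans hz'⟩
  have hle : A₀ ≤ (ψ i).range := hs ▸ Algebra.adjoin_le hi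
  let ι₀ : A₀ →ₐ[R] A ⊗[R] B i :=
    (AlgEquiv.ofInjective (ψ i) (hψ i)).symm.toAlgHom.comp (Subalgebra.inclusion hle)
  have hι₀ : (ψ i).toRingHom.comp ι₀.toRingHom = algebraMap A₀ (A ⊗[R] Bs) := RingHom.ext fun a => by
    show ψ i ((AlgEquiv.ofInjective (ψ i) (hψ i)).symm (Subalgebra.inclusion hle a)) = _
    have e := congrArg Subtype.val ((AlgEquiv.ofInjective (ψ i) (hψ i)).apply_symm_apply (Subalgebra.inclusion hle a))
    exact e
  haveI := hE₀
  refine hk i (hq' i ▸ killed_descend (A₀ := ↥A₀) e ι₀.toRingHom (ψ i).toRingHom hι₀ (valA A Bs).toRingHom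
    (valA A (B i)).toRingHom (congrArg AlgHom.toRingHom (valA_incA A (le_iSup B i))) ξ q' ?_ ?_)
  · obtain ⟨z, hz⟩ : v ∈ Set.range o.base := by
      show v ∈ Set.range hO.fromSpec
      rw [hO.range_fromSpec]
      exact hvO
    refine ⟨z, ?_⟩
    show (Spec.map φ) z = q'
    rw [hφ, Scheme.Hom.comp_apply]
    exact (congrArg V.hom hz).trans hv
  · show Kc (pullback.snd (Spec.map φ) (gA A Bs)) M n ξ = 0
    let m : pullback (Spec.map φ) (gA A Bs) ⟶ pullback V.hom (gA A Bs) :=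
      pullback.map _ _ _ _ o (𝟙 _) (𝟙 _) (by rw [hφ, Category.comp_id]) (by simp)
    exact Kc_eq_zero_of_fac m (pullback.snd V.hom (gA A Bs)) _ ((pullback.lift_snd _ _ _).trans (Category.comp_id _))
      n ξ hV

end Groth.Agent.SmoothLA
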