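import Groth.Agent.SmoothLA.Pieces

/-!
# Enlarging the ring of coefficients at a point where a class survives
-/

set_option autoImplicit false
set_option linter.unusedSectionVars false
set_option linter.style.haveILetI false
set_option backward.isDefEq.respectTransparency false
set_option backward.isDefEq.respectTransparency.types false
set_option maxHeartbeats 1600000

universe u

open CategoryTheory CategoryTheory.Limits AlgebraicGeometry Opposite TensorProduct Polynomial IsLocalRing

noncomputable section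

namespace Groth.Agent.SmoothLA

open Groth.Agent.AcycFin Groth.Agent.RpushStalk H0PBC H0FBC Groth.Agent.H23.P1Charts Groth.Agent.P1Rigid
open Groth.Agent.Hensel (Henz)

attribute [local instance] EtFound.pull_preservesFiniteLimits

/-- A strict localization at a given point of an affine scheme. -/
theorem exists_henz_model (S : Type u) [CommRing S] (q : Spec (CommRingCat.of S)) :
    ∃ (W : Type u) (_ : CommRing W) (_ : HenselianLocalRing W) (_ : IsSepClosed (ResidueField W))
      (h : Spec (CommRingCat.of W) ⟶ Spec (CommRingCat.of S)) (_ : WeaklyEtale h)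
      (_ : Model (Spec (CommRingCat.of S)) W h), h (closedPoint W) = q := by
  let K := AlgebraicClosure q.asIdeal.ResidueField
  letI : Algebra S K := ((algebraMap q.asIdeal.ResidueField K).comp (algebraMap S q.asIdeal.ResidueField)).toAlgebra
  refine ⟨Henz S K, inferInstance, inferInstance, EtFound.isSepClosed_residue_henz' S K, henzHom S K,
    weaklyEtale_henzHom S K, henzModel S K, PrimeSpectrum.ext ((henzHom_closedPoint _ _).trans ?_)⟩
  show RingHom.ker ((algebraMap q.asIdeal.ResidueField K).comp (algebraMap S q.asIdeal.ResidueField)) = _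
  rw [RingHom.ker_comp_of_injective _ (RingHom.injective _)]
  exact Ideal.ker_algebraMap_residueField _

variable {R : Type u} [CommRing R] (A : Type u) [CommRing A] [Algebra R A] [Algebra R[X] A]
  [IsScalarTower R R[X] A] [Algebra.Etale R[X] A] {Ω : Type u} [Field Ω] [IsAlgClosed Ω] [Algebra R Ω] {ℓ : ℕ}
  (ξ : EtCoh.H (Spec (CommRingCat.of (A ⊗[R] Ω))) (EtCoh.const _ (ZMod ℓ)) 1)

/-- All strictly larger coefficient rings kill over the point. -/
def MaxAt (B : Subalgebra R Ω) (q : Spec (CommRingCat.of (A ⊗[R] B))) : Prop :=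
  ∀ (B' : Subalgebra R Ω) (h : B ≤ B'), B' ≠ B →
    ∀ q' : Spec (CommRingCat.of (A ⊗[R] B')), hA A h q' = q → Killed (gA A B') ξ q'

variable {A ξ} {B : Subalgebra R Ω} {q : Spec (CommRingCat.of (A ⊗[R] B))} (hmax : MaxAt A ξ B q)
  (hnk : ¬ Killed (gA A B) ξ q)

include hmax hnk

/-- Such a ring is integrally closed in the field. -/
theorem mem_of_isIntegral (x : Ω) (hx : IsIntegral B x) : x ∈ B := by
  by_contra hn
  let B' : Subalgebra R Ω := (integralClosure B Ω).restrictScalars R
  have h : B ≤ B' := fun b hb => isIntegral_algebraMap (R := B) (x := (⟨b, hb⟩ : B))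
  have hne : B' ≠ B := fun e => hn (e ▸ (hx : x ∈ B'))
  have hint : (incA A h).toRingHom.IsIntegral := by
    intro z
    induction z using TensorProduct.induction_on with
    | zero => exact RingHom.isIntegralElem_zero _
    | tmul a b =>
      have h1 : (incA A h).toRingHom.IsIntegralElem (a ⊗ₜ[R] (1 : B')) := by
        have := RingHom.isIntegralElem_map (incA A h).toRingHom (x := a ⊗ₜ[R] (1 : B))
        exact (show incA A h (a ⊗ₜ[R] (1 : B)) = a ⊗ₜ[R] (1 : B') from
          (incA_tmul A h a 1).trans (congrArg _ (map_one _))) ▸ this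
      have h2 : (incA A h).toRingHom.IsIntegralElem ((1 : A) ⊗ₜ[R] b) := by
        obtain ⟨p, hp, hpb⟩ : IsIntegral B (b : Ω) := b.2
        let ι := (Subalgebra.inclusion h).toRingHom
        have hb' : eval₂ ι b p = 0 := Subtype.val_injective (by
          rw [show ((eval₂ ι b p : B') : Ω) = B'.val.toRingHom (eval₂ ι b p) from rfl, Polynomial.hom_eval₂]
          exact hpb)
        refine ⟨p.map (Algebra.TensorProduct.includeRight (R := R) (A := A) (B := B)).toRingHom, hp.map _, ?_⟩
        rw [eval₂_map, show (incA A h).toRingHom.comp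
            (Algebra.TensorProduct.includeRight (R := R) (A := A) (B := B)).toRingHom =
            (Algebra.TensorProduct.includeRight (R := R) (A := A) (B := B')).toRingHom.comp ι from
          RingHom.ext fun z => incA_tmul A h 1 z]
        show eval₂ _ ((Algebra.TensorProduct.includeRight (R := R) (A := A) (B := B')).toRingHom b) p = 0
        rw [← Polynomial.hom_eval₂, hb', map_zero]
      have := h1.mul (incA A h).toRingHom h2
      rwa [Algebra.TensorProduct.tmul_mul_tmul, mul_one, one_mul] at this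
    | add x y hx hy => exact hx.add _ hy
  haveI : IsIntegralHom (hA A h) := IsIntegralHom.SpecMap_iff.2 hint
  obtain ⟨W, _, _, _, hw, _, D, hq⟩ := exists_henz_model (A ⊗[R] B) q
  refine hnk (hq ▸ killed_of_integral (gA A B) ξ D (hA A h) (gA A B') (gA_hA A h) fun p hp => ?_)
  exact hmax B' h hne p (hp.trans hq)

/-- Elements outside the point are units. -/
theorem inv_mem_of_not_mem (s : B)
    (hs : (Algebra.TensorProduct.includeRight (R := R) (A := A) (B := B)) s ∉ q.asIdeal) : (s : Ω)⁻¹ ∈ B := by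
  by_contra hn
  have hs0 : (s : Ω) ≠ 0 := fun h0 => hn (by rw [h0, inv_zero]; exact zero_mem _)
  let B' := Algebra.adjoin R (insert (s : Ω)⁻¹ (B : Set Ω))
  have h : B ≤ B' := fun b hb => Algebra.subset_adjoin (Set.mem_insert_of_mem _ hb)
  have hne : B' ≠ B := fun e => hn ((SetLike.ext_iff.1 e _).1 (Algebra.subset_adjoin (Set.mem_insert _ _)))
  let s' := (Algebra.TensorProduct.includeRight (R := R) (A := A) (B := B)) s
  let L := Localization.Away s'
  have hmul : incA A h s' * ((1 : A) ⊗ₜ[R] (⟨(s : Ω)⁻¹, Algebra.subset_adjoin (Set.mem_insert _ _)⟩ : B')) = 1 := by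
    show incA A h ((1 : A) ⊗ₜ[R] s) * _ = _
    rw [incA_tmul, Algebra.TensorProduct.tmul_mul_tmul, mul_one]
    exact congrArg _ (Subtype.ext (mul_inv_cancel₀ hs0))
  have hu : IsUnit ((incA A h).toRingHom s') := IsUnit.of_mul_eq_one _ hmul
  let ψ : L →+* A ⊗[R] B' := IsLocalization.Away.lift s' hu
  have hψ : ∀ z, ψ (algebraMap (A ⊗[R] B) L z) = incA A h z := fun z => IsLocalization.Away.lift_eq s' hu z
  have hsurj : Function.Surjective ψ := by
    refine surjective_of_gens A B' ψ _ rfl (fun a => ⟨algebraMap (A ⊗[R] B) L (a ⊗ₜ[R] 1), ?_⟩) fun y hy => ?_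
    · rw [hψ, incA_tmul, map_one]
    · rcases Set.mem_insert_iff.1 hy with rfl | hy
      · refine ⟨IsLocalization.Away.invSelf s', hu.mul_left_cancel ?_⟩
        show incA A h s' * _ = incA A h s' * _
        rw [hmul, ← hψ, ← map_mul, IsLocalization.Away.mul_invSelf, map_one]
      · exact ⟨algebraMap (A ⊗[R] B) L ((1 : A) ⊗ₜ[R] ⟨y, hy⟩), by rw [hψ, incA_tmul]; rfl⟩
  let o : Spec (CommRingCat.of L) ⟶ Spec (CommRingCat.of (A ⊗[R] B)) :=
    Spec.map (CommRingCat.ofHom (algebraMap (A ⊗[R] B) L))
  haveI : IsOpenImmersion o := IsOpenImmersion.of_isLocalization s'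
  let i : Spec (CommRingCat.of (A ⊗[R] B')) ⟶ Spec (CommRingCat.of L) := Spec.map (CommRingCat.ofHom ψ)
  haveI : IsClosedImmersion i := IsClosedImmersion.spec_of_surjective _ hsurj
  have hio : i ≫ o = hA A h := by
    rw [← Spec.map_comp, ← CommRingCat.ofHom_comp]
    exact congrArg Spec.map (CommRingCat.hom_ext (RingHom.ext hψ))
  obtain ⟨x, hx⟩ : q ∈ Set.range o.base := by
    show q ∈ Set.range (PrimeSpectrum.comap (algebraMap (A ⊗[R] B) L))
    rw [PrimeSpectrum.localization_away_comap_range L s']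
    exact hs
  refine hnk (hx ▸ killed_open (gA A B) ξ o (gA A B' ≫ i) (by rw [Category.assoc, hio, gA_hA]) x ?_)
  by_cases hxi : x ∈ Set.range i.base
  · obtain ⟨q', hq'⟩ := hxi
    refine hq' ▸ killed_closed (gA A B' ≫ i) ξ i (gA A B') rfl q' (hmax B' h hne q' ?_)
    rw [← hio, Scheme.Hom.comp_apply]
    exact (congrArg o hq').trans hx
  · refine killed_of_not_mem_closure _ ξ fun hc => hxi ?_
    refine (i.isClosedEmbedding.isClosed_range.closure_subset_iff.2 ?_) hc
    rintro _ ⟨z, rfl⟩
    exact ⟨gA A B' z, (Scheme.Hom.comp_apply _ _ _).symm⟩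

/-- The point lies over the closed point. -/
theorem isUnit_iff_not_mem (s : B) :
    IsUnit s ↔ (Algebra.TensorProduct.includeRight (R := R) (A := A) (B := B)) s ∉ q.asIdeal := by
  refine ⟨fun hu hm => q.2.ne_top (Ideal.eq_top_of_isUnit_mem _ hm (hu.map _)), fun hs => ?_⟩
  have hs0 : (s : Ω) ≠ 0 := fun h0 => hs (by
    rw [show s = 0 from Subtype.ext h0, map_zero]
    exact zero_mem _)
  exact IsUnit.of_mul_eq_one ⟨(s : Ω)⁻¹, inv_mem_of_not_mem hmax hnk s hs⟩ (Subtype.ext (mul_inv_cancel₀ hs0))

theorem isLocalRing_of_max : IsLocalRing B := by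
  haveI : Nontrivial B := inferInstance
  refine IsLocalRing.of_nonunits_add fun a b ha hb hu => ?_
  simp only [mem_nonunits_iff, isUnit_iff_not_mem hmax hnk, not_not] at ha hb
  rw [isUnit_iff_not_mem hmax hnk, map_add] at hu
  exact hu (add_mem ha hb)

theorem comap_eq_maximalIdeal [IsLocalRing B] :
    q.asIdeal.comap (Algebra.TensorProduct.includeRight (R := R) (A := A) (B := B)).toRingHom = maximalIdeal B := by
  ext s
  rw [Ideal.mem_comap, mem_maximalIdeal, mem_nonunits_iff, isUnit_iff_not_mem hmax hnk, not_not]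
  rfl

/-- Such a ring contains each element or its inverse. -/
theorem mem_or_inv_mem_of_max (hℓ : ℓ.Prime) (x : Ω) : x ∈ B ∨ x⁻¹ ∈ B := by
  by_contra hn
  obtain ⟨hx1, hx2⟩ := not_or.1 hn
  have hx0 : x ≠ 0 := fun h0 => hx1 (h0 ▸ zero_mem _)
  haveI : Fact ℓ.Prime := ⟨hℓ⟩
  haveI : IsLocalRing B := isLocalRing_of_max hmax hnk
  have hinj : Function.Injective (algebraMap B Ω) := Subtype.val_injective
  have hint : ∀ y : Ω, IsIntegral B y → ∃ v : B, algebraMap B Ω v = y :=
    fun y hy => ⟨⟨y, mem_of_isIntegral hmax hnk y hy⟩, rfl⟩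
  haveI : HenselianLocalRing B := henselianLocalRing_of_closed B Ω hinj hint
  haveI : IsAlgClosed (ResidueField B) := isAlgClosed_residueField_of_closed Ω hinj hint
  let σ := B.val.toRingHom
  let AB := A ⊗[R] B
  let qq := CohB1.ProjSpaceOver.toBase 1 (Spec (CommRingCat.of B))
  let pB := pBm (R := R) A B
  haveI : Smooth pB := smooth_pBm A B
  let s := ptOver σ 0 x
  have hsq : s ≫ qq = Spec.map (CommRingCat.ofHom σ) := ptOver_toBase σ 0 x
  haveI : IsAffineHom s := by
    haveI : IsAffineHom (s ≫ qq) := by rw [hsq]; infer_instance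
    exact MorphismProperty.of_postcomp (W := @IsAffineHom) (W' := @IsSeparated) s qq inferInstance ‹_›
  let g := gA A B
  let t := pBm (R := R) A Ω
  let γ : Spec (CommRingCat.of (A ⊗[R] Ω)) ⟶ pullback pB qq :=
    pullback.lift g (t ≫ s) (by rw [Category.assoc, hsq]; exact gA_pBm A B)
  obtain ⟨W, _, _, _, hw, _, D, hq⟩ := exists_henz_model AB q
  refine hnk (hq ▸ killed_of_over g ξ D (pullback.fst pB qq) γ (pullback.lift_fst _ _ _) ?_ ?_)
  · -- the points of the projective line
    intro z hz
    rw [hq] at hz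
    obtain ⟨i, y, hy⟩ := exists_chart B (pullback.snd pB qq z)
    have hcoord : ∃ c : Ω, c ∉ B ∧ ptOver σ i c = s := by
      fin_cases i
      · exact ⟨x, hx1, rfl⟩
      · exact ⟨x⁻¹, hx2, (ptOver_eq σ (mul_inv_cancel₀ hx0)).symm⟩
    obtain ⟨c, hc, hcs⟩ := hcoord
    -- the chart
    let j : pullback pB (chart B i ≫ qq) ⟶ pullback pB qq :=
      pullback.map _ _ _ _ (𝟙 _) (chart B i) (𝟙 _) (by simp) (by simp)
    let iA := (Algebra.TensorProduct.includeRight (R := R) (A := A) (B := B)).toRingHom
    have cA : IsPullback (Spec.map (CommRingCat.ofHom (C : AB →+* AB[X])))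
        (Spec.map (CommRingCat.ofHom (R := B[X]) (S := AB[X]) (mapRingHom iA))) pB (chart B i ≫ qq) := by
      rw [show chart B i ≫ qq = Spec.map (CommRingCat.ofHom (C : B →+* B[X])) from chart_toBase B i]
      exact isPullback_SpecMap_of_isPushout _ _ _ _ (isPushout_map B AB iA)
    let B' := Algebra.adjoin R (insert c (B : Set Ω))
    have h : B ≤ B' := fun b hb => Algebra.subset_adjoin (Set.mem_insert_of_mem _ hb)
    have hne : B' ≠ B := fun e => hc ((SetLike.ext_iff.1 e _).1 (Algebra.subset_adjoin (Set.mem_insert _ _)))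
    let c' : A ⊗[R] B' := (1 : A) ⊗ₜ[R] ⟨c, Algebra.subset_adjoin (Set.mem_insert _ _)⟩
    let ψ : AB[X] →+* A ⊗[R] B' := eval₂RingHom (incA A h).toRingHom c'
    have hsurj : Function.Surjective ψ := by
      refine surjective_of_gens A B' ψ _ rfl (fun a => ⟨C (a ⊗ₜ[R] (1 : B) : AB), ?_⟩) fun y hy => ?_
      · refine (eval₂_C _ _).trans ((incA_tmul A h a 1).trans ?_)
        rw [map_one]
      · rcases Set.mem_insert_iff.1 hy with rfl | hy
        · exact ⟨Polynomial.X, eval₂_X _ _⟩
        · exact ⟨C ((1 : A) ⊗ₜ[R] (⟨y, hy⟩ : B) : AB), (eval₂_C _ _).trans (incA_tmul A h _ _)⟩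
    let i' : Spec (CommRingCat.of (A ⊗[R] B')) ⟶ pullback pB (chart B i ≫ qq) :=
      Spec.map (CommRingCat.ofHom (R := AB[X]) (S := A ⊗[R] B') ψ) ≫ cA.isoPullback.hom
    haveI : IsClosedImmersion (Spec.map (CommRingCat.ofHom (R := AB[X]) (S := A ⊗[R] B') ψ)) :=
      IsClosedImmersion.spec_of_surjective (CommRingCat.ofHom (R := AB[X]) (S := A ⊗[R] B') ψ) hsurj
    have hi'₁ : i' ≫ pullback.fst pB (chart B i ≫ qq) = hA A h := by
      rw [Category.assoc, IsPullback.isoPullback_hom_fst, ← Spec.map_comp, ← CommRingCat.ofHom_comp]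
      exact congrArg Spec.map (CommRingCat.hom_ext (RingHom.ext fun z => eval₂_C _ _))
    have hi'₂ : i' ≫ pullback.snd pB (chart B i ≫ qq) =
        Spec.map (CommRingCat.ofHom (R := B[X]) (S := A ⊗[R] B') (ψ.comp (mapRingHom iA))) := by
      rw [Category.assoc, IsPullback.isoPullback_hom_snd, ← Spec.map_comp, ← CommRingCat.ofHom_comp]
    have hγ : (gA A B' ≫ i') ≫ j = γ := by
      refine pullback.hom_ext ?_ ?_
      · rw [pullback.lift_fst, Category.assoc, show j ≫ pullback.fst pB qq = pullback.fst pB (chart B i ≫ qq) from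
          (pullback.lift_fst _ _ _).trans (Category.comp_id _), Category.assoc, hi'₁]
        exact gA_hA A h
      · rw [pullback.lift_snd, Category.assoc, show j ≫ pullback.snd pB qq =
          pullback.snd pB (chart B i ≫ qq) ≫ chart B i from pullback.lift_snd _ _ _, Category.assoc,
          ← Category.assoc i', hi'₂, ← Category.assoc, ← Spec.map_comp, ← CommRingCat.ofHom_comp, chart_eq,
          spec_comp_ptOver, ← hcs, spec_comp_ptOver]
        congr 1
        · refine RingHom.ext fun b => ?_
          show valA A B' (eval₂ _ _ ((C b).map iA)) = _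
          rw [Polynomial.map_C, eval₂_C]
          exact (congrArg (valA A B') (incA_tmul A h (1 : A) b)).trans (Algebra.TensorProduct.map_tmul _ _ _ _)
        · show valA A B' (eval₂ _ _ ((Polynomial.X : B[X]).map iA)) = _
          rw [Polynomial.map_X, eval₂_X]
          exact Algebra.TensorProduct.map_tmul _ _ _ _
    obtain ⟨z₀, hz₁, hz₂⟩ : ∃ z₀ : ↥(pullback pB (chart B i ≫ qq)),
        pullback.fst pB (chart B i ≫ qq) z₀ = q ∧ j z₀ = z := by
      have c1 : IsPullback j (pullback.snd pB (chart B i ≫ qq)) (pullback.snd pB qq) (chart B i) := by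
        refine IsPullback.flip (IsPullback.of_bot (v₂₁ := pullback.fst pB qq) (v₂₂ := qq) (h₃₁ := pB) ?_
          (pullback.lift_snd _ _ _).symm (IsPullback.of_hasPullback pB qq).flip)
        rw [show j ≫ pullback.fst pB qq = pullback.fst pB (chart B i ≫ qq) from
          (pullback.lift_fst _ _ _).trans (Category.comp_id _)]
        exact (IsPullback.of_hasPullback pB (chart B i ≫ qq)).flip
      obtain ⟨z₀, h₁, -⟩ := Scheme.exists_preimage_of_isPullback c1 z y hy.symm
      refine ⟨z₀, ?_, h₁⟩
      rw [← hz, ← h₁, ← Scheme.Hom.comp_apply]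
      rw [show j ≫ pullback.fst pB qq = pullback.fst pB (chart B i ≫ qq) from
        (pullback.lift_fst _ _ _).trans (Category.comp_id _)]
    haveI : IsOpenImmersion j := inferInstance
    refine hz₂ ▸ killed_open γ ξ j (gA A B' ≫ i') hγ z₀ ?_
    by_cases hzi : z₀ ∈ Set.range i'.base
    · obtain ⟨q', hq'⟩ := hzi
      refine hq' ▸ killed_closed (gA A B' ≫ i') ξ i' (gA A B') rfl q' (hmax B' h hne q' ?_)
      rw [← hi'₁, Scheme.Hom.comp_apply]
      exact (congrArg (pullback.fst pB (chart B i ≫ qq)) hq').trans hz₁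
    · refine killed_of_not_mem_closure _ ξ fun hcl => hzi ?_
      refine (i'.isClosedEmbedding.isClosed_range.closure_subset_iff.2 ?_) hcl
      rintro _ ⟨w, rfl⟩
      exact ⟨gA A B' w, (Scheme.Hom.comp_apply _ _ _).symm⟩
  · refine subsingleton_H_one_pushW σ pB g t (isPullback_gA A B) qq s hsq γ (pullback.lift_fst _ _ _)
      (pullback.lift_snd _ _ _) D ?_
    rw [hq]
    exact PrimeSpectrum.ext (comap_eq_maximalIdeal hmax hnk)

/-- Surviving is impossible. -/
theorem false_of_max (hℓ : ℓ.Prime) (hℓR : IsUnit (ℓ : R)) : False := by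
  haveI : IsLocalRing B := isLocalRing_of_max hmax hnk
  have hv := mem_or_inv_mem_of_max hmax hnk hℓ
  haveI : ValuationRing B :=
    { cond' := fun a b => by
        rcases eq_or_ne (a : Ω) 0 with ha | ha
        · exact ⟨0, .inr (by rw [mul_zero]; exact Subtype.ext ha.symm)⟩
        rcases hv ((b : Ω) / a) with h | h
        · exact ⟨⟨_, h⟩, .inl (Subtype.ext (mul_div_cancel₀ _ ha))⟩
        rcases eq_or_ne (b : Ω) 0 with hb | hb
        · exact ⟨0, .inl (by rw [mul_zero]; exact Subtype.ext hb.symm)⟩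
        rw [inv_div] at h
        exact ⟨⟨_, h⟩, .inr (Subtype.ext (mul_div_cancel₀ _ hb))⟩ }
  haveI : FaithfulSMul B Ω := (faithfulSMul_iff_algebraMap_injective B Ω).2 Subtype.val_injective
  haveI : IsFractionRing B Ω := IsFractionRing.of_field B Ω fun z => by
    rcases hv z with h | h
    · exact ⟨⟨z, h⟩, 1, by rw [map_one, div_one]; rfl⟩
    · exact ⟨1, ⟨_, h⟩, by rw [map_one, one_div]; exact (inv_inv z).symm⟩
  let AB := A ⊗[R] B
  letI : Algebra B[X] AB := (lineA (R := R) A B).toAlgebra
  haveI : Algebra.Etale B[X] AB := RingHom.etale_algebraMap.1 (etale_lineA A B)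
  have he : (algebraMap B[X] AB).comp C = (Algebra.TensorProduct.includeRight (R := R) (A := A) (B := B)).toRingHom :=
    RingHom.ext fun b => eval₂_C _ _
  have hℓB : IsUnit (ℓ : B) := by simpa using hℓR.map (algebraMap R B)
  refine hnk (killed_valuation B Ω ℓ hℓ hℓB AB (gA A B) (pBm (R := R) A Ω) ?_ ξ q ?_)
  · rw [he]
    exact isPullback_gA A B
  · rw [he]
    exact comap_eq_maximalIdeal hmax hnk

end Groth.Agent.SmoothLA
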