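import Groth.Agent.SmoothLA.Smooth
import Groth.Agent.S3470

/-!
# Strict localizations of smooth morphisms are universally acyclic
-/

set_option autoImplicit false
set_option linter.unusedSectionVars false
set_option linter.style.haveILetI false
set_option backward.isDefEq.respectTransparency false
set_option backward.isDefEq.respectTransparency.types false
set_option maxHeartbeats 1600000

universe u

open CategoryTheory CategoryTheory.Limits AlgebraicGeometry Opposite Polynomial IsLocalRing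

noncomputable section

namespace Groth.Agent.SmoothLA

open Groth.Agent.AcycFin

/-- Universal acyclicity for the primes of `L` as soon as they are invertible on the target. -/
abbrev UAcy (L : Set ℕ) (n : ℕ) ⦃A B : Scheme.{u}⦄ (h : A ⟶ B) : Prop :=
  L ⊆ EtAcyc.primesInvertibleOn B → EtAcyc.IsUAcyclicN h L n

theorem uAcy_comp_iff {L : Set ℕ} {n : ℕ} ⦃A B C : Scheme.{u}⦄ (a : A ⟶ B) (b : B ⟶ C) (ha : UAcy L n a) :
    UAcy L n b ↔ UAcy L n (a ≫ b) := by
  refine forall_congr' fun h => ⟨fun hb X₁ Y₁ g₁ p q sq => ?_, fun hab X₁ Y₁ g₁ p q sq => ?_⟩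
  · have c₂ := IsPullback.of_hasPullback b q
    have hle : (p ≫ a) ≫ b = g₁ ≫ q := by rw [Category.assoc]; exact sq.w
    let m : X₁ ⟶ pullback b q := pullback.lift (p ≫ a) g₁ hle
    have c₁ : IsPullback p m a (pullback.fst b q) := by
      refine (IsPullback.of_bot (v₂₁ := pullback.snd b q) (v₂₂ := b) (h₃₁ := q) ?_ (pullback.lift_fst _ _ _).symm c₂)
      rw [pullback.lift_snd]
      exact sq
    have := (EtAcycLib.isAcyclicN_comp_iff m (pullback.snd b q)
      (ha (h.trans (primesInvertibleOn_mono b)) m p _ c₁)).1 (hb _ _ _ c₂)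
    rwa [pullback.lift_snd] at this
  · have c₁ := IsPullback.of_hasPullback a p
    exact (EtAcycLib.isAcyclicN_comp_iff (pullback.snd a p) g₁
      (ha (h.trans (primesInvertibleOn_mono b)) _ _ _ c₁)).2 (hab _ _ _ (c₁.paste_vert sq))

/-- The line over a strictly henselian ring is universally acyclic. -/
theorem uAcy_line (R W : Type u) [CommRing R] [CommRing W] [HenselianLocalRing R] [HenselianLocalRing W]
    [IsSepClosed (ResidueField R)] [IsSepClosed (ResidueField W)] [Algebra R W] [IsLocalHom (algebraMap R W)]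
    [Algebra R[X] W] [IsScalarTower R R[X] W] [Algebra.WeaklyEtale R[X] W] (L : Set ℕ) (n : ℕ) :
    UAcy L n (Spec.map (CommRingCat.ofHom (algebraMap R W))) := by
  intro hL X₁ Y₁ g₁ p q sq
  let L' := EtAcyc.primesInvertibleOn (Spec (CommRingCat.of R))
  refine isAcyclicN_antitone hL ?_
  have hL' : ∃ ℓ ∈ L', ℓ.Prime := exists_prime_invertible R
  let w := Spec.map (CommRingCat.ofHom (algebraMap R[X] W))
  let s := Spec.map (CommRingCat.ofHom (algebraMap R R[X]))
  have hws : w ≫ s = Spec.map (CommRingCat.ofHom (algebraMap R W)) := by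
    rw [← Spec.map_comp, ← CommRingCat.ofHom_comp, ← IsScalarTower.algebraMap_eq]
  haveI : WeaklyEtale w := ProEtLib.weaklyEtale_spec R[X] W
  haveI : Smooth s := by
    haveI : Algebra.Smooth R R[X] := ⟨inferInstance, inferInstance⟩
    exact (HasRingHomProperty.Spec_iff (P := @Smooth)).2 (RingHom.smooth_algebraMap.2 inferInstance)
  haveI : Smooth (pullback.snd s q) := MorphismProperty.pullback_snd (P := @Smooth) _ _ ‹_›
  have hle : (p ≫ w) ≫ s = g₁ ≫ q := by rw [Category.assoc, hws]; exact sq.w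
  let m : X₁ ⟶ pullback s q := pullback.lift (p ≫ w) g₁ hle
  have c₁ : IsPullback p m w (pullback.fst s q) := by
    refine (IsPullback.of_bot (v₂₁ := pullback.snd s q) (v₂₂ := s) (h₃₁ := q) ?_ (pullback.lift_fst _ _ _).symm
      (IsPullback.of_hasPullback s q))
    rw [pullback.lift_snd, hws]
    exact sq
  haveI : WeaklyEtale m := MorphismProperty.of_isPullback (P := @WeaklyEtale) c₁ ‹_›
  have hloc : ∀ k, EtAcyc.IsLocAcyclicN g₁ L' k := fun k => by
    refine onStrict_of_weaklyEtale (pullback.snd s q) g₁ m (𝟙 _) (by rw [pullback.lift_snd, Category.comp_id])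
      (P := fun _ _ h => EtAcyc.IsAcyclicN h L' k) ?_
    intro x RY RX _ _ _ _ _ _ _ _ _ _ _ _ hc
    exact isAcyclicN_antitone (primesInvertibleOn_mono (pullback.snd s q ≫ q))
      (isLocAcyclicN_smooth (pullback.snd s q) k x RY RX hc)
  have hfib : ∀ k, EtAcyc.GeomFibresAcyclicN L' k g₁ := fun k y Ω _ _ _ _ => by
    let η := EtAcyc.geomPt Y₁ y Ω
    have c := (IsPullback.of_hasPullback g₁ η).paste_horiz sq
    exact isAcyclicSchemeN_of_iso c.isoPullback.hom
      (isAcyclicScheme_fibre_line R W L' (fun ℓ hℓ _ => isUnit_of_mem_primesInvertibleOn hℓ) k Ω (η ≫ q))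
  haveI : IsAffineHom g₁ := MorphismProperty.of_isPullback (P := @IsAffineHom) sq inferInstance
  rcases Nat.eq_zero_or_pos n with rfl | hn
  · refine S3471.isAcyclicN_zero g₁ L' ?_ (hfib 0)
    intro x RY RX _ _ _ _ _ _ _ _ _ _ _ _ hc
    exact S3470.surjective_of_geomFibres _ L' 0 ((S3471.result g₁ L' hL' 0).1 (hloc 0) x RY RX hc)
  · exact (S3470.result g₁ L' hL' n hn (hloc (n - 1))).2 (hfib n)

/-- The line over any ring, at a point. -/
theorem onStrictU_line (R₀ : Type u) [CommRing R₀] (L : Set ℕ) (n : ℕ) :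
    EtAcyc.OnStrictLocalizations (Spec.map (CommRingCat.ofHom (C : R₀ →+* R₀[X]))) (UAcy L n) := by
  intro x RY RX _ _ _ _ _ _ HY _ _ HX _ _ hc
  let g := Spec.map (CommRingCat.ofHom (C : R₀ →+* R₀[X]))
  let sX := Hens2.specOf (Spec (CommRingCat.of R₀[X])) x RX
  let sY := Hens2.specOf (Spec (CommRingCat.of R₀)) (g x) RY
  haveI : HenselianLocalRing RY := _root_.Hensel.IsStrictHenselization.henselian (R := (Spec (CommRingCat.of R₀)).presheaf.stalk (g x))
  haveI : HenselianLocalRing RX := _root_.Hensel.IsStrictHenselization.henselian (R := (Spec (CommRingCat.of R₀[X])).presheaf.stalk x)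
  haveI : IsSepClosed (ResidueField RY) :=
    (_root_.Hensel.IsStrictHenselization.isSepClosure (R := (Spec (CommRingCat.of R₀)).presheaf.stalk (g x))).sep_closed
  haveI : IsSepClosed (ResidueField RX) :=
    (_root_.Hensel.IsStrictHenselization.isSepClosure (R := (Spec (CommRingCat.of R₀[X])).presheaf.stalk x)).sep_closed
  haveI : WeaklyEtale sX := S0754.result _ x RX
  haveI : WeaklyEtale sY := S0754.result _ (g x) RY
  have hsq : sX ≫ g = Spec.map (CommRingCat.ofHom (algebraMap RY RX)) ≫ sY := by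
    have h1 : g.stalkMap x ≫ CommRingCat.ofHom (algebraMap ((Spec (CommRingCat.of R₀[X])).presheaf.stalk x) RX) =
        CommRingCat.ofHom (algebraMap ((Spec (CommRingCat.of R₀)).presheaf.stalk (g x)) RY) ≫
          CommRingCat.ofHom (algebraMap RY RX) := CommRingCat.hom_ext hc.symm
    simp only [sX, sY, Hens2.specOf, Category.assoc]
    rw [← Scheme.SpecMap_stalkMap_fromSpecStalk, ← Category.assoc, ← Category.assoc, ← Spec.map_comp, h1,
      Spec.map_comp]
  obtain ⟨θ, hθ⟩ := Spec.map_surjective sY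
  have c := (isPullback_SpecMap_of_isPushout _ _ _ _ (H23.P1Charts.isPushout_map R₀ RY θ.hom)).flip
  let p := Spec.map (CommRingCat.ofHom (mapRingHom θ.hom))
  have hq : Spec.map (CommRingCat.ofHom θ.hom) = sY := hθ
  rw [hq] at c
  haveI : WeaklyEtale p := MorphismProperty.of_isPullback (P := @WeaklyEtale) c.flip ‹_›
  let m := c.lift sX (Spec.map (CommRingCat.ofHom (algebraMap RY RX))) hsq
  haveI : WeaklyEtale (m ≫ p) := by rw [IsPullback.lift_fst]; infer_instance
  haveI : WeaklyEtale m := WeaklyEtale.of_comp m p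
  obtain ⟨ψ, hψ⟩ := Spec.map_surjective m
  letI : Algebra RY[X] RX := ψ.hom.toAlgebra
  haveI : Algebra.WeaklyEtale RY[X] RX := (ProEtLib.weaklyEtale_spec_iff ψ).1 (hψ ▸ ‹WeaklyEtale m›)
  haveI : IsScalarTower RY RY[X] RX := .of_algebraMap_eq' (by
    have h2 : Spec.map ψ ≫ Spec.map (CommRingCat.ofHom (C : RY →+* RY[X])) =
        Spec.map (CommRingCat.ofHom (algebraMap RY RX)) := by rw [hψ]; exact c.lift_snd _ _ _
    rw [← Spec.map_comp] at h2
    exact (congrArg CommRingCat.Hom.hom (Spec.map_injective h2)).symm)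
  exact uAcy_line RY RX L n

theorem uAcy_of_isIso {A B : Scheme.{u}} (h : A ⟶ B) [IsIso h] (L : Set ℕ) (n : ℕ) : UAcy L n h := by
  intro _ X₁ Y₁ g₁ p q sq V F _ _
  haveI : IsIso g₁ := MorphismProperty.of_isPullback (P := MorphismProperty.isomorphisms Scheme) sq ‹IsIso h›
  haveI : IsIso (EtAcyc.prj g₁ V) := inferInstanceAs (IsIso (pullback.fst _ _))
  exact ⟨fun k _ => EtAcycLib.bijective_Hpull_of_isIso _ _ k, (EtAcycLib.bijective_Hpull_of_isIso _ _ (n + 1)).1⟩

/-- Strict localizations of affine spaces are universally acyclic. -/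
theorem onStrictU_affineSpace (R : Type u) [CommRing R] (L : Set ℕ) (n : ℕ) (d : ℕ) :
    EtAcyc.OnStrictLocalizations (Spec.map (CommRingCat.ofHom (MvPolynomial.C : R →+* MvPolynomial (Fin (d + 1)) R)))
      (UAcy L n) := by
  induction d with
  | zero =>
    let e : MvPolynomial (Fin (0 + 1)) R ≃ₐ[R] R[X] := MvPolynomial.uniqueAlgEquiv R (Fin 1)
    let i := Spec.map (CommRingCat.ofHom e.toRingEquiv.toRingHom)
    haveI : IsIso i := inferInstanceAs (IsIso (Spec.map e.toRingEquiv.toCommRingCatIso.hom))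
    refine onStrict_of_weaklyEtale (Spec.map (CommRingCat.ofHom (C : R →+* R[X]))) _ (inv i) (𝟙 _) ?_ (onStrictU_line R L n)
    rw [Category.comp_id, IsIso.inv_comp_eq, ← Spec.map_comp, ← CommRingCat.ofHom_comp]
    exact congrArg Spec.map (CommRingCat.hom_ext (RingHom.ext fun r => (e.commutes r).symm))
  | succ d ih =>
    let A := MvPolynomial (Fin (d + 1)) R
    let e : MvPolynomial (Fin (d + 1 + 1)) R ≃ₐ[R] A[X] := MvPolynomial.finSuccEquiv R (d + 1)
    let g := Spec.map (CommRingCat.ofHom (C : A →+* A[X]))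
    let h := Spec.map (CommRingCat.ofHom (MvPolynomial.C : R →+* A))
    have hsurj : Function.Surjective g.base := fun y => by
      refine ⟨Spec.map (CommRingCat.ofHom (evalRingHom (0 : A))) y, ?_⟩
      rw [← Scheme.Hom.comp_apply, ← Spec.map_comp, ← CommRingCat.ofHom_comp,
        show (evalRingHom (0 : A)).comp C = RingHom.id A from RingHom.ext fun a => eval_C]
      rfl
    have hcomp := (S3514.onStrict_comp_iff g h hsurj (UAcy L n) uAcy_comp_iff (onStrictU_line A L n)).1 ih
    let i := Spec.map (CommRingCat.ofHom e.toRingEquiv.toRingHom)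
    haveI : IsIso i := inferInstanceAs (IsIso (Spec.map e.toRingEquiv.toCommRingCatIso.hom))
    refine onStrict_of_weaklyEtale (g ≫ h) _ (inv i) (𝟙 _) ?_ hcomp
    rw [Category.comp_id, IsIso.inv_comp_eq, ← Spec.map_comp, ← CommRingCat.ofHom_comp, ← Spec.map_comp,
      ← CommRingCat.ofHom_comp]
    exact congrArg Spec.map (CommRingCat.hom_ext (RingHom.ext fun r => (e.commutes r).symm))

/-- Strict localizations of identities are isomorphisms. -/
theorem isIso_id_localization {X : Scheme.{u}} (z : X) (RZ RW : Type u) [CommRing RZ] [CommRing RW]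
    [IsLocalRing RZ] [IsLocalRing RW] [Algebra (X.presheaf.stalk ((𝟙 X : X ⟶ X) z)) RZ]
    [IsLocalHom (algebraMap (X.presheaf.stalk ((𝟙 X : X ⟶ X) z)) RZ)]
    [HZ : _root_.Hensel.IsStrictHenselization (X.presheaf.stalk ((𝟙 X : X ⟶ X) z)) RZ]
    [Algebra (X.presheaf.stalk z) RW] [IsLocalHom (algebraMap (X.presheaf.stalk z) RW)]
    [HW : _root_.Hensel.IsStrictHenselization (X.presheaf.stalk z) RW] [Algebra RZ RW]
    [IsLocalHom (algebraMap RZ RW)]
    (hc : (algebraMap RZ RW).comp (algebraMap (X.presheaf.stalk ((𝟙 X : X ⟶ X) z)) RZ) =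
      (algebraMap (X.presheaf.stalk z) RW).comp ((𝟙 X : X ⟶ X).stalkMap z).hom) :
    IsIso (Spec.map (CommRingCat.ofHom (algebraMap RZ RW))) := by
  letI : Algebra (X.presheaf.stalk z) RZ := ‹Algebra (X.presheaf.stalk ((𝟙 X : X ⟶ X) z)) RZ›
  haveI : IsLocalHom (algebraMap (X.presheaf.stalk z) RZ) :=
    ‹IsLocalHom (algebraMap (X.presheaf.stalk ((𝟙 X : X ⟶ X) z)) RZ)›
  haveI hZ : _root_.Hensel.IsStrictHenselization (X.presheaf.stalk z) RZ := HZ
  have hid : ((𝟙 X : X ⟶ X).stalkMap z).hom = RingHom.id _ := congrArg CommRingCat.Hom.hom (Scheme.Hom.stalkMap_id X z)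
  haveI : IsScalarTower (X.presheaf.stalk z) RZ RW :=
    .of_algebraMap_eq' (((congrArg (algebraMap (X.presheaf.stalk z) RW).comp hid).trans (RingHom.comp_id _)).symm.trans hc.symm)
  haveI : Algebra.WeaklyEtale (X.presheaf.stalk z) RZ := S0736.result _ _ (S12237.result _ RZ)
  haveI : Algebra.WeaklyEtale (X.presheaf.stalk z) RW := S0736.result _ _ (S12237.result _ RW)
  haveI : Algebra.WeaklyEtale RZ RW := WEtLib.cancel (A := ↑(X.presheaf.stalk z)) (B := RZ) RW
  haveI : HenselianLocalRing RZ := hZ.henselian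
  haveI : HenselianLocalRing RW := HW.henselian
  haveI : IsSepClosed (ResidueField RZ) := hZ.isSepClosure.sep_closed
  haveI : IsSepClosed (ResidueField RW) := HW.isSepClosure.sep_closed
  let e := RingEquiv.ofBijective (algebraMap RZ RW) (WEtLib.bijective_algebraMap (A := RZ) (B := RW))
  exact inferInstanceAs (IsIso (Spec.map e.toCommRingCatIso.hom))

/-- Strict localizations of smooth morphisms are universally acyclic. -/
theorem onStrictU_smooth {X Y : Scheme.{u}} (g : X ⟶ Y) [Smooth g] (L : Set ℕ) (n : ℕ) :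
    EtAcyc.OnStrictLocalizations g (UAcy L n) := by
  intro x RY RX _ _ _ _ _ _ _ _ _ _ _ _ hc
  obtain ⟨U, hU, V, hV, hxV, e, hst⟩ := Smooth.exists_isStandardSmooth g x
  let f := (g.appLE U V e).hom
  obtain ⟨d, φ, hC, hφ⟩ := RingHom.IsStandardSmooth.exists_etale_mvPolynomial (f := f) hst
  have key : EtAcyc.OnStrictLocalizations (Spec.map (g.appLE U V e)) (UAcy L n) := by
    haveI : AlgebraicGeometry.Etale (Spec.map (CommRingCat.ofHom φ)) :=
      (HasRingHomProperty.Spec_iff (P := @AlgebraicGeometry.Etale)).2 hφ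
    cases d with
    | zero =>
      haveI : IsIso (Spec.map (CommRingCat.ofHom (MvPolynomial.C : Γ(Y, U) →+* MvPolynomial (Fin 0) Γ(Y, U)))) :=
        inferInstanceAs (IsIso (Spec.map (MvPolynomial.isEmptyRingEquiv Γ(Y, U) (Fin 0)).symm.toCommRingCatIso.hom))
      haveI : AlgebraicGeometry.Etale (Spec.map (g.appLE U V e)) := by
        rw [show g.appLE U V e = CommRingCat.ofHom (MvPolynomial.C : Γ(Y, U) →+* MvPolynomial (Fin 0) Γ(Y, U)) ≫
          CommRingCat.ofHom φ from CommRingCat.hom_ext hC.symm, Spec.map_comp]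
        infer_instance
      refine onStrict_of_weaklyEtale (𝟙 _) (Spec.map (g.appLE U V e)) (Spec.map (g.appLE U V e)) (𝟙 _) rfl ?_
      exact fun z RZ RW _ _ _ _ _ _ _ _ _ _ _ _ hc' =>
        haveI := isIso_id_localization z RZ RW hc'
        uAcy_of_isIso _ L n
    | succ d =>
      refine onStrict_of_weaklyEtale (Spec.map (CommRingCat.ofHom (MvPolynomial.C : Γ(Y, U) →+* MvPolynomial (Fin (d + 1)) Γ(Y, U))))
        _ (Spec.map (CommRingCat.ofHom φ)) (𝟙 _) ?_ (onStrictU_affineSpace Γ(Y, U) L n d)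
      rw [Category.comp_id, ← Spec.map_comp]
      exact congrArg Spec.map (CommRingCat.hom_ext hC)
  obtain ⟨x', hx'⟩ : x ∈ Set.range hV.fromSpec := by rw [hV.range_fromSpec]; exact hxV
  exact onStrict_at g (Spec.map (g.appLE U V e)) hV.fromSpec hU.fromSpec
    (IsAffineOpen.SpecMap_appLE_fromSpec g hU hV e).symm (P := UAcy L n) key x' x hx' RY RX hc

end Groth.Agent.SmoothLA
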