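import Groth.Agent.Hensel.HenselizationNormal
import Groth.Agent.AlgSpDec.EtHenzField
import Mathlib.RingTheory.Valuation.ValuationRing
import Mathlib.RingTheory.Polynomial.IsIntegral
import Mathlib.RingTheory.Bezout
import Mathlib.RingTheory.Flat.TorsionFree
import Mathlib.Algebra.GCDMonoid.IntegrallyClosed
import Mathlib.RingTheory.PrincipalIdealDomain

/-!
# The strict localization of the affine line over a valuation ring at the generic point of the closed fibre
-/

set_option autoImplicit false
set_option linter.style.haveILetI false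
set_option linter.unusedSectionVars false

universe u

open Polynomial IsLocalRing TensorProduct

namespace Groth.Agent.SmoothLA

open Groth.Agent.Hensel (Henz Nbhd)

/-- A root of a polynomial with a unit coefficient over an integrally closed local domain is integral or has
integral inverse. -/
theorem mem_or_inv_mem {W F : Type u} [CommRing W] [IsDomain W] [IsLocalRing W] [IsIntegrallyClosed W] [Field F]
    [Algebra W F] [IsFractionRing W F] (x : F) :
    ∀ (d : ℕ) (f : W[X]), f.natDegree ≤ d → aeval x f = 0 → (∃ i, IsUnit (f.coeff i)) →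
      (∃ w, algebraMap W F w = x) ∨ ∃ w, algebraMap W F w = x⁻¹ := by
  intro d
  induction d with
  | zero =>
    intro f hd hf ⟨i, hi⟩
    obtain ⟨a, ha⟩ : ∃ a, f = C a := ⟨_, eq_C_of_natDegree_le_zero hd⟩
    rw [ha, aeval_C] at hf
    have h0 : a = 0 := (IsFractionRing.injective W F) (hf.trans (map_zero _).symm)
    rw [ha, h0, map_zero, coeff_zero] at hi
    exact absurd hi not_isUnit_zero
  | succ d ih =>
    intro f hd hf hu
    rcases Nat.lt_or_ge f.natDegree (d + 1) with h | h
    · exact ih f (Nat.lt_succ_iff.1 h) hf hu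
    have hdeg : f.natDegree = d + 1 := le_antisymm hd h
    let a := f.leadingCoeff
    obtain ⟨b, hb⟩ := IsIntegrallyClosed.isIntegral_iff.1 (isIntegral_leadingCoeff_smul f x hf)
    rw [Algebra.smul_def] at hb
    by_cases ha : IsUnit a
    · obtain ⟨a', ha'⟩ := ha
      refine Or.inl ⟨b * ↑(a'⁻¹), ?_⟩
      have e : algebraMap W F a * algebraMap W F ↑(a'⁻¹) = 1 := by
        rw [← map_mul, ← ha', Units.mul_inv, map_one]
      rw [map_mul, hb, mul_comm, ← mul_assoc, mul_comm (algebraMap W F ↑(a'⁻¹)), e, one_mul]
    by_cases hbu : IsUnit b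
    · obtain ⟨b', hb'⟩ := hbu
      refine Or.inr ⟨a * ↑(b'⁻¹), ?_⟩
      have e : algebraMap W F a * x * algebraMap W F ↑(b'⁻¹) = 1 := by
        rw [← hb, ← map_mul, ← hb', Units.mul_inv, map_one]
      rw [map_mul]
      refine (eq_inv_of_mul_eq_one_left ?_)
      rw [← e]
      ring
    let g := f.eraseLead + monomial d b
    have hg : g.natDegree ≤ d := by
      refine (natDegree_add_le _ _).trans (max_le ?_ (natDegree_monomial_le _))
      have := f.eraseLead_natDegree_le
      omega
    refine ih g hg ?_ ?_
    · have e := f.eraseLead_add_monomial_natDegree_leadingCoeff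
      rw [← e, hdeg, map_add, aeval_monomial, pow_succ] at hf
      rw [map_add, aeval_monomial, hb]
      linear_combination hf
    · obtain ⟨i, hi⟩ := hu
      refine ⟨i, ?_⟩
      have hne : i ≠ f.natDegree := fun e => ha (by rw [e] at hi; exact hi)
      rw [coeff_add, eraseLead_coeff_of_ne i hne, coeff_monomial]
      by_cases hid : d = i
      · rw [if_pos hid]
        rcases IsLocalRing.isUnit_or_isUnit_of_isUnit_add (a := f.coeff i + b) (b := -b) (by simpa using hi) with h1 | h1
        · exact h1
        · exact absurd (IsUnit.neg_iff b |>.1 h1) hbu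
      · rw [if_neg hid, add_zero]
        exact hi

section Val

variable (V : Type u) [CommRing V] [IsDomain V] [ValuationRing V] (K : Type u) [Field K] [Algebra V[X] K]

theorem isIntegrallyClosed_valuationRing : IsIntegrallyClosed V := by
  classical
  haveI : GCDMonoid V := IsBezout.toGCDDomain V
  infer_instance

/-- A common content of finitely many elements. -/
theorem exists_dvd_all {ι : Type*} (s : Finset ι) (f : ι → V) (hs : s.Nonempty) :
    ∃ i ∈ s, ∀ j ∈ s, f i ∣ f j := by
  classical
  induction hs using Finset.Nonempty.cons_induction with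
  | singleton a => exact ⟨a, Finset.mem_singleton_self a, fun j hj => by rw [Finset.mem_singleton.1 hj]⟩
  | cons a s has hs ih =>
    obtain ⟨i, hi, hall⟩ := ih
    rcases ValuationRing.dvd_total (f a) (f i) with h | h
    · exact ⟨a, Finset.mem_cons_self a s, fun j hj => by
        rcases Finset.mem_cons.1 hj with rfl | hj
        · rfl
        · exact h.trans (hall j hj)⟩
    · exact ⟨i, Finset.mem_cons.2 (Or.inr hi), fun j hj => by
        rcases Finset.mem_cons.1 hj with rfl | hj
        · exact h
        · exact hall j hj⟩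

/-- Splitting off the content. -/
theorem exists_content (p : V[X]) (hp : p ≠ 0) :
    ∃ (c : V) (q : V[X]), c ≠ 0 ∧ p = C c * q ∧ q ∉ (maximalIdeal V).map (C : V →+* V[X]) := by
  obtain ⟨i, hi, hall⟩ := exists_dvd_all V p.support p.coeff (support_nonempty.2 hp)
  have hc : p.coeff i ≠ 0 := mem_support_iff.1 hi
  obtain ⟨q, hq⟩ : C (p.coeff i) ∣ p := C_dvd_iff_dvd_coeff _ _ |>.2 fun j => by
    by_cases hj : j ∈ p.support
    · exact hall j hj
    · rw [notMem_support_iff.1 hj]; exact dvd_zero _
  refine ⟨_, q, hc, hq, fun hmem => ?_⟩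
  have h1 := congrArg (fun r => r.coeff i) hq
  simp only [coeff_C_mul] at h1
  have h2 : q.coeff i = 1 := mul_left_cancel₀ hc (h1.symm.trans (mul_one _).symm)
  have h3 := Ideal.mem_map_C_iff.1 hmem i
  rw [h2] at h3
  exact (maximalIdeal.isMaximal V).ne_top ((Ideal.eq_top_iff_one _).2 h3)

/-- Elements of the base lying outside the special prime are units upstairs. -/
theorem isUnit_henz (hker : RingHom.ker (algebraMap V[X] K) = (maximalIdeal V).map (C : V →+* V[X]))
    {q : V[X]} (hq : q ∉ (maximalIdeal V).map (C : V →+* V[X])) : IsUnit (algebraMap V[X] (Henz V[X] K) q) := by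
  rw [AlgSpDec.EtHenz.isUnit_iff, AlgHom.commutes]
  exact fun h => hq (hker ▸ RingHom.mem_ker.2 h)

theorem henz_facts : IsDomain (Henz V[X] K) ∧ IsIntegrallyClosed (Henz V[X] K) ∧
    Function.Injective (algebraMap V[X] (Henz V[X] K)) := by
  haveI := isIntegrallyClosed_valuationRing V
  obtain ⟨h1, h2⟩ := Hensel.isDomain_isIntegrallyClosed_henz (R := V[X]) (L := K)
  refine ⟨h1, h2, (injective_iff_map_eq_zero _).2 fun a ha => ?_⟩
  by_contra h
  have h3 := Module.Flat.isSMulRegular_of_nonZeroDivisors (M := Henz V[X] K) (mem_nonZeroDivisors_of_ne_zero h)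
    (show a • (1 : Henz V[X] K) = a • 0 by rw [smul_zero, Algebra.smul_def, ha, zero_mul])
  exact one_ne_zero h3

variable [IsDomain (Henz V[X] K)] [IsIntegrallyClosed (Henz V[X] K)] {F : Type u} [Field F]
  [Algebra (Henz V[X] K) F] [IsFractionRing (Henz V[X] K) F]

local notation "jR" => RingHom.comp (algebraMap (Henz V[X] K) F) (algebraMap V[X] (Henz V[X] K))

/-- Every element of the fraction field is algebraic. -/
theorem exists_root_poly (x : F) : ∃ f : V[X][X], f ≠ 0 ∧ f.eval₂ jR x = 0 := by
  letI : Algebra V[X] F := (jR).toAlgebra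
  haveI : IsScalarTower V[X] (Henz V[X] K) F := .of_algebraMap_eq' rfl
  have hinj : Function.Injective (algebraMap V[X] F) :=
    (IsFractionRing.injective (Henz V[X] K) F).comp (henz_facts V K).2.2
  let L := FractionRing V[X]
  letI : Algebra L F := (IsFractionRing.lift hinj).toAlgebra
  haveI : IsScalarTower V[X] L F := .of_algebraMap_eq fun r => (IsFractionRing.lift_algebraMap hinj r).symm
  have key : ∀ z : Henz V[X] K, IsIntegral L (algebraMap (Henz V[X] K) F z) := by
    intro z
    obtain ⟨N, b, rfl⟩ := Henz.exists_ofB z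
    let φ : L ⊗[V[X]] N.B →ₐ[L] F := Algebra.TensorProduct.lift (Algebra.ofId L F)
      ((IsScalarTower.toAlgHom V[X] (Henz V[X] K) F).comp (Henz.ofB N)) fun _ _ => .all _ _
    haveI : Module.Finite L (L ⊗[V[X]] N.B) := Algebra.FormallyUnramified.finite_of_free L _
    have e : φ (1 ⊗ₜ b) = algebraMap (Henz V[X] K) F (Henz.ofB N b) := by
      simp [φ]
    rw [← e]
    exact (Algebra.IsIntegral.isIntegral (R := L) _).map φ
  obtain ⟨a, b, -, rfl⟩ := IsFractionRing.div_surjective (A := Henz V[X] K) x
  have hx : IsIntegral L (algebraMap (Henz V[X] K) F a / algebraMap (Henz V[X] K) F b) := by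
    rw [div_eq_mul_inv]
    exact (key a).mul (key b).inv
  obtain ⟨f, hf, hf0⟩ := (IsFractionRing.isAlgebraic_iff V[X] L F).2 hx.isAlgebraic
  exact ⟨f, hf, hf0⟩

/-- The strict localization is a valuation ring. -/
theorem mem_or_inv_mem_henz (hker : RingHom.ker (algebraMap V[X] K) = (maximalIdeal V).map (C : V →+* V[X]))
    (x : F) : (∃ w, algebraMap (Henz V[X] K) F w = x) ∨ ∃ w, algebraMap (Henz V[X] K) F w = x⁻¹ := by
  obtain ⟨f, hf, hf0⟩ := exists_root_poly V K x
  choose c q hc hpq hq using fun j : f.support => exists_content V (f.coeff j) (mem_support_iff.1 j.2)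
  haveI : Nonempty f.support := (support_nonempty.2 hf).to_subtype
  obtain ⟨i, -, hall⟩ := exists_dvd_all V Finset.univ c Finset.univ_nonempty
  obtain ⟨g, hg⟩ : C (C (c i)) ∣ f := C_dvd_iff_dvd_coeff _ _ |>.2 fun j => by
    by_cases hj : j ∈ f.support
    · rw [hpq ⟨j, hj⟩]
      exact ((C : V →+* V[X]).map_dvd (hall ⟨j, hj⟩ (Finset.mem_univ _))).mul_right _
    · rw [notMem_support_iff.1 hj]; exact dvd_zero _
  have hgi : g.coeff i = q i := by
    have h1 : f.coeff i = C (c i) * g.coeff i := by
      have e := congrArg (fun r => r.coeff (i : ℕ)) hg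
      simp only [coeff_C_mul] at e
      exact e
    exact mul_left_cancel₀ (fun h => hc i (C_eq_zero.1 h)) (h1.symm.trans (hpq i))
  have hd : jR (C (c i)) ≠ 0 := fun h => hc i (C_eq_zero.1
    (((IsFractionRing.injective (Henz V[X] K) F).comp (henz_facts V K).2.2) (h.trans (map_zero jR).symm)))
  rw [hg, eval₂_mul, eval₂_C, mul_eq_zero, or_iff_right hd] at hf0
  refine mem_or_inv_mem x _ (g.map (algebraMap V[X] (Henz V[X] K))) le_rfl ?_ ⟨i, ?_⟩
  · rw [aeval_def, eval₂_map]
    exact hf0
  · rw [coeff_map, hgi]
    exact isUnit_henz V K hker (hq i)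

end Val

end Groth.Agent.SmoothLA
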